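import Cfsg.Agent.BlockNormal85.Setup
import Cfsg.Agent.AltCover.Main
import Cfsg.Agent.S2984
import Cfsg.Agent.PLocal.CommutatorFacts

/-!
# The Baumann subgroup on the two layers of an exceptional block

Every element of `B(T)` acts linearly, hence quadratically, on both natural layers, and the
elementary abelian subgroups of `T` of largest order lying in `C(U)` generate a subgroup `J₀`
whose `Ω₁(Z)` contains `Ω₁(Z(J(T)))`.
-/

set_option linter.style.haveILetI false
set_option linter.unusedSectionVars false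

namespace CfsgLib.BlockNormal85

open Subgroup Cfsg
open scoped commutatorElement

variable {G : Type*} [Group G] [Finite G] {T : Sylow 3 G} {E : Subgroup G} {F : Type*} [Field F]
  [Fintype F] {n : ℕ} [Fact (Nat.Prime 3)] {z : G} {ι : (Fin 2 → F) → G}
  {π : ↥(pCoreOf 3 E) →* Multiplicative (Fin 2 → F)}

local notation "𝐑" => pCore 3 G
local notation "𝐕" => omegaOneCenter 3 (pCore 3 G)
local notation "𝐐" => pCoreOf 3 E
local notation "𝐖" => omegaOneCenter 3 (pCoreOf 3 E)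
local notation "𝐙" => omegaOneCenter 3 (pCoreOf 3 E) ⊓ centralizer (E : Set G)
local notation "𝐔" => (⁅omegaOneCenter 3 (pCore 3 G), E⁆ : Subgroup G)
local notation "𝐁" => baumannSubgroupOf 3 (T : Subgroup G)
local notation "SL2'" => commutator (Matrix.SpecialLinearGroup (Fin 2) F)
local notation "V2" => Fin 2 → F

/-- `J₀`: generated by the elementary abelian subgroups of `T` of largest order centralising `U`. -/
def J0 (T : Sylow 3 G) (E : Subgroup G) : Subgroup G :=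
  sSup {A | A ∈ PLocal.maxEAIn 3 (T : Subgroup G) ∧
    A ≤ centralizer ((⁅omegaOneCenter 3 (pCore 3 G), E⁆ : Subgroup G) : Set G)}

namespace Nat2

variable (h : Exc T E F n) (N : Nat2 E F z ι π)
include N

theorem zero : ι 0 = 1 := by
  have := N.add 0 0
  rw [add_zero] at this
  exact left_eq_mul.mp this

theorem ι_mem (v : V2) : ι v ∈ 𝐔 := (N.mem _).mpr ⟨v, rfl⟩

theorem ι_inv (v : V2) : (ι v)⁻¹ = ι (-v) := by
  refine inv_eq_of_mul_eq_one_right ?_
  rw [← N.add, add_neg_cancel, N.zero]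

theorem exists_conj {g : G} (hg : g ∈ normalizer (𝐔 : Set G)) :
    ∃ β : V2 ≃+ V2, ∀ v, g * ι v * g⁻¹ = ι (β v) := by
  have hex : ∀ v, ∃ w, ι w = g * ι v * g⁻¹ := fun v =>
    (N.mem _).mp ((mem_normalizer_iff.mp hg _).mp (N.ι_mem v))
  choose f hf using hex
  have hadd : ∀ u v, f (u + v) = f u + f v := fun u v => N.inj (by
    rw [hf, N.add, N.add, hf, hf]; group)
  have hinj : Function.Injective f := fun u v huv => N.inj (by
    have := (hf u).symm.trans ((congrArg ι huv).trans (hf v))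
    simpa using this)
  exact ⟨AddEquiv.ofBijective (AddMonoidHom.mk' f hadd) (Finite.injective_iff_bijective.mp hinj),
    fun v => (hf v).symm⟩

include h

theorem E_centralizer_U {e : G} (he : e ∈ E) (hc : e ∈ centralizer (𝐔 : Set G)) : e ∈ 𝐐 := by
  obtain ⟨-, -, ρ, ψ, hρ, hψ, hker, hact⟩ := h.secW
  have hk := Exc.ker_eq h.iso hρ hψ hker hact (fun q hq u hu => by
      rw [mem_centralizer_iff.mp (Exc.W_le_centralizer_Q hu) q hq, mul_inv_cancel_right,
        mul_inv_cancel]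
      exact one_mem _) ⟨e, he⟩
  refine hk.mp (Subtype.ext (matrix_eq_one_of_mulVec fun v => ?_))
  obtain ⟨u, hu⟩ := hψ (Multiplicative.ofAdd v)
  obtain ⟨w, hw, hw'⟩ := hact ⟨e, he⟩ u
  have hcW : e * (u : G) = u * e := by
    have hle : 𝐖 ≤ centralizer ({e} : Set G) := by
      rw [h.W_eq]
      refine sup_le (fun a ha => ?_) (fun a ha => ?_)
      · exact mem_centralizer_iff.mpr fun y hy => by
          rw [Set.mem_singleton_iff.mp hy]; exact (mem_centralizer_iff.mp hc a ha).symm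
      · exact mem_centralizer_iff.mpr fun y hy => by
          rw [Set.mem_singleton_iff.mp hy]; exact mem_centralizer_iff.mp ha.2 e he
    exact mem_centralizer_iff.mp (hle u.2) e rfl
  have : w = u := Subtype.ext (by rw [hw, hcW, mul_inv_cancel_right])
  rw [this, hu] at hw'
  simpa using hw'.symm

theorem U_inf_Z {u : G} (hu : u ∈ 𝐔) (hZ : u ∈ centralizer (E : Set G)) : u = 1 := by
  obtain ⟨v, rfl⟩ := (N.mem _).mp hu
  have e : ι (-v) = ι v := by
    rw [← N.zU, mem_centralizer_iff.mp hZ z N.zE, mul_inv_cancel_right]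
  have hv : v + v = 0 := by nth_rw 1 [← N.inj e]; exact neg_add_cancel v
  rw [← two_smul F, smul_eq_zero] at hv
  rw [hv.resolve_left h.two_ne, N.zero]

omit N in
theorem U_le_T : 𝐔 ≤ (T : Subgroup G) :=
  (Exc.U_le_V.trans (LocalEven50.omegaOneCenter_le _)).trans (PLocal.pCore_le_sylow T)

omit N in
theorem B_le_normalizer_E : 𝐁 ≤ normalizer (E : Set G) :=
  LocalEven50.baumann_le_normalizer_block h.block

omit N in
theorem B_le_normalizer_Q : 𝐁 ≤ normalizer (𝐐 : Set G) :=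
  (B_le_normalizer_E h).trans (LocalStructure.normalizer_le_normalizer_pCoreOf E)

omit N in
theorem B_le_normalizer_Z : 𝐁 ≤ normalizer ((𝐙 : Subgroup G) : Set G) :=
  LocalEven50.le_normalizer_inf
    ((B_le_normalizer_Q h).trans (LocalEven50.normalizer_le_normalizer_omegaOneCenter _))
    ((B_le_normalizer_E h).trans (CharPLocal.normalizer_le_normalizer_centralizer E))

omit N in
theorem B_le_normalizer_U : 𝐁 ≤ normalizer (𝐔 : Set G) :=
  (le_inf (Exc.le_normalizer_V _) (B_le_normalizer_E h)).trans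
    (CharPLocal.inf_normalizer_le_normalizer_commutator _ E)

theorem semilinear {b : G} (hbE : b ∈ normalizer (E : Set G)) {β : V2 ≃+ V2}
    (hβ : ∀ v, b * ι v * b⁻¹ = ι (β v)) :
    ∃ σ : F ≃+* F, ∀ (c : F) (v : V2), β (c • v) = σ c • β v := by
  refine exists_ringEquiv_of_normalizing h.h3 β fun g hg => ?_
  obtain ⟨e, he, hea⟩ := N.ontoU g hg
  obtain ⟨g', hg', hga⟩ := N.actU _ ((mem_normalizer_iff.mp hbE e).mp he)
  refine ⟨g', hg', fun v => N.inj ?_⟩
  rw [← hβ, ← hea, ← hga, ← hβ]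
  group

theorem maxEA_linear {A : Subgroup G} (hA : A ∈ PLocal.maxEAIn 3 (T : Subgroup G)) :
    (∀ g ∈ A, ∀ (β : V2 ≃+ V2), (∀ v, g * ι v * g⁻¹ = ι (β v)) →
      ∀ (c : F) (v : V2), β (c • v) = c • β v) ∧
    (A ⊓ centralizer (𝐔 : Set G)) ⊔ 𝐔 ∈ PLocal.maxEAIn 3 (T : Subgroup G) := by
  classical
  haveI := h.charThree
  have hAB : A ≤ 𝐁 :=
    (PLocal.le_thompsonSubgroupOf hA).trans (LocalEven50.thompsonSubgroupOf_le_baumann _)
  have hAU : A ≤ normalizer (𝐔 : Set G) := hAB.trans (B_le_normalizer_U h)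
  have hAcomm := hA.2.1.1
  choose β hβ using fun g : ↥A => N.exists_conj (hAU g.2)
  have huniq : ∀ (g : ↥A) (f : V2 → V2), (∀ v, (g : G) * ι v * (g : G)⁻¹ = ι (f v)) →
      ∀ v, β g v = f v := fun g f hf v => N.inj ((hβ g v).symm.trans (hf v))
  let θ : ↥A →* Equiv.Perm V2 :=
    { toFun := fun g => (β g).toEquiv
      map_one' := Equiv.ext fun v => huniq 1 id (fun v => by simp) v
      map_mul' := fun g g' => Equiv.ext fun v => huniq (g * g') (fun v => β g (β g' v))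
        (fun v => by
          rw [← hβ g, ← hβ g', Subgroup.coe_mul]
          group) v }
  have hker : θ.ker = (A ⊓ centralizer (𝐔 : Set G)).subgroupOf A := by
    ext g
    rw [MonoidHom.mem_ker, mem_subgroupOf]
    constructor
    · intro hg
      refine ⟨g.2, mem_centralizer_iff.mpr fun u hu => ?_⟩
      obtain ⟨v, rfl⟩ := (N.mem _).mp hu
      have h1 := hβ g v
      rw [show β g v = v from Equiv.ext_iff.mp hg v, mul_inv_eq_iff_eq_mul] at h1
      exact h1.symm
    · intro hg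
      refine Equiv.ext fun v => huniq g id (fun v => ?_) v
      rw [← mem_centralizer_iff.mp hg.2 _ (N.ι_mem v), mul_inv_cancel_right, id]
  letI : CommGroup ↥θ.range :=
    { (inferInstance : Group ↥θ.range) with
      mul_comm := by
        rintro ⟨_, x, rfl⟩ ⟨_, y, rfl⟩
        refine Subtype.ext ?_
        show θ x * θ y = θ y * θ x
        rw [← map_mul, ← map_mul, show x * y = y * x from hAcomm.1.comm x y] }
  let a : ↥θ.range → (V2 → V2) := fun x => ⇑(x : Equiv.Perm V2)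
  have hfix : Nat.card {v : V2 // ∀ x : ↥θ.range, a x v = v} =
      Nat.card ↥((A ⊓ centralizer (𝐔 : Set G)) ⊓ 𝐔) := by
    refine Nat.card_congr (Equiv.ofBijective (fun v => ⟨ι v.1, ?_⟩) ⟨?_, ?_⟩)
    · have hvA : ι v.1 ∈ A := by
        have hel : IsElementaryAbelian 3 (A ⊔ zpowers (ι v.1)) := by
          refine PLocal.isElementaryAbelian_sup hA.2.1 (PLocal.isElementaryAbelian_zpowers ?_)
            (le_centralizer_iff.mp (zpowers_le.mpr ?_))
          · exact (LocalEven50.isElementaryAbelian_omegaOneCenter 𝐑).2 _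
              (Exc.U_le_V (N.ι_mem _))
          · refine mem_centralizer_iff.mpr fun g hg => ?_
            have := hβ ⟨g, hg⟩ v.1
            rw [show β ⟨g, hg⟩ v.1 = v.1 from v.2 ⟨θ ⟨g, hg⟩, _, rfl⟩, mul_inv_eq_iff_eq_mul]
              at this
            exact this
        have := eq_of_le_of_card_ge le_sup_left (hA.2.2 _ (sup_le hA.1
          (zpowers_le.mpr (U_le_T h (N.ι_mem _)))) hel)
        exact this.ge (mem_sup_right (mem_zpowers _))
      refine ⟨⟨hvA, mem_centralizer_iff.mpr fun u hu => ?_⟩, N.ι_mem _⟩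
      obtain ⟨w, rfl⟩ := (N.mem _).mp hu
      rw [← N.add, ← N.add, add_comm]
    · intro v w hvw
      exact Subtype.ext (N.inj (congrArg Subtype.val hvw))
    · rintro ⟨u, ⟨huA, -⟩, hu⟩
      obtain ⟨v, rfl⟩ := (N.mem _).mp hu
      refine ⟨⟨v, ?_⟩, rfl⟩
      rintro ⟨_, g, rfl⟩
      refine N.inj ?_
      show ι (β g v) = ι v
      rw [← hβ, show (g : G) * ι v = ι v * g from
        congrArg Subtype.val (hAcomm.1.comm g ⟨_, huA⟩), mul_inv_cancel_right]
  have hV : Nat.card V2 = Nat.card 𝐔 :=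
    Nat.card_congr (Equiv.ofBijective (fun v => (⟨ι v, N.ι_mem v⟩ : ↥𝐔))
      ⟨fun v w e => N.inj (congrArg Subtype.val e), fun ⟨u, hu⟩ => by
        obtain ⟨v, rfl⟩ := (N.mem _).mp hu
        exact ⟨v, rfl⟩⟩)
  set AC := A ⊓ centralizer (𝐔 : Set G) with hAC
  have hUel : IsElementaryAbelian 3 𝐔 :=
    PLocal.isElementaryAbelian_of_le (LocalEven50.isElementaryAbelian_omegaOneCenter 𝐑) Exc.U_le_V
  have hUC : AC ≤ centralizer (𝐔 : Set G) := inf_le_right
  have hel : IsElementaryAbelian 3 (AC ⊔ 𝐔) :=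
    PLocal.isElementaryAbelian_sup (PLocal.isElementaryAbelian_of_le hA.2.1 inf_le_left) hUel hUC
  have hle : AC ⊔ 𝐔 ≤ (T : Subgroup G) := sup_le (inf_le_left.trans hA.1) (U_le_T h)
  have hcard := PLocal.card_sup_mul_card_inf (A := AC) (B := 𝐔)
    (hUC.trans (centralizer_le_normalizer _))
  have hA1 : Nat.card A = Nat.card AC * Nat.card θ.range := by
    rw [θ.ker.card_eq_card_quotient_mul_card_subgroup, mul_comm,
      Nat.card_congr (QuotientGroup.quotientKerEquivRange θ).toEquiv]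
    congr 1
    rw [hker]
    exact Nat.card_congr (subgroupOfEquivOfLe inf_le_left).toEquiv
  have hmax : Nat.card ↥(AC ⊔ 𝐔) ≤ Nat.card A := hA.2.2 _ hle hel
  have hoff : Nat.card V2 ≤ Nat.card θ.range * Nat.card {v : V2 // ∀ x : ↥θ.range, a x v = v} := by
    rw [hfix, hV]
    refine Nat.le_of_mul_le_mul_left ?_ (Nat.card_pos (α := ↥AC))
    calc Nat.card AC * Nat.card 𝐔 = Nat.card ↥(AC ⊔ 𝐔) * Nat.card ↥(AC ⊓ 𝐔) := hcard.symm
      _ ≤ Nat.card A * Nat.card ↥(AC ⊓ 𝐔) := Nat.mul_le_mul_right _ hmax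
      _ = _ := by rw [hA1, mul_assoc]
  have hres := semilinear_offender a rfl (fun _ _ => rfl)
    (fun x y e => Subtype.ext (DFunLike.coe_injective e)) (by
      rintro ⟨_, g, rfl⟩
      refine Subtype.ext ?_
      show θ g ^ 3 = 1
      rw [← map_pow, show g ^ 3 = 1 from Subtype.ext (hA.2.1.2 g g.2), map_one]) (by
      rintro ⟨_, g, rfl⟩
      obtain ⟨σ, hσ⟩ := N.semilinear h
        (B_le_normalizer_E h (hAB g.2)) (hβ g)
      exact ⟨σ, fun u v => map_add (β g) u v, hσ⟩) hoff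
  refine ⟨fun g hg f hf c v => ?_, hle, hel, fun C hCT hC => ?_⟩
  · have := hres.1 ⟨θ ⟨g, hg⟩, _, rfl⟩ c v
    change β ⟨g, hg⟩ (c • v) = c • β ⟨g, hg⟩ v at this
    rwa [huniq ⟨g, hg⟩ f hf, huniq ⟨g, hg⟩ f hf] at this
  · refine (hA.2.2 C hCT hC).trans ?_
    refine Nat.le_of_mul_le_mul_right ?_ (Nat.card_pos (α := ↥(AC ⊓ 𝐔)))
    rw [hcard, hA1, mul_assoc]
    refine Nat.mul_le_mul_left _ ?_
    rw [← hfix, ← hV]
    exact hres.2

theorem exists_not_centralizing : ∃ A ∈ PLocal.maxEAIn 3 (T : Subgroup G),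
    ¬ A ≤ centralizer (𝐔 : Set G) := by
  by_contra hall
  push Not at hall
  have hW := (Cfsg.Agent.S2984.result h.charP T E h.block).2.2
  rw [h.WE_eq, commutator_comm] at hW
  apply hW
  rw [commutator_eq_bot_iff_le_centralizer, PLocal.thompsonSubgroupOf_eq]
  exact sSup_le hall

theorem exists_J0_member : ∃ A ∈ PLocal.maxEAIn 3 (T : Subgroup G),
    A ≤ centralizer (𝐔 : Set G) := by
  obtain ⟨A, hA⟩ := PLocal.maxEAIn_nonempty 3 (T : Subgroup G)
  refine ⟨_, (N.maxEA_linear h hA).2, sup_le inf_le_right ?_⟩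
  exact le_centralizer_iff_isMulCommutative.mpr
    (PLocal.isElementaryAbelian_of_le (LocalEven50.isElementaryAbelian_omegaOneCenter 𝐑)
      Exc.U_le_V).1

/-- Elements of `B(T)` act linearly on `U`. -/
theorem linear_U {b : G} (hb : b ∈ 𝐁) {β : V2 ≃+ V2} (hβ : ∀ v, b * ι v * b⁻¹ = ι (β v))
    (c : F) (v : V2) : β (c • v) = c • β v := by
  obtain ⟨σ, hσ⟩ := N.semilinear h (B_le_normalizer_E h hb) hβ
  set J := thompsonSubgroupOf 3 (T : Subgroup G) with hJ
  have hJT : J ≤ (T : Subgroup G) := PLocal.thompsonSubgroupOf_le _ _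
  have hJB : J ≤ 𝐁 := LocalEven50.thompsonSubgroupOf_le_baumann _
  let L : Subgroup G :=
    { carrier := {g | ∃ f : V2 ≃+ V2, (∀ v, g * ι v * g⁻¹ = ι (f v)) ∧
        ∀ (c : F) (v : V2), f (c • v) = c • f v}
      one_mem' := ⟨AddEquiv.refl _, fun v => by simp, fun c v => rfl⟩
      mul_mem' := by
        rintro g g' ⟨f, hf, hfl⟩ ⟨f', hf', hfl'⟩
        refine ⟨f'.trans f, fun v => ?_, fun c v => ?_⟩
        · rw [AddEquiv.trans_apply, ← hf, ← hf']; group
        · rw [AddEquiv.trans_apply, hfl', hfl]; rfl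
      inv_mem' := by
        rintro g ⟨f, hf, hfl⟩
        refine ⟨f.symm, fun v => ?_, fun c v => f.injective ?_⟩
        · have := hf (f.symm v)
          rw [AddEquiv.apply_symm_apply] at this
          rw [← this]; group
        · rw [AddEquiv.apply_symm_apply, hfl, AddEquiv.apply_symm_apply] }
  have hJL : J ≤ L := by
    rw [hJ, PLocal.thompsonSubgroupOf_eq]
    refine sSup_le fun A hA g hg => ?_
    obtain ⟨f, hf⟩ := N.exists_conj (B_le_normalizer_U h (hJB (PLocal.le_thompsonSubgroupOf hA hg)))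
    exact ⟨f, hf, (N.maxEA_linear h hA).1 g hg f hf⟩
  have hUp : IsPGroup 3 𝐔 := T.isPGroup'.to_le (U_le_T h)
  have hne : ¬ 𝐔 ≤ (⊥ : Subgroup G) := by
    intro hle
    obtain ⟨v, hv⟩ := exists_ne (0 : V2)
    exact hv (N.inj ((mem_bot.mp (hle (N.ι_mem v))).trans N.zero.symm))
  obtain ⟨x, hx, hx1, hxJ⟩ := LocalEven48.exists_not_mem_commutator_mem hUp
    (T.isPGroup'.to_le hJT) (hJB.trans (B_le_normalizer_U h)) hne
  obtain ⟨v₀, rfl⟩ := (N.mem _).mp hx
  have hv₀ : v₀ ≠ 0 := fun h0 => hx1 (by rw [h0, N.zero]; exact one_mem _)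
  have hZJ : ∀ d : F, ι (d • v₀) ∈ omegaOne 3 (centerThompsonOf 3 (T : Subgroup G)) := by
    intro d
    have hc : ι (d • v₀) ∈ centralizer (J : Set G) := by
      refine mem_centralizer_iff.mpr fun g hg => ?_
      obtain ⟨f, hf, hfl⟩ := hJL hg
      have h0 : f v₀ = v₀ := N.inj (by
        rw [← hf]; exact mul_inv_eq_iff_eq_mul.mpr (commutatorElement_eq_one_iff_mul_comm.mp
          (mem_bot.mp (hxJ g hg))))
      have := hf (d • v₀)
      rw [hfl, h0, mul_inv_eq_iff_eq_mul] at this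
      exact this
    refine PLocal.mem_omegaOne ⟨?_, hc⟩ ((LocalEven50.isElementaryAbelian_omegaOneCenter 𝐑).2 _
      (Exc.U_le_V (N.ι_mem _)))
    obtain ⟨A, hA⟩ := PLocal.maxEAIn_nonempty 3 (T : Subgroup G)
    have hel : IsElementaryAbelian 3 (A ⊔ zpowers (ι (d • v₀))) :=
      PLocal.isElementaryAbelian_sup hA.2.1 (PLocal.isElementaryAbelian_zpowers
        ((LocalEven50.isElementaryAbelian_omegaOneCenter 𝐑).2 _ (Exc.U_le_V (N.ι_mem _))))
        (le_centralizer_iff.mp (zpowers_le.mpr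
          (centralizer_le (PLocal.le_thompsonSubgroupOf hA) hc)))
    have := eq_of_le_of_card_ge le_sup_left (hA.2.2 _ (sup_le hA.1
      (zpowers_le.mpr (U_le_T h (N.ι_mem _)))) hel)
    exact PLocal.le_thompsonSubgroupOf hA (this.ge (mem_sup_right (mem_zpowers _)))
  have hfix : ∀ d : F, β (d • v₀) = d • v₀ := fun d => N.inj (by
    rw [← hβ, ← mem_centralizer_iff.mp hb.2 _ (hZJ d), mul_inv_cancel_right])
  have hσ1 : ∀ d : F, σ d = d := fun d => by
    have h1 := hσ d v₀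
    rw [hfix, show β v₀ = v₀ by simpa using hfix 1] at h1
    exact smul_left_injective F hv₀ h1.symm
  rw [hσ, hσ1]

theorem iterate_eq {b : G} (hb : b ∈ 𝐁) {β : V2 ≃+ V2} (hβ : ∀ v, b * ι v * b⁻¹ = ι (β v)) :
    ∃ k : ℕ, ∀ v, (⇑β)^[3 ^ k] v = v := by
  obtain ⟨k, hk⟩ := T.isPGroup' ⟨b, hb.1⟩
  have hk' : b ^ 3 ^ k = 1 := congrArg Subtype.val hk
  have hit : ∀ i v, ι ((⇑β)^[i] v) = b ^ i * ι v * (b ^ i)⁻¹ := by
    intro i
    induction i with
    | zero => simp
    | succ i ih =>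
      intro v
      rw [Function.iterate_succ_apply', ← hβ, ih, pow_succ']
      group
  exact ⟨k, fun v => N.inj (by rw [hit, hk']; simp)⟩

/-- Elements of `B(T)` act linearly on `Q / W`. -/
theorem linear_Q {b : G} (hb : b ∈ 𝐁) :
    ∃ γ : V2 →ₗ[F] V2, ∀ x y : ↥𝐐, (y : G) = b * (x : G) * b⁻¹ →
      Multiplicative.toAdd (π y) = γ (Multiplicative.toAdd (π x)) := by
  classical
  have hbQ := B_le_normalizer_Q h hb
  -- a general additive map from an element normalising `Q` and `W`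
  have hmap : ∀ g : G, g ∈ normalizer (𝐐 : Set G) →
      ∃ f : V2 →+ V2, ∀ x y : ↥𝐐, (y : G) = g * (x : G) * g⁻¹ →
        Multiplicative.toAdd (π y) = f (Multiplicative.toAdd (π x)) := by
    intro g hg
    let cg : ↥𝐐 →* ↥𝐐 :=
      { toFun := fun x => ⟨g * (x : G) * g⁻¹, (mem_normalizer_iff.mp hg _).mp x.2⟩
        map_one' := Subtype.ext (by simp)
        map_mul' := fun x y => Subtype.ext (by simp [mul_assoc]) }
    have hgW := LocalEven50.normalizer_le_normalizer_omegaOneCenter (p := 3) (X := 𝐐) hg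
    have hwd : ∀ x x' : ↥𝐐, π x = π x' → π (cg x) = π (cg x') := by
      intro x x' e
      rw [← mul_inv_eq_one, ← map_inv, ← map_mul, N.ker] at e
      rw [← mul_inv_eq_one, ← map_inv, ← map_mul, ← map_inv, ← map_mul, N.ker]
      exact (mem_normalizer_iff.mp hgW _).mp e
    choose s hs using fun v : V2 => N.surj (Multiplicative.ofAdd v)
    refine ⟨AddMonoidHom.mk' (fun v => Multiplicative.toAdd (π (cg (s v)))) (fun u v => ?_),
      fun x y hy => ?_⟩
    · rw [← toAdd_mul, ← map_mul, ← map_mul,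
        hwd (s (u + v)) (s u * s v) (by rw [map_mul, hs, hs, hs, ofAdd_add])]
    · rw [show y = cg x from Subtype.ext hy]
      exact congrArg Multiplicative.toAdd (hwd x (s (Multiplicative.toAdd (π x))) (hs _).symm)
  by_cases h1 : n = 1
  · obtain ⟨f, hf⟩ := hmap b hbQ
    haveI := h.charThree
    have hsurj : Function.Surjective (ZMod.castHom dvd_rfl F : ZMod 3 →+* F) := by
      refine ((Fintype.bijective_iff_injective_and_card _).mpr ⟨RingHom.injective _, ?_⟩).2
      rw [ZMod.card, h.card, h1, pow_one]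
    refine ⟨{ toFun := f, map_add' := map_add f, map_smul' := fun c v => ?_ }, hf⟩
    obtain ⟨j, rfl⟩ := hsurj c
    rw [RingHom.id_apply, ZMod.castHom_apply, ZMod.cast_eq_val, Nat.cast_smul_eq_nsmul,
      Nat.cast_smul_eq_nsmul, map_nsmul]
  · have h4 : 4 ≤ Fintype.card F := by
      rw [h.card]
      calc 4 ≤ 3 ^ 2 := by norm_num
        _ ≤ 3 ^ n := Nat.pow_le_pow_right (by norm_num) (by have := h.n_ne_zero; omega)
    obtain ⟨β, hβ⟩ := N.exists_conj (B_le_normalizer_U h hb)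
    let βl : V2 →ₗ[F] V2 :=
      { toFun := β, map_add' := map_add β, map_smul' := fun c v => N.linear_U h hb hβ c v }
    haveI := h.charThree
    obtain ⟨k, hk⟩ := N.iterate_eq h hb hβ
    have hpow : βl ^ 3 ^ k = 1 := LinearMap.ext fun w => by
      rw [Module.End.pow_apply]; exact hk w
    set M := LinearMap.toMatrix' βl with hM
    have hMk : M ^ 3 ^ k = 1 := by
      have h1 : (LinearMap.toMatrixAlgEquiv' βl) ^ 3 ^ k = 1 := by rw [← map_pow, hpow, map_one]
      exact h1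
    have hdet : M.det = 1 := by
      have h1 : (M.det - 1) ^ 3 ^ k = 0 := by
        rw [sub_pow_char_pow, ← Matrix.det_pow, hMk, Matrix.det_one, one_pow, sub_self]
      exact sub_eq_zero.mp ((pow_eq_zero_iff (pow_ne_zero k (by norm_num))).mp h1)
    obtain ⟨e, he, hea⟩ := N.ontoU ⟨M, hdet⟩ (by
      rw [CfsgLib.AltCover.commutator_sl_two h4]; exact mem_top _)
    set c := e⁻¹ * b with hc
    have hcU : c ∈ centralizer (𝐔 : Set G) := mem_centralizer_iff.mpr fun u hu => by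
      obtain ⟨v, rfl⟩ := (N.mem _).mp hu
      have h2 : e * ι v * e⁻¹ = b * ι v * b⁻¹ := by
        rw [hea, hβ]
        congr 1
        show M.mulVec v = β v
        rw [hM, LinearMap.toMatrix'_mulVec]
        rfl
      calc ι v * c = e⁻¹ * (e * ι v * e⁻¹) * b := by rw [hc]; group
        _ = c * ι v := by rw [h2, hc]; group
    have hcE : c ∈ normalizer (E : Set G) :=
      mul_mem (inv_mem (le_normalizer he)) (B_le_normalizer_E h hb)
    have hcQ : c ∈ normalizer (𝐐 : Set G) := LocalStructure.normalizer_le_normalizer_pCoreOf E hcE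
    obtain ⟨fc, hfc⟩ := hmap c hcQ
    obtain ⟨l, hl⟩ := exists_scalar_of_commute h.h3 fc (by
      intro g hg v
      obtain ⟨e', he', hea'⟩ := N.ontoQ g hg
      obtain ⟨x, hx⟩ := N.surj (Multiplicative.ofAdd v)
      have hv : v = Multiplicative.toAdd (π x) := by rw [hx]; rfl
      set q := c * e' * c⁻¹ * e'⁻¹ with hqdef
      have hqQ : q ∈ 𝐐 := N.E_centralizer_U h
        (E.mul_mem ((mem_normalizer_iff.mp hcE e').mp he') (E.inv_mem he'))
        (mem_centralizer_iff.mpr fun u hu => by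
          have hu' : e'⁻¹ * u * e' ∈ 𝐔 :=
            (mem_normalizer_iff''.mp (Exc.E_le_normalizer_U he') u).mp hu
          have h5 := mem_centralizer_iff.mp hcU _ hu
          have h7 := mem_centralizer_iff.mp (inv_mem hcU) _ hu'
          calc u * q = (u * c) * e' * c⁻¹ * e'⁻¹ := by rw [hqdef]; group
            _ = c * e' * ((e'⁻¹ * u * e') * c⁻¹) * e'⁻¹ := by rw [h5]; group
            _ = q * u := by rw [h7, hqdef]; group)
      have hEn := Exc.E_le_normalizer_Q (E := E)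
      set x1 : ↥𝐐 := ⟨e' * x * e'⁻¹, (mem_normalizer_iff.mp (hEn he') _).mp x.2⟩
      set x2 : ↥𝐐 := ⟨c * x * c⁻¹, (mem_normalizer_iff.mp hcQ _).mp x.2⟩
      set x3 : ↥𝐐 := ⟨e' * x2 * e'⁻¹, (mem_normalizer_iff.mp (hEn he') _).mp x2.2⟩
      have e4 : (⟨q, hqQ⟩ * x3 * ⟨q, hqQ⟩⁻¹ : ↥𝐐) =
          ⟨c * x1 * c⁻¹, (mem_normalizer_iff.mp hcQ _).mp x1.2⟩ :=
        Subtype.ext (by simp [x1, x2, x3, hqdef, mul_assoc])
      have e5 : π (⟨q, hqQ⟩ * x3 * ⟨q, hqQ⟩⁻¹ : ↥𝐐) = π x3 := by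
        rw [map_mul, map_mul, map_inv, mul_comm (π ⟨q, hqQ⟩), mul_inv_cancel_right]
      rw [hv, ← hea' x x1 rfl, ← hfc x x2 rfl, ← hea' x2 x3 rfl, ← e5, e4]
      exact (hfc x1 _ rfl).symm)
    obtain ⟨g, -, hga⟩ := N.actQ e he
    refine ⟨(Matrix.toLin' (g : Matrix (Fin 2) (Fin 2) F)).comp
      (l • (LinearMap.id : V2 →ₗ[F] V2)), fun x y hy => ?_⟩
    set x2 : ↥𝐐 := ⟨c * x * c⁻¹, (mem_normalizer_iff.mp hcQ _).mp x.2⟩
    rw [hga x2 y (by rw [hy]; simp [x2, hc, mul_assoc]), hfc x x2 rfl, hl]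
    simp only [LinearMap.comp_apply, LinearMap.smul_apply, LinearMap.id_apply, Matrix.toLin'_apply]

theorem quadratic_Q {b : G} (hb : b ∈ 𝐁) {x : G} (hx : x ∈ 𝐐) :
    b * (b * x * b⁻¹ * x⁻¹) * b⁻¹ * (b * x * b⁻¹ * x⁻¹)⁻¹ ∈ 𝐖 := by
  haveI := h.charThree
  obtain ⟨γ, hγ⟩ := N.linear_Q h hb
  have hbQ := B_le_normalizer_Q h hb
  set cb : ↥𝐐 → ↥𝐐 := fun u => ⟨b * u * b⁻¹, (mem_normalizer_iff.mp hbQ _).mp u.2⟩
  obtain ⟨k, hk⟩ := T.isPGroup' ⟨b, hb.1⟩
  have hk' : b ^ 3 ^ k = 1 := congrArg Subtype.val hk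
  have hit : ∀ v, (⇑γ)^[3 ^ k] v = v := by
    intro v
    obtain ⟨u, hu⟩ := N.surj (Multiplicative.ofAdd v)
    have h1 : ∀ i : ℕ, (⇑γ)^[i] v = Multiplicative.toAdd (π (cb^[i] u)) ∧
        ((cb^[i] u : ↥𝐐) : G) = b ^ i * u * (b ^ i)⁻¹ := by
      intro i
      induction i with
      | zero => simp [hu]
      | succ i ih =>
        rw [Function.iterate_succ_apply', Function.iterate_succ_apply']
        refine ⟨by rw [ih.1, hγ (cb^[i] u) (cb (cb^[i] u)) rfl], ?_⟩
        show b * _ * b⁻¹ = _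
        rw [ih.2, pow_succ']
        group
    obtain ⟨e1, e2⟩ := h1 (3 ^ k)
    rw [e1, show cb^[3 ^ k] u = u from Subtype.ext (by rw [e2, hk']; simp), hu]
    rfl
  set x' : ↥𝐐 := ⟨x, hx⟩
  set d : ↥𝐐 := cb x' * x'⁻¹
  have hd : Multiplicative.toAdd (π d) =
      γ (Multiplicative.toAdd (π x')) - Multiplicative.toAdd (π x') := by
    rw [map_mul, map_inv, toAdd_mul, toAdd_inv, hγ x' (cb x') rfl, sub_eq_add_neg]
  refine (N.ker (cb d * d⁻¹)).mp (Multiplicative.toAdd.injective ?_)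
  rw [map_mul, map_inv, toAdd_mul, toAdd_inv, hγ d (cb d) rfl, hd, linear_quadratic γ hit,
    add_neg_cancel, toAdd_one]

theorem quadratic_W {b : G} (hb : b ∈ 𝐁) {x : G} (hx : x ∈ 𝐖) :
    b * (b * x * b⁻¹ * x⁻¹) * b⁻¹ * (b * x * b⁻¹ * x⁻¹)⁻¹ ∈ 𝐙 := by
  haveI := h.charThree
  obtain ⟨β, hβ⟩ := N.exists_conj (B_le_normalizer_U h hb)
  let βl : V2 →ₗ[F] V2 :=
    { toFun := β, map_add' := map_add β, map_smul' := fun c v => N.linear_U h hb hβ c v }
  obtain ⟨k, hk⟩ := N.iterate_eq h hb hβ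
  have hUZ : 𝐔 ≤ normalizer ((𝐙 : Subgroup G) : Set G) := by
    refine (h.U_le_W.trans fun a ha => ?_).trans (centralizer_le_normalizer _)
    exact mem_centralizer_iff.mpr fun y hy => Exc.W_comm hy.1 ha
  obtain ⟨u, hu, w, hw, rfl⟩ := (coe_mul_of_left_le_normalizer_right _ _ hUZ).le (h.W_eq.le hx)
  obtain ⟨v, rfl⟩ := (N.mem _).mp hu
  simp only at *
  have hbZ := B_le_normalizer_Z h hb
  set w' := b * w * b⁻¹
  have hw' : w' ∈ 𝐙 := (mem_normalizer_iff.mp hbZ w).mp hw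
  have hcm : ∀ a ∈ 𝐙, ∀ t, a * ι t = ι t * a := fun a ha t =>
    Exc.W_comm ha.1 (h.U_le_W (N.ι_mem t))
  set w'' := w' * w⁻¹
  have hw'' : w'' ∈ 𝐙 := mul_mem hw' (inv_mem hw)
  have e1 : b * (ι v * w) * b⁻¹ * (ι v * w)⁻¹ = ι (β v - v) * w'' := by
    rw [sub_eq_add_neg, N.add, ← N.ι_inv, ← hβ]
    calc b * (ι v * w) * b⁻¹ * (ι v * w)⁻¹
        = b * ι v * b⁻¹ * (w'' * (ι v)⁻¹) := by simp only [w'', w']; group
      _ = _ := by rw [N.ι_inv, hcm w'' hw'' (-v)]; group
  rw [e1]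
  have hw3 : b * w'' * b⁻¹ ∈ 𝐙 := (mem_normalizer_iff.mp hbZ _).mp hw''
  have e2 : b * (ι (β v - v) * w'') * b⁻¹ * (ι (β v - v) * w'')⁻¹ =
      ι (β (β v - v)) * ((b * w'' * b⁻¹ * w''⁻¹) * (ι (β v - v))⁻¹) := by
    rw [← hβ]; group
  rw [e2, show β (β v - v) = β v - v from linear_quadratic βl hk v,
    N.ι_inv, hcm _ (mul_mem hw3 (inv_mem hw'')), ← mul_assoc, ← N.add, add_neg_cancel, N.zero,
    one_mul]
  exact mul_mem hw3 (inv_mem hw'')

theorem conj_z_mem {b : G} (hb : b ∈ 𝐁) : b * z * b⁻¹ * z⁻¹ ∈ 𝐐 := by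
  have hbU := B_le_normalizer_U h hb
  refine N.E_centralizer_U h
    (E.mul_mem ((mem_normalizer_iff.mp (B_le_normalizer_E h hb) z).mp N.zE) (E.inv_mem N.zE))
    (mem_centralizer_iff.mpr fun u hu => ?_)
  obtain ⟨v, rfl⟩ := (N.mem _).mp hu
  obtain ⟨β, hβ⟩ := N.exists_conj hbU
  have hzi : z⁻¹ = z := inv_eq_of_mul_eq_one_left N.zz
  have h1 : z⁻¹ * ι v * z = ι (-v) := by rw [← N.zU v, hzi]
  obtain ⟨w, hw⟩ := β.surjective (-v)
  have h2 : b⁻¹ * ι (-v) * b = ι w := by rw [← hw, ← hβ]; group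
  have h3 : b * z * b⁻¹ * ι (-v) * (b * z * b⁻¹)⁻¹ = ι v := by
    calc b * z * b⁻¹ * ι (-v) * (b * z * b⁻¹)⁻¹
        = b * (z * (b⁻¹ * ι (-v) * b) * z⁻¹) * b⁻¹ := by group
      _ = ι v := by rw [h2, N.zU, hβ, map_neg, hw, neg_neg]
  calc ι v * (b * z * b⁻¹ * z⁻¹)
      = (b * z * b⁻¹ * ι (-v) * (b * z * b⁻¹)⁻¹) * (b * z * b⁻¹ * z⁻¹) := by rw [h3]
    _ = b * z * b⁻¹ * (ι (-v) * z⁻¹) := by group
    _ = b * z * b⁻¹ * (z⁻¹ * ι v) := by rw [← h1]; group
    _ = _ := by group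

omit N in
theorem inf_commutator_le : ⁅𝐁 ⊓ centralizer (𝐔 : Set G), E⁆ ≤ E ⊓ centralizer (𝐔 : Set G) := by
  rw [commutator_le]
  intro c hc e he
  refine ⟨?_, ?_⟩
  · rw [commutatorElement_def, mul_assoc, mul_assoc, ← mul_assoc c, ← mul_assoc]
    exact E.mul_mem ((mem_normalizer_iff.mp (B_le_normalizer_E h hc.1) e).mp he) (E.inv_mem he)
  · rw [commutatorElement_def, mul_assoc, mul_assoc, ← mul_assoc e]
    exact Subgroup.mul_mem _ hc.2 ((mem_normalizer_iff.mp
      (CharPLocal.normalizer_le_normalizer_centralizer _ (Exc.E_le_normalizer_U he)) _).mp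
        (inv_mem hc.2))

theorem J0_le : J0 T E ≤ 𝐁 ⊓ centralizer (𝐔 : Set G) :=
  sSup_le fun _ hA => le_inf
    ((PLocal.le_thompsonSubgroupOf hA.1).trans (LocalEven50.thompsonSubgroupOf_le_baumann _)) hA.2

theorem E_le_normalizer_J0 : E ≤ normalizer (J0 T E : Set G) := by
  intro e he
  refine mem_normalizer_iff_map_conj_eq.mpr (eq_of_le_of_card_ge ?_
    (card_map_of_injective (MulAut.conj e).injective).ge)
  rw [map_le_iff_le_comap]
  refine sSup_le fun A hA => ?_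
  rw [← map_le_iff_le_comap]
  refine le_sSup (s := {A | A ∈ PLocal.maxEAIn 3 (T : Subgroup G) ∧
    A ≤ centralizer (𝐔 : Set G)}) ⟨⟨?_, ?_, ?_⟩, ?_⟩
  · rintro _ ⟨a, ha, rfl⟩
    have haB : a ∈ 𝐁 ⊓ centralizer (𝐔 : Set G) :=
      N.J0_le h (le_sSup (s := {A | A ∈ PLocal.maxEAIn 3 (T : Subgroup G) ∧
        A ≤ centralizer (𝐔 : Set G)}) hA ha)
    have h1 : ⁅a, e⁆ ∈ 𝐐 := by
      have := inf_commutator_le h (commutator_mem_commutator haB he)
      exact N.E_centralizer_U h this.1 this.2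
    have e1 : e * a * e⁻¹ = ⁅a, e⁆⁻¹ * a := by
      simp [commutatorElement_def, mul_assoc]
    show e * a * e⁻¹ ∈ (T : Subgroup G)
    rw [e1]
    exact (T : Subgroup G).mul_mem (inv_mem ((h.Q_le_R.trans (PLocal.pCore_le_sylow T)) h1))
      haB.1.1
  · exact PLocal.isElementaryAbelian_map hA.1.2.1 _
  · intro C hC hCe
    rw [card_map_of_injective (MulAut.conj e).injective]
    exact hA.1.2.2 C hC hCe
  · rintro _ ⟨a, ha, rfl⟩
    exact (mem_normalizer_iff.mp (CharPLocal.normalizer_le_normalizer_centralizer _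
      (Exc.E_le_normalizer_U he)) a).mp (hA.2 ha)

omit N h in
theorem le_normalizer_J0 {g : G} (hgT : g ∈ normalizer ((T : Subgroup G) : Set G))
    (hgC : g ∈ normalizer (centralizer ((⁅omegaOneCenter 3 (pCore 3 G), E⁆ : Subgroup G) : Set G)
      : Set G)) : g ∈ normalizer (J0 T E : Set G) := by
  refine mem_normalizer_iff_map_conj_eq.mpr (eq_of_le_of_card_ge ?_
    (card_map_of_injective (MulAut.conj g).injective).ge)
  rw [map_le_iff_le_comap]
  refine sSup_le fun A hA => ?_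
  rw [← map_le_iff_le_comap]
  refine le_sSup (s := {A | A ∈ PLocal.maxEAIn 3 (T : Subgroup G) ∧
    A ≤ centralizer (𝐔 : Set G)}) ⟨⟨?_, ?_, ?_⟩, ?_⟩
  · rintro _ ⟨a, ha, rfl⟩
    exact (mem_normalizer_iff.mp hgT a).mp (hA.1.1 ha)
  · exact PLocal.isElementaryAbelian_map hA.1.2.1 _
  · intro C hC hCe
    rw [card_map_of_injective (MulAut.conj g).injective]
    exact hA.1.2.2 C hC hCe
  · rintro _ ⟨a, ha, rfl⟩
    exact (mem_normalizer_iff.mp hgC a).mp (hA.2 ha)

theorem omega_ZJ_le : omegaOne 3 (centerThompsonOf 3 (T : Subgroup G)) ≤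
    omegaOneCenter 3 (J0 T E) := by
  obtain ⟨A, hA, hAC⟩ := N.exists_J0_member h
  have hAJ : A ≤ J0 T E := le_sSup (s := {A | A ∈ PLocal.maxEAIn 3 (T : Subgroup G) ∧
    A ≤ centralizer (𝐔 : Set G)}) ⟨hA, hAC⟩
  set X := omegaOne 3 (centerThompsonOf 3 (T : Subgroup G))
  have hXel : IsElementaryAbelian 3 X := PLocal.isElementaryAbelian_omegaOne
    (le_centralizer_iff_isMulCommutative.mp (inf_le_right.trans (centralizer_le inf_le_left)))
  have hXJ : X ≤ centralizer (thompsonSubgroupOf 3 (T : Subgroup G) : Set G) :=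
    (PLocal.omegaOne_le _ _).trans inf_le_right
  have hXA : X ≤ A := by
    have hel : IsElementaryAbelian 3 (A ⊔ X) := PLocal.isElementaryAbelian_sup hA.2.1 hXel
      (le_centralizer_iff.mp (hXJ.trans (centralizer_le (PLocal.le_thompsonSubgroupOf hA))))
    have := eq_of_le_of_card_ge le_sup_left (hA.2.2 _ (sup_le hA.1
      (((PLocal.omegaOne_le _ _).trans inf_le_left).trans (PLocal.thompsonSubgroupOf_le _ _))) hel)
    exact le_sup_right.trans this.ge
  refine LocalEven50.le_omegaOneCenter (hXA.trans hAJ) (hXJ.trans (centralizer_le ?_)) hXel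
  exact sSup_le fun A' hA' => PLocal.le_thompsonSubgroupOf hA'.1

theorem Z0_commutator_le : ⁅omegaOneCenter 3 (J0 T E), E⁆ ≤ 𝐔 := by
  set Y := omegaOneCenter 3 (J0 T E)
  have hYel := LocalEven50.isElementaryAbelian_omegaOneCenter (p := 3) (J0 T E)
  have hEY : E ≤ normalizer (Y : Set G) :=
    (N.E_le_normalizer_J0 h).trans (LocalEven50.normalizer_le_normalizer_omegaOneCenter _)
  have hYp : IsPGroup 3 Y := PLocal.isPGroup_of_isElementaryAbelian hYel
  have hDQ : ⁅Y, E⁆ ≤ 𝐐 := by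
    refine (commutator_mono ((LocalEven50.omegaOneCenter_le _).trans (N.J0_le h)) le_rfl).trans
      ((inf_commutator_le h).trans fun x hx => ?_)
    exact N.E_centralizer_U h hx.1 hx.2
  have hDW : ⁅Y, E⁆ ≤ 𝐖 := by
    rcases LocalEven50.sl2Section_cases h.secQ le_sup_left (sup_le Exc.W_le_Q hDQ)
      (LocalEven48.le_normalizer_sup Exc.E_le_normalizer_W
        (le_sup_right.trans (Coprime.sup_le_normalizer_commutator _ E))) with hh | hh
    · exact le_sup_right.trans hh.le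
    · exfalso
      refine h.big (h.RE_le_Q.trans ?_)
      have hQab : IsMulCommutative 𝐐 := by
        conv => rw [← hh]
        refine PLocal.isMulCommutative_sup (LocalEven50.isElementaryAbelian_omegaOneCenter _).1
          (PLocal.isElementaryAbelian_of_le hYel (Coprime.commutator_le_of_le_normalizer hEY)).1 ?_
        exact Exc.W_le_centralizer_Q.trans (centralizer_le hDQ)
      have hbot : ⁅𝐐, 𝐐⁆ = ⊥ :=
        commutator_eq_bot_iff_le_centralizer.mpr (le_centralizer_iff_isMulCommutative.mpr hQab)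
      refine LocalEven50.le_omegaOneCenter le_rfl (le_centralizer_iff_isMulCommutative.mpr hQab)
        ⟨hQab, fun q hq => ?_⟩
      have h1 : (⟨q, hq⟩ : ↥𝐐) ^ 3 ∈ frattini ↥𝐐 :=
        Solvable.pow_mem_frattini (LocalStructure.pCoreOf_isPGroup E) _
      have h2 := mem_map_of_mem 𝐐.subtype h1
      rw [h.frat, ← h.comm, hbot, mem_bot] at h2
      exact h2
  rw [← commutator_eq_commutator_commutator hYp hEY h.res, ← h.WE_eq]
  exact commutator_mono hDW le_rfl

end Nat2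

end CfsgLib.BlockNormal85
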