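import Cfsg.Agent.BlockNormal85.Normal
import Cfsg.Agent.S2984
import Cfsg.Agent.S0542

/-!
# General facts about blocks

`modU p E = [Ω₁Z(O_p(G)), E]` is the module of the block `E`; it equals `W_E = [Ω₁Z(O_p(E)), E]`.
-/

set_option linter.style.haveILetI false
set_option linter.unusedSectionVars false

namespace CfsgLib.BlockNormal85

open Subgroup Cfsg
open scoped commutatorElement

variable {G : Type*} [Group G] [Finite G] {p : ℕ} [hp : Fact p.Prime]

/-- The module `[Ω₁Z(O_p(G)), E]` of a block `E`. -/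
abbrev modU (p : ℕ) (E : Subgroup G) : Subgroup G := ⁅omegaOneCenter p (pCore p G), E⁆

/-- `E` is a block for some Sylow `p`-subgroup of a group of characteristic `p`. -/
structure IsBlockOf (p : ℕ) (E : Subgroup G) : Prop where
  charP : centralizer (pCore p G : Set G) ≤ pCore p G
  ex : ∃ T : Sylow p G, IsBaumannBlock p (T : Subgroup G) E

local notation "𝐑" => pCore p G
local notation "𝐕" => omegaOneCenter p (pCore p G)

omit [Finite G] hp in
theorem le_normalizer_R' (X : Subgroup G) : X ≤ normalizer (𝐑 : Set G) := by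
  haveI := LocalStructure.pCore_normal (p := p) (G := G)
  rw [normalizer_eq_top]; exact le_top

omit [Finite G] hp in
theorem le_normalizer_V' (X : Subgroup G) : X ≤ normalizer (𝐕 : Set G) :=
  (le_normalizer_R' X).trans (LocalEven50.normalizer_le_normalizer_omegaOneCenter _)

theorem isPGroup_V : IsPGroup p 𝐕 :=
  PLocal.isPGroup_of_isElementaryAbelian (LocalEven50.isElementaryAbelian_omegaOneCenter _)

omit [Finite G] hp in
theorem R_le_centralizer_V : 𝐑 ≤ centralizer (𝐕 : Set G) :=
  le_centralizer_iff.mp (LocalEven50.omegaOneCenter_le_centralizer _)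

omit [Finite G] hp in
theorem modU_le_V (E : Subgroup G) : modU p E ≤ 𝐕 :=
  Coprime.commutator_le_of_le_normalizer (le_normalizer_V' E)

omit [Finite G] hp in
theorem R_le_centralizer_modU (E : Subgroup G) : 𝐑 ≤ centralizer (modU p E : Set G) :=
  R_le_centralizer_V.trans (centralizer_le (modU_le_V E))

omit [Finite G] hp in
theorem le_normalizer_modU_self (E : Subgroup G) : E ≤ normalizer (modU p E : Set G) :=
  le_sup_right.trans (Coprime.sup_le_normalizer_commutator _ E)

omit [Finite G] hp in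
theorem normalizer_le_normalizer_modU (E : Subgroup G) :
    normalizer (E : Set G) ≤ normalizer (modU p E : Set G) :=
  (le_inf (le_normalizer_V' _) le_rfl).trans
    (CharPLocal.inf_normalizer_le_normalizer_commutator _ _)

omit [Finite G] hp in
theorem modU_elem (E : Subgroup G) : IsElementaryAbelian p (modU p E : Subgroup G) :=
  PLocal.isElementaryAbelian_of_le (LocalEven50.isElementaryAbelian_omegaOneCenter _)
    (modU_le_V E)

theorem isPGroup_modU (E : Subgroup G) : IsPGroup p (modU p E : Subgroup G) :=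
  isPGroup_V.to_le (modU_le_V E)

omit [Finite G] hp in
theorem modU_comm {E : Subgroup G} {a b : G} (ha : a ∈ modU p E) (hb : b ∈ modU p E) :
    a * b = b * a :=
  congrArg Subtype.val ((modU_elem E).1.is_comm.comm ⟨a, ha⟩ ⟨b, hb⟩)

/-- `O^p(XE) = E` for a `p`-group `X` normalising `E = O^p(E)`. -/
theorem pResOf_sup_le {X E : Subgroup G} (hX : IsPGroup p X) (hXE : X ≤ normalizer (E : Set G)) :
    LocalStructure.pResOf p (X ⊔ E) ≤ E := by
  refine LocalStructure.pResOf_le_of_forall fun g hg hc => ?_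
  obtain ⟨r, hr, e, he, rfl⟩ := (coe_mul_of_left_le_normalizer_right _ _ hXE).le hg
  simp only at *
  obtain ⟨k, hk⟩ := hX ⟨r, hr⟩
  have hpow : ∀ n : ℕ, ∃ e' ∈ E, (r * e) ^ n = r ^ n * e' := by
    intro n
    induction n with
    | zero => exact ⟨1, E.one_mem, by simp⟩
    | succ n ih =>
      obtain ⟨e', he', h'⟩ := ih
      refine ⟨r⁻¹ * e' * r * e, E.mul_mem ?_ he, ?_⟩
      · simpa using (mem_normalizer_iff.mp (inv_mem (hXE hr)) e').mp he'
      · rw [pow_succ (r * e), h', pow_succ r]; group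
  obtain ⟨e', he', h'⟩ := hpow (p ^ k)
  have hk' : r ^ p ^ k = 1 := congrArg Subtype.val hk
  rw [hk', one_mul] at h'
  exact LocalStructure.mem_of_coprime_of_pow_mem (k := k) hc (h' ▸ he')

/-- The kernel of an action of `E` with image isomorphic to `E / O_p(E)` is `O_p(E)`. -/
theorem ker_eq_pCoreOf {E : Subgroup G} {H : Type*} [Group H] (ρ : ↥E →* H) {S : Subgroup H}
    (hρ : ρ.range = S) (hiso : Nonempty (↥E ⧸ pCore p ↥E ≃* ↥S))
    (hle : ∀ e : ↥E, (e : G) ∈ pCoreOf p E → ρ e = 1) (e : ↥E) :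
    ρ e = 1 ↔ (e : G) ∈ pCoreOf p E := by
  haveI : (pCore p ↥E).Normal := LocalStructure.pCore_normal
  refine ⟨fun he => ?_, hle e⟩
  have h1 : pCore p ↥E ≤ ρ.ker := fun q hq => MonoidHom.mem_ker.mpr (hle q ⟨q, hq, rfl⟩)
  obtain ⟨φ⟩ := hiso
  haveI : Finite ↥S := Finite.of_equiv _ φ.toEquiv
  have h2 := Subgroup.card_eq_card_quotient_mul_card_subgroup ρ.ker
  have h3 := Subgroup.card_eq_card_quotient_mul_card_subgroup (pCore p ↥E)
  rw [Nat.card_congr (QuotientGroup.quotientKerEquivRange ρ).toEquiv, hρ] at h2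
  rw [Nat.card_congr φ.toEquiv] at h3
  have h4 : pCore p ↥E = ρ.ker :=
    eq_of_le_of_card_ge h1 (Nat.eq_of_mul_eq_mul_left Nat.card_pos (h2.symm.trans h3)).le
  exact ⟨e, h4 ▸ MonoidHom.mem_ker.mpr he, rfl⟩

/-- An even-weight vector separates the points. -/
theorem perm_eq_one_of_even {k : ℕ} (hk : 3 ≤ k) {σ : Equiv.Perm (Fin k)}
    (h : ∀ v : Fin k → ZMod 2, ∑ i, v i = 0 → ∀ i, v (σ⁻¹ i) = v i) : σ = 1 := by
  by_contra hne
  obtain ⟨i, hi⟩ : ∃ i, σ⁻¹ i ≠ i := by
    by_contra hall
    push Not at hall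
    refine hne (inv_eq_one.mp (Equiv.ext ?_))
    simpa using hall
  obtain ⟨j, -, hj⟩ := Finset.exists_mem_notMem_of_card_lt_card
    (s := ({i, σ⁻¹ i} : Finset (Fin k))) (t := Finset.univ)
    (lt_of_le_of_lt Finset.card_le_two (by simp; omega))
  simp only [Finset.mem_insert, Finset.mem_singleton, not_or] at hj
  have := h (Pi.single i 1 + Pi.single j 1) (by
    simp only [Pi.add_apply, Finset.sum_add_distrib, Finset.sum_pi_single', Finset.mem_univ,
      if_true]
    decide) i
  simp only [Pi.add_apply, Pi.single_eq_same, Pi.single_eq_of_ne (Ne.symm hj.1),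
    Pi.single_eq_of_ne hi, Pi.single_eq_of_ne (Ne.symm hj.2), add_zero, zero_ne_one] at this

namespace IsBlockOf

variable {E : Subgroup G} (h : IsBlockOf p E)
include h

theorem res : LocalStructure.pResOf p E = E := by
  obtain ⟨T, hT⟩ := h.ex; exact LocalEven50.pResOf_block hT

theorem R_le_normalizer : 𝐑 ≤ normalizer (E : Set G) := by
  obtain ⟨T, hT⟩ := h.ex; exact (LocalEven50.block_module h.charP T hT).1

theorem U_le_W : modU p E ≤ omegaOneCenter p (pCoreOf p E) := by
  obtain ⟨T, hT⟩ := h.ex; exact (LocalEven50.block_module h.charP T hT).2.1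

theorem U_le : modU p E ≤ E :=
  h.U_le_W.trans ((LocalEven50.omegaOneCenter_le _).trans (LocalStructure.pCoreOf_le E))

theorem U_idem : ⁅modU p E, E⁆ = modU p E :=
  commutator_eq_commutator_commutator isPGroup_V (le_normalizer_V' E) h.res

theorem U_ne_bot : modU p E ≠ ⊥ := by
  obtain ⟨T, hT⟩ := h.ex
  intro hb
  exact (LocalEven50.block_module h.charP T hT).2.2.1 (by
    show ⁅modU p E, E⁆ = ⊥
    rw [hb, commutator_bot_left])

theorem W_eq : omegaOneCenter p (pCoreOf p E) =
    modU p E ⊔ (omegaOneCenter p (pCoreOf p E) ⊓ centralizer (E : Set G)) := by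
  obtain ⟨T, hT⟩ := h.ex; exact (LocalEven50.block_module h.charP T hT).2.2.2

omit h in
theorem mul_fixed_commutator {E : Subgroup G} {u w e : G} (he : e ∈ E)
    (hw : w ∈ centralizer (E : Set G)) : ⁅u * w, e⁆ = ⁅u, e⁆ := by
  have hwe : e * w = w * e := mem_centralizer_iff.mp hw e he
  rw [commutatorElement_def, commutatorElement_def, mul_assoc u w e, ← hwe]; group

theorem U_normalizer_Z : modU p E ≤ normalizer
    ((omegaOneCenter p (pCoreOf p E) ⊓ centralizer (E : Set G) : Subgroup G) : Set G) :=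
  (h.U_le_W.trans (le_centralizer_iff_isMulCommutative.mpr
    (LocalEven50.isElementaryAbelian_omegaOneCenter _).1)).trans
    ((centralizer_le inf_le_left).trans (centralizer_le_normalizer _))

theorem W_mul {w : G} (hw : w ∈ omegaOneCenter p (pCoreOf p E)) : ∃ u ∈ modU p E,
    ∃ c ∈ omegaOneCenter p (pCoreOf p E) ⊓ centralizer (E : Set G), u * c = w := by
  rw [h.W_eq] at hw
  exact (coe_mul_of_left_le_normalizer_right _ _ h.U_normalizer_Z).le hw

theorem WE_eq : ⁅omegaOneCenter p (pCoreOf p E), E⁆ = modU p E := by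
  refine le_antisymm ?_ (h.U_idem.ge.trans (commutator_mono h.U_le_W le_rfl))
  refine commutator_le.mpr fun x hx e he => ?_
  obtain ⟨u, hu, w, hw, rfl⟩ := h.W_mul hx
  rw [mul_fixed_commutator he hw.2]
  exact h.U_idem.le (commutator_mem_commutator hu he)

theorem centralizer_U_le_normalizer :
    centralizer (modU p E : Set G) ≤ normalizer (E : Set G) := by
  obtain ⟨T, hT⟩ := h.ex
  have := block_centralizer_le_normalizer h.charP T hT
  rwa [h.WE_eq] at this

/-- An invariant subgroup of the module is centralised by the block or is the whole module. -/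
theorem U_cases {X : Subgroup G} (hX : X ≤ modU p E) (hXn : E ≤ normalizer (X : Set G)) :
    X ≤ centralizer (E : Set G) ∨ X = modU p E := by
  obtain ⟨T, hT⟩ := h.ex
  set W := omegaOneCenter p (pCoreOf p E)
  set Z := W ⊓ centralizer (E : Set G)
  have hXW : X ⊔ Z ≤ W := sup_le (hX.trans h.U_le_W) inf_le_left
  have hn : E ≤ normalizer ((X ⊔ Z : Subgroup G) : Set G) :=
    LocalEven48.le_normalizer_sup hXn
      ((le_centralizer_iff.mp (inf_le_right : Z ≤ _)).trans (centralizer_le_normalizer _))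
  have hcase : X ⊔ Z = Z ∨ X ⊔ Z = W := by
    rcases hT.2.2.2.2 with ⟨F, _, _, n, -, -, hsec, -⟩ | ⟨-, m, -, hsec, -⟩
    · exact LocalEven50.sl2Section_cases hsec le_sup_right hXW hn
    · exact LocalEven50.permSection_cases hsec ⟨m, rfl⟩ le_sup_right hXW hn
  rcases hcase with hc | hc
  · exact Or.inl ((le_sup_left.trans hc.le).trans inf_le_right)
  · refine Or.inr (le_antisymm hX ?_)
    rw [← h.WE_eq]
    refine commutator_le.mpr fun x hx e he => ?_
    have hXZ : X ≤ normalizer (Z : Set G) := (hX.trans h.U_normalizer_Z :)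
    obtain ⟨a, ha, c, hc', rfl⟩ := (coe_mul_of_left_le_normalizer_right _ _ hXZ).le (hc.ge hx)
    simp only
    rw [mul_fixed_commutator he hc'.2]
    exact Coprime.commutator_le_of_le_normalizer hXn (commutator_mem_commutator ha he)

theorem inf_centralizer_U_le_Q :
    E ⊓ centralizer (modU p E : Set G) ≤ pCoreOf p E := by
  rintro g ⟨hg, hgU⟩
  obtain ⟨T, hT⟩ := h.ex
  set W := omegaOneCenter p (pCoreOf p E) with hW
  have hgW : ∀ w ∈ W, g * w = w * g := fun w hw => by
    obtain ⟨u, hu, c, hc, rfl⟩ := h.W_mul hw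
    rw [← mul_assoc, ← mem_centralizer_iff.mp hgU u hu, mul_assoc,
      mem_centralizer_iff.mp hc.2 g hg, ← mul_assoc]
  have hQW : ∀ q ∈ pCoreOf p E, ∀ w ∈ W, q * w = w * q := fun q hq w hw =>
    mem_centralizer_iff.mp (LocalEven50.omegaOneCenter_le_centralizer _ hw) q hq
  rcases hT.2.2.2.2 with ⟨F, _, _, n, -, hiso, ⟨-, -, ρ, ψ, hρ, hψ, -, hact⟩, -⟩ |
    ⟨-, m, hiso, ⟨-, -, ρ, ψ, hρ, hsum, hψ, hker, hact⟩, -⟩
  · have key : ∀ e : ↥E, (∀ w ∈ W, (e : G) * w = w * e) → ρ e = 1 := fun e he =>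
      Subtype.ext (matrix_eq_one_of_mulVec fun v => by
        obtain ⟨u, hu⟩ := hψ (Multiplicative.ofAdd v)
        obtain ⟨w, hw, hw'⟩ := hact e u
        rw [show w = u from Subtype.ext (by rw [hw, he _ u.2, mul_inv_cancel_right]), hu] at hw'
        simpa using hw'.symm)
    exact (ker_eq_pCoreOf ρ hρ hiso (fun e he => key e (hQW _ he)) ⟨g, hg⟩).mp (key _ hgW)
  · have hm : m ≠ 0 := by
      rintro rfl
      refine h.U_ne_bot ?_
      rw [← h.U_idem, commutator_eq_bot_iff_le_centralizer]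
      intro u hu
      have : ψ ⟨u, h.U_le_W hu⟩ = 1 := by
        haveI : Subsingleton (Fin (2 * 0 + 1)) := inferInstanceAs (Subsingleton (Fin 1))
        refine Multiplicative.toAdd.injective (funext fun i => ?_)
        have := hsum ⟨u, h.U_le_W hu⟩
        rw [Fintype.sum_subsingleton _ i] at this
        simpa using this
      exact ((hker _).mp this).2
    have key : ∀ e : ↥E, (∀ w ∈ W, (e : G) * w = w * e) → ρ e = 1 := fun e he =>
      perm_eq_one_of_even (by omega) fun v hv i => by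
        obtain ⟨u, hu⟩ := hψ v hv
        obtain ⟨w, hw, hw'⟩ := hact e u
        rw [show w = u from Subtype.ext (by rw [hw, he _ u.2, mul_inv_cancel_right])] at hw'
        rw [← hu]; exact (hw' i).symm
    exact (ker_eq_pCoreOf ρ hρ hiso (fun e he => key e (hQW _ he)) ⟨g, hg⟩).mp (key _ hgW)

theorem pResOf_sup_R : LocalStructure.pResOf p (E ⊔ 𝐑) = E := by
  refine le_antisymm ?_ (h.res.ge.trans (LocalStructure.pResOf_mono le_sup_left))
  rw [sup_comm]
  exact pResOf_sup_le LocalStructure.pCore_isPGroup h.R_le_normalizer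

/-- Either `[O_p(G), E] ≤ Ω₁Z(O_p(E))` or the block is exceptional. -/
theorem small_or_exc : ⁅𝐑, E⁆ ≤ omegaOneCenter p (pCoreOf p E) ∨
    ∃ (_ : p = 3) (T : Sylow 3 G) (F : Type) (_ : Field F) (_ : Fintype F) (n : ℕ),
      Exc T E F n := by
  by_cases hsmall : ⁅𝐑, E⁆ ≤ omegaOneCenter p (pCoreOf p E)
  · exact Or.inl hsmall
  haveI := LocalStructure.pCore_normal (p := p) (G := G)
  obtain ⟨T, hT⟩ := h.ex
  have hRQ : ⁅𝐑, E⁆ ≤ pCoreOf p E := by
    refine LocalStructure.le_pCoreOf ?_
      (le_sup_right.trans (Coprime.sup_le_normalizer_commutator _ E))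
      (LocalStructure.pCore_isPGroup.to_le
        (Coprime.commutator_le_of_le_normalizer (le_normalizer_R' E)))
    rw [commutator_comm]
    exact Coprime.commutator_le_of_le_normalizer h.R_le_normalizer
  rcases hT.2.2.2.2 with ⟨F, hF, hF', n, hn, hiso, hsec, hlin |
      ⟨hp3, hsecQ, hQQ, hfr, hZE, -, hnq⟩⟩ | ⟨-, m, -, -, hlin⟩
  · exact absurd (hRQ.trans hlin.le) hsmall
  · subst hp3
    exact Or.inr ⟨rfl, T, F, hF, hF', n,
      ⟨h.charP, hT, hn, hiso, hsec, hsecQ, hQQ, hfr, hZE, hnq, hsmall⟩⟩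
  · exact absurd (hRQ.trans hlin.le) hsmall

/-- Either `[O_p(G), E] ≤ U` or the block is exceptional. -/
theorem RE_cases : ⁅𝐑, E⁆ ≤ modU p E ∨
    ∃ (_ : p = 3) (T : Sylow 3 G) (F : Type) (_ : Field F) (_ : Fintype F) (n : ℕ),
      Exc T E F n := by
  refine h.small_or_exc.imp_left fun hsmall => ?_
  rw [← commutator_eq_commutator_commutator LocalStructure.pCore_isPGroup (le_normalizer_R' E) h.res]
  exact (commutator_mono hsmall le_rfl).trans h.WE_eq.le

/-- A `p'`-element centralising `V` centralises `[O_p(G), E]`. -/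
theorem mem_centralizer_RE {x : G} (hx : (orderOf x).Coprime p)
    (hxV : x ∈ centralizer (𝐕 : Set G)) : x ∈ centralizer ((⁅𝐑, E⁆ : Subgroup G) : Set G) := by
  haveI := LocalStructure.pCore_normal (p := p) (G := G)
  rcases h.RE_cases with hQ | ⟨rfl, T, F, _, _, n, hX⟩
  · exact centralizer_le (hQ.trans (modU_le_V E)) hxV
  refine centralizer_le hX.RE_le_Q ?_
  obtain ⟨z, ι, π, N⟩ := hX.exists_nat2
  haveI hCn : (centralizer (omegaOneCenter 3 (pCore 3 G) : Set G)).Normal := by
    rw [← normalizer_eq_top_iff]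
    exact top_le_iff.mp ((le_normalizer_V' ⊤).trans
      (CharPLocal.normalizer_le_normalizer_centralizer _))
  set L := LocalStructure.pResOf 3 (centralizer (omegaOneCenter 3 (pCore 3 G) : Set G)) with hL
  haveI hLn : L.Normal := LocalStructure.pResOf_normal _
  have hLV : L ≤ centralizer (omegaOneCenter 3 (pCore 3 G) : Set G) := LocalStructure.pResOf_le _
  have hLU : L ≤ centralizer (modU 3 E : Set G) := hLV.trans (centralizer_le (modU_le_V E))
  have hall : ∀ X : Subgroup G, X ≤ normalizer (L : Set G) := fun X => by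
    rw [normalizer_eq_top]; exact le_top
  have hSidx : ¬ 3 ∣ (((T : Subgroup G) ⊓ L).subgroupOf L).index := by
    obtain ⟨Q1, hQ1⟩ := Cfsg.Agent.S0542.result 3 L hLn.isSubnormal T
    have h1 := Q1.not_dvd_index
    rwa [hQ1, ← inf_subgroupOf_right] at h1
  have hcore := N.core_step hX hLU hLV (hall _) (hall _) (LocalStructure.pResOf_idem _) rfl rfl
    hSidx (inf_le_right.trans (hLU.trans h.centralizer_U_le_normalizer))
  have hxL : x ∈ L := LocalStructure.mem_pResOf hxV hx
  refine coprime_centralizes_of_series (P := omegaOneCenter 3 (pCoreOf 3 E)) (V := ⊥)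
    (LocalStructure.pCoreOf_isPGroup E) hx ?_ ?_ ?_ (commutator_bot_left _)
  · exact LocalStructure.normalizer_le_normalizer_pCoreOf E
      (h.centralizer_U_le_normalizer (hLU hxL))
  · rw [commutator_comm]
    refine commutator_le.mpr fun l hl q hq => ?_
    rw [commutatorElement_def]
    exact hcore l ((zpowers_le.mpr hxL) hl) q hq
  · rw [commutator_comm, le_bot_iff, commutator_eq_bot_iff_le_centralizer]
    exact zpowers_le.mpr (centralizer_le hX.W_le_V hxV)

variable (hs : E.IsSubnormal)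
include hs

theorem Q_eq : pCoreOf p E = E ⊓ 𝐑 := by
  rw [inf_comm]; exact LocalStructure.pCoreOf_eq_inf_of_isSubnormal hs

theorem Q_le_R : pCoreOf p E ≤ 𝐑 := (h.Q_eq hs).le.trans inf_le_right

theorem RE_eq : ⁅𝐑, E⁆ = pCoreOf p E := by
  haveI := LocalStructure.pCore_normal (p := p) (G := G)
  refine le_antisymm ?_ ?_
  · rw [h.Q_eq hs]
    refine le_inf ?_ (Coprime.commutator_le_of_le_normalizer (le_normalizer_R' E))
    rw [commutator_comm]
    exact Coprime.commutator_le_of_le_normalizer h.R_le_normalizer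
  · obtain ⟨T, hT⟩ := h.ex
    conv_lhs => rw [← hT.2.2.1]
    exact commutator_mono (h.Q_le_R hs) le_rfl

theorem Q_eq_U_or_exc : pCoreOf p E = modU p E ∨
    ∃ (_ : p = 3) (T : Sylow 3 G) (F : Type) (_ : Field F) (_ : Fintype F) (n : ℕ),
      Exc T E F n := by
  refine h.small_or_exc.imp_left fun hsmall => ?_
  rw [h.RE_eq hs] at hsmall
  obtain ⟨T, hT⟩ := h.ex
  refine le_antisymm ?_ (h.U_le_W.trans (LocalEven50.omegaOneCenter_le _))
  conv_lhs => rw [← hT.2.2.1]
  exact (commutator_mono hsmall le_rfl).trans h.WE_eq.le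

/-- A `p'`-element centralising `V` centralises `O_p(E)`. -/
theorem mem_centralizer_Q {x : G} (hx : (orderOf x).Coprime p)
    (hxV : x ∈ centralizer (𝐕 : Set G)) : x ∈ centralizer (pCoreOf p E : Set G) := by
  rw [← h.RE_eq hs]
  exact h.mem_centralizer_RE hx hxV

end IsBlockOf

end CfsgLib.BlockNormal85
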