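import Cfsg.Agent.BlockNormal85.Types

/-!
# When two subnormal blocks commute, and when one contains the other
-/

set_option linter.style.haveILetI false
set_option linter.unusedSectionVars false

namespace CfsgLib.BlockNormal85

open Subgroup Cfsg
open scoped commutatorElement

variable {G : Type*} [Group G] [Finite G] {p : ℕ} [hp : Fact p.Prime]

local notation "𝐑" => pCore p G
local notation "𝐕" => omegaOneCenter p (pCore p G)

/-- An element normalising the exceptional block's `O₃` and commuting there with the block modulo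
`W` acts on `O₃ / W` as a scalar. -/
theorem Exc.exists_scalar {T : Sylow 3 G} {E : Subgroup G} {K : Type*} [Field K] [Fintype K]
    {n : ℕ} [Fact (Nat.Prime 3)] (h : Exc T E K n) {z : G} {ι : (Fin 2 → K) → G}
    {π : ↥(pCoreOf 3 E) →* Multiplicative (Fin 2 → K)} (N : Nat2 E K z ι π) {e : G}
    (heQ : e ∈ normalizer (pCoreOf 3 E : Set G))
    (hcomm : ∀ f ∈ E, ∀ y ∈ pCoreOf 3 E, (e * (f * y * f⁻¹) * e⁻¹)⁻¹ * (f * (e * y * e⁻¹) * f⁻¹) ∈
      omegaOneCenter 3 (pCoreOf 3 E)) :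
    ∃ c : K, ∀ y y' : ↥(pCoreOf 3 E), (y' : G) = e * (y : G) * e⁻¹ →
      Multiplicative.toAdd (π y') = c • Multiplicative.toAdd (π y) := by
  have heW : e ∈ normalizer (omegaOneCenter 3 (pCoreOf 3 E) : Set G) :=
    LocalEven50.normalizer_le_normalizer_omegaOneCenter _ heQ
  let cj : ↥(pCoreOf 3 E) → ↥(pCoreOf 3 E) := fun y => ⟨e * y * e⁻¹, (mem_normalizer_iff.mp heQ _).mp y.2⟩
  have hwd : ∀ a b : ↥(pCoreOf 3 E), π a = π b → π (cj a) = π (cj b) := by
    intro a b hab
    rw [← inv_mul_eq_one, ← map_inv, ← map_mul, N.ker]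
    have h1 : ((a⁻¹ * b : ↥(pCoreOf 3 E)) : G) ∈ omegaOneCenter 3 (pCoreOf 3 E) :=
      (N.ker _).mp (by rw [map_mul, map_inv, hab, inv_mul_cancel])
    have := (mem_normalizer_iff.mp heW _).mp h1
    simpa [cj, mul_assoc] using this
  choose s hs using fun v : Fin 2 → K => N.surj (Multiplicative.ofAdd v)
  have hs' : ∀ v, Multiplicative.toAdd (π (s v)) = v := fun v => by rw [hs]; rfl
  let f : (Fin 2 → K) →+ (Fin 2 → K) := AddMonoidHom.mk'
    (fun v => Multiplicative.toAdd (π (cj (s v)))) fun u v => by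
      rw [← toAdd_mul, ← map_mul]
      refine congrArg Multiplicative.toAdd ?_
      rw [hwd (s (u + v)) (s u * s v) (Multiplicative.toAdd.injective (by
        rw [map_mul, toAdd_mul, hs', hs', hs']))]
      exact congrArg π (Subtype.ext (by simp [cj, mul_assoc]))
  have hf : ∀ y : ↥(pCoreOf 3 E), Multiplicative.toAdd (π (cj y)) = f (Multiplicative.toAdd (π y)) := fun y =>
    congrArg Multiplicative.toAdd (hwd y (s _) (Multiplicative.toAdd.injective (hs' _).symm))
  obtain ⟨c, hc⟩ := exists_scalar_of_commute h.h3 f fun g hg v => by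
    obtain ⟨a, ha, haQ⟩ := N.ontoQ g hg
    have han := Exc.E_le_normalizer_Q ha
    set y := s v with hy
    let b : ↥(pCoreOf 3 E) → ↥(pCoreOf 3 E) := fun y => ⟨a * y * a⁻¹, (mem_normalizer_iff.mp han _).mp y.2⟩
    have hb : ∀ y, Multiplicative.toAdd (π (b y)) =
        (g : Matrix (Fin 2) (Fin 2) K).mulVec (Multiplicative.toAdd (π y)) :=
      fun y => haQ y (b y) rfl
    have key : π (cj (b y)) = π (b (cj y)) := by
      rw [← inv_mul_eq_one, ← map_inv, ← map_mul, N.ker]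
      exact hcomm a ha y y.2
    have := congrArg Multiplicative.toAdd key
    rwa [hf, hb, hb, hf, hs'] at this
  refine ⟨c, fun y y' hy => ?_⟩
  rw [show y' = cj y from Subtype.ext hy, hf, hc]

namespace IsBlockOf

variable {E F : Subgroup G} (hE : IsBlockOf p E) (hF : IsBlockOf p F) (hEs : E.IsSubnormal)
  (hFs : F.IsSubnormal)
include hE

omit hE in
/-- A subgroup commuting with a block modulo `O_p(G)` normalises it. -/
theorem le_normalizer_of_commutator_le {X : Subgroup G} (hF : IsBlockOf p F)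
    (h : ⁅X, F⁆ ≤ 𝐑) : X ≤ normalizer (F : Set G) := by
  intro x hx
  refine mem_normalizer_iff_map_conj_eq.mpr (eq_of_le_of_card_ge ?_
    (card_map_of_injective (MulAut.conj x).injective).ge)
  conv_rhs => rw [← hF.pResOf_sup_R]
  conv_lhs => rw [← hF.res]
  rw [LocalStructure.map_pResOf]
  refine LocalStructure.pResOf_mono ?_
  rintro _ ⟨f, hf, rfl⟩
  have := (F ⊔ 𝐑).mul_mem (mem_sup_right (h (commutator_mem_commutator hx hf))) (mem_sup_left hf)
  simpa [commutatorElement_def, mul_assoc] using this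

/-- If a perfect block commutes with a block modulo `O_p(G)` it centralises its module. -/
theorem le_centralizer_U_of_perfect (hF : IsBlockOf p F) (hperf : E ≤ ⁅E, E⁆ ⊔ 𝐑)
    (h : ⁅E, F⁆ ≤ 𝐑) : E ≤ centralizer (modU p F : Set G) := by
  set U := modU p F
  set Z := U ⊓ centralizer (F : Set G)
  have hEF := le_normalizer_of_commutator_le hF h
  have hEU : E ≤ normalizer (U : Set G) := hEF.trans (normalizer_le_normalizer_modU F)
  have hEZ : E ≤ normalizer (Z : Set G) := LocalEven50.le_normalizer_inf hEU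
    (hEF.trans (CharPLocal.normalizer_le_normalizer_centralizer F))
  have hFU : F ≤ normalizer (U : Set G) := le_normalizer_modU_self F
  have hFZ : F ≤ normalizer (Z : Set G) :=
    (le_centralizer_iff.mp (inf_le_right : Z ≤ _)).trans (centralizer_le_normalizer _)
  have hne : Z ≠ U := fun he => hF.U_ne_bot (by
    rw [← hF.U_idem, commutator_eq_bot_iff_le_centralizer]
    exact he.ge.trans inf_le_right)
  have hirr : ∀ X : Subgroup G, Z ≤ X → X ≤ U → F ≤ normalizer (X : Set G) → X = Z ∨ X = U :=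
    fun X hZX hXU hXn => (hF.U_cases hXU hXn).imp_left fun hc => le_antisymm (le_inf hXU hc) hZX
  have hRU : ∀ r ∈ 𝐑, ∀ u ∈ U, r * u * r⁻¹ = u := fun r hr u hu => by
    rw [← mem_centralizer_iff.mp (R_le_centralizer_modU F hr) u hu, mul_inv_cancel_right]
  have hcomm : ∀ e ∈ E, ∀ f ∈ F, ∀ u ∈ U, e * (f * u * f⁻¹) * e⁻¹ = f * (e * u * e⁻¹) * f⁻¹ := by
    intro e he f hf u hu
    have h1 := hRU _ (h (commutator_mem_commutator he hf)) _
      ((mem_normalizer_iff.mp (hFU hf) _).mp ((mem_normalizer_iff.mp (hEU he) u).mp hu))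
    simp only [commutatorElement_def] at h1
    rw [← h1]
    group
  let H : Subgroup G :=
    { carrier := {g | (g ∈ normalizer (U : Set G) ∧ g ∈ normalizer (Z : Set G)) ∧
        ∀ u ∈ U, ⁅u, g⁆ ∈ Z}
      one_mem' := ⟨⟨one_mem _, one_mem _⟩, fun u _ => by simp⟩
      mul_mem' := fun {a b} ha hb => ⟨⟨mul_mem ha.1.1 hb.1.1, mul_mem ha.1.2 hb.1.2⟩, fun u hu => by
        have e : ⁅u, a * b⁆ = ⁅u, a⁆ * (a * ⁅u, b⁆ * a⁻¹) := by
          simp only [commutatorElement_def]; group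
        rw [e]
        exact Z.mul_mem (ha.2 u hu) ((mem_normalizer_iff.mp ha.1.2 _).mp (hb.2 u hu))⟩
      inv_mem' := fun {a} ha => ⟨⟨inv_mem ha.1.1, inv_mem ha.1.2⟩, fun u hu => by
        have e : ⁅u, a⁻¹⁆ = a⁻¹ * ⁅u, a⁆⁻¹ * a := by simp only [commutatorElement_def]; group
        rw [e]
        exact (mem_normalizer_iff''.mp ha.1.2 _).mp (Z.inv_mem (ha.2 u hu))⟩ }
  have hEE : ⁅E, E⁆ ≤ H := by
    refine commutator_le.mpr fun a ha b hb => ?_
    have hc : ⁅a, b⁆ ∈ E := by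
      rw [commutatorElement_def]
      exact E.mul_mem (E.mul_mem (E.mul_mem ha hb) (E.inv_mem ha)) (E.inv_mem hb)
    refine ⟨⟨hEU hc, hEZ hc⟩, fun u hu => ?_⟩
    have hu' : (b * a)⁻¹ * u * (b * a) ∈ U :=
      (mem_normalizer_iff''.mp (hEU (E.mul_mem hb ha)) u).mp hu
    have key := commute_mod (fun x hx y hy => modU_comm hx hy) inf_le_left hne hFU hFZ hirr
      (hEU ha) (hEZ ha) (hEU hb) (hEZ hb) (fun f hf x hx => hcomm a ha f hf x hx)
      (fun f hf x hx => hcomm b hb f hf x hx) hu'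
    have hcu : ⁅a, b⁆ * u * ⁅a, b⁆⁻¹ ∈ U := (mem_normalizer_iff.mp (hEU hc) u).mp hu
    have e1 : ⁅u, ⁅a, b⁆⁆ = u * (⁅a, b⁆ * u * ⁅a, b⁆⁻¹)⁻¹ := by
      simp only [commutatorElement_def]; group
    rw [e1, modU_comm hu (inv_mem hcu)]
    convert key using 1
    simp only [commutatorElement_def]; group
  have hRH : 𝐑 ≤ H := fun r hr => by
    have hrC : ∀ X : Subgroup G, X ≤ U → r ∈ normalizer (X : Set G) := fun X hX =>
      centralizer_le_normalizer _ (centralizer_le hX (R_le_centralizer_modU F hr))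
    refine ⟨⟨hrC U le_rfl, hrC Z inf_le_left⟩, fun u hu => ?_⟩
    rw [commutatorElement_def, mem_centralizer_iff.mp (R_le_centralizer_modU F hr) u hu]
    simp
  have hZC : ⁅U, E⁆ ≤ Z := commutator_le.mpr fun u hu e he =>
    ((hperf.trans (sup_le hEE hRH)) he).2 u hu
  have h1 : ⁅⁅U, E⁆, F⁆ = ⊥ := by
    rw [eq_bot_iff]
    refine (commutator_mono (hZC.trans inf_le_right) le_rfl).trans ?_
    rw [le_bot_iff, commutator_eq_bot_iff_le_centralizer]
  have h2 : ⁅⁅E, F⁆, U⁆ = ⊥ :=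
    commutator_eq_bot_iff_le_centralizer.mpr (h.trans (R_le_centralizer_modU F))
  have h3 := commutator_commutator_eq_bot_of_rotate h1 h2
  rw [commutator_comm F U, hF.U_idem, commutator_comm] at h3
  exact commutator_eq_bot_iff_le_centralizer.mp h3

include hEs

/-- The commutator with an element centralising the module lies in `O_p` of the block. -/
theorem commutator_le_Q {X : Subgroup G} (hX : X ≤ centralizer (modU p E : Set G)) :
    ⁅E, X⁆ ≤ pCoreOf p E := by
  refine commutator_le.mpr fun e he x hx => hE.inf_centralizer_U_le_Q ⟨?_, ?_⟩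
  · have h1 := (mem_normalizer_iff.mp (hE.centralizer_U_le_normalizer (hX hx)) _).mp
      (E.inv_mem he)
    rw [commutatorElement_def, mul_assoc, mul_assoc, ← mul_assoc x]
    exact E.mul_mem he h1
  · rw [commutatorElement_def]
    exact Subgroup.mul_mem _ ((mem_normalizer_iff.mp ((le_normalizer_modU_self E).trans
      (CharPLocal.normalizer_le_normalizer_centralizer _) he) x).mp (hX hx))
      (Subgroup.inv_mem _ (hX hx))

/-- Centralising the module is a symmetric relation between subnormal blocks. -/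
theorem le_centralizer_U_symm (hF : IsBlockOf p F) (h : F ≤ centralizer (modU p E : Set G)) :
    E ≤ centralizer (modU p F : Set G) := by
  have h1 : ⁅⁅modU p F, E⁆, F⁆ = ⊥ := by
    rw [eq_bot_iff]
    refine (commutator_mono (commutator_mono (modU_le_V F) le_rfl) le_rfl).trans ?_
    rw [le_bot_iff, commutator_comm, commutator_eq_bot_iff_le_centralizer]
    exact h
  have h2 : ⁅⁅E, F⁆, modU p F⁆ = ⊥ := commutator_eq_bot_iff_le_centralizer.mpr
    (((hE.commutator_le_Q hEs h).trans (hE.Q_le_R hEs)).trans (R_le_centralizer_modU F))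
  have h3 := commutator_commutator_eq_bot_of_rotate h1 h2
  rw [commutator_comm F, hF.U_idem, commutator_comm] at h3
  exact commutator_eq_bot_iff_le_centralizer.mp h3

include hF

/-- **B2**: a block centralising the module of a subnormal block commutes with it. -/
theorem commute_of_centralizes (h : F ≤ centralizer (modU p E : Set G)) : ⁅E, F⁆ = ⊥ := by
  haveI := LocalStructure.pCore_normal (p := p) (G := G)
  have h' : E ≤ centralizer (modU p F : Set G) := hE.le_centralizer_U_symm hEs hF h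
  have hFE : F ≤ normalizer (E : Set G) := h.trans hE.centralizer_U_le_normalizer
  have hEF : E ≤ normalizer (F : Set G) := h'.trans hF.centralizer_U_le_normalizer
  have hEQ : ⁅E, F⁆ ≤ pCoreOf p E := hE.commutator_le_Q hEs h
  suffices hFQ : F ≤ centralizer (pCoreOf p E : Set G) by
    rw [commutator_comm, commutator_eq_bot_iff_le_centralizer]
    conv_lhs => rw [← hF.res]
    refine LocalStructure.pResOf_le_of_forall fun f hf hc => mem_centralizer_iff.mpr fun e he => ?_
    have hcQ : ⁅f, e⁆ ∈ pCoreOf p E := by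
      rw [← commutatorElement_inv]
      exact inv_mem (hEQ (commutator_mem_commutator he hf))
    obtain ⟨k, hk⟩ := LocalStructure.pCoreOf_isPGroup E ⟨_, hcQ⟩
    exact (LocalStructure.commute_of_stab hc (k := k) (congrArg Subtype.val hk)
      (mem_centralizer_iff.mp (hFQ hf) _ hcQ).symm).symm
  rcases hE.Q_eq_U_or_exc hEs with hQ | ⟨rfl, T, K, _, _, n, hX⟩
  · rw [hQ]; exact h
  set Q := pCoreOf 3 E
  set W := omegaOneCenter 3 Q
  obtain ⟨z, ι, π, N⟩ := hX.exists_nat2
  have hFQn : F ≤ normalizer (Q : Set G) :=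
    hFE.trans (LocalStructure.normalizer_le_normalizer_pCoreOf E)
  set D := ⁅Q, F⁆
  have hDQ : D ≤ Q := Coprime.commutator_le_of_le_normalizer hFQn
  have hDF : D ≤ ⁅pCore 3 G, F⁆ := commutator_mono (hE.Q_le_R hEs) le_rfl
  have hED : E ≤ normalizer (D : Set G) :=
    (le_inf (Exc.E_le_normalizer_Q) hEF).trans
      (CharPLocal.inf_normalizer_le_normalizer_commutator _ _)
  have hVQ : omegaOneCenter 3 (pCore 3 G) ⊓ Q ≤ W := by
    refine LocalEven50.le_omegaOneCenter inf_le_right ?_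
      (PLocal.isElementaryAbelian_of_le (LocalEven50.isElementaryAbelian_omegaOneCenter _)
        inf_le_left)
    exact inf_le_left.trans ((LocalEven50.omegaOneCenter_le_centralizer _).trans
      (centralizer_le (hE.Q_le_R hEs)))
  have hQW : ¬ Q ≤ W := fun hle => hX.big ((hE.RE_eq hEs).le.trans hle)
  have hWQc : ∀ q ∈ Q, ∀ w ∈ W, q * w = w * q := fun q hq w hw =>
    mem_centralizer_iff.mp (LocalEven50.omegaOneCenter_le_centralizer _ hw) q hq
  have hDW : D ≤ W := by
    rcases LocalEven50.sl2Section_cases hX.secQ le_sup_left (sup_le Exc.W_le_Q hDQ)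
      (LocalEven48.le_normalizer_sup Exc.E_le_normalizer_W hED) with hc | hc
    · exact le_sup_right.trans hc.le
    exfalso
    have hDn : D ≤ normalizer (W : Set G) :=
      (hDQ.trans (LocalStructure.pCoreOf_le E)).trans Exc.E_le_normalizer_W
    have hdec : ∀ x ∈ Q, ∃ d ∈ D, ∃ w ∈ W, d * w = x := fun x hx => by
      rw [show Q = W ⊔ D from hc.symm, sup_comm] at hx
      exact (coe_mul_of_left_le_normalizer_right _ _ hDn).le hx
    rcases hF.RE_cases with hQF | ⟨-, T', K', _, _, n', hY⟩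
    · refine hQW ?_
      obtain ⟨T1, hT1⟩ := hE.ex
      show pCoreOf 3 E ≤ _
      conv_lhs => rw [← hT1.2.2.1]
      refine commutator_le.mpr fun x hx e he => ?_
      obtain ⟨d, hd, w, hw, rfl⟩ := hdec x hx
      have hde : d * e = e * d := mem_centralizer_iff.mp (h' he) d (hQF (hDF hd))
      have e1 : ⁅d * w, e⁆ = d * ⁅w, e⁆ * d⁻¹ * (d * e * d⁻¹ * e⁻¹) := by
        simp only [commutatorElement_def]; group
      rw [e1, hde, mul_inv_cancel_right, mul_inv_cancel, mul_one]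
      exact (mem_normalizer_iff.mp (hDn hd) _).mp
        (Coprime.commutator_le_of_le_normalizer Exc.E_le_normalizer_W
          (commutator_mem_commutator hw he))
    · obtain ⟨z', ι', π', N'⟩ := hY.exists_nat2
      have hEQF : E ≤ normalizer (pCoreOf 3 F : Set G) :=
        hEF.trans (LocalStructure.normalizer_le_normalizer_pCoreOf F)
      have hsc : ∀ e ∈ E, ∃ c : K', ∀ y y' : ↥(pCoreOf 3 F), (y' : G) = e * (y : G) * e⁻¹ →
          Multiplicative.toAdd (π' y') = c • Multiplicative.toAdd (π' y) := fun e he =>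
        hY.exists_scalar N' (hEQF he) fun f hf y hy => by
          set r := ⁅f, e⁆ with hr
          set X := e * (f * y * f⁻¹) * e⁻¹ with hX'
          have hrR : r ∈ pCore 3 G := by
            rw [hr, ← commutatorElement_inv]
            exact inv_mem (hE.Q_le_R hEs (hEQ (commutator_mem_commutator he hf)))
          have hXQ : X ∈ pCoreOf 3 F := (mem_normalizer_iff.mp (hEQF he) _).mp
            ((mem_normalizer_iff.mp (Exc.E_le_normalizer_Q hf) y).mp hy)
          have e1 : X⁻¹ * (f * (e * y * e⁻¹) * f⁻¹) = ⁅X⁻¹, r⁆ := by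
            rw [hr, hX']; simp only [commutatorElement_def]; group
          rw [e1]
          exact hY.QR_le_W (commutator_mem_commutator (inv_mem hXQ) hrR)
      obtain ⟨g₁, hg₁, hg₁M⟩ := rot_mem (F := K) hX.h3
      obtain ⟨g₂, hg₂, hg₂M⟩ := tilt_mem (F := K) hX.h3 1
      obtain ⟨e₁, he₁, he₁Q⟩ := N.ontoQ g₁ hg₁
      obtain ⟨e₂, he₂, he₂Q⟩ := N.ontoQ g₂ hg₂
      obtain ⟨c₁, hc₁⟩ := hsc e₁ he₁
      obtain ⟨c₂, hc₂⟩ := hsc e₂ he₂
      have hn1 : ∀ e ∈ E, ∀ y ∈ pCoreOf 3 F, e * y * e⁻¹ ∈ pCoreOf 3 F := fun e he y hy =>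
        (mem_normalizer_iff.mp (hEQF he) y).mp hy
      have hn2 : ∀ e ∈ E, ∀ y ∈ Q, e * y * e⁻¹ ∈ Q := fun e he y hy =>
        (mem_normalizer_iff.mp (Exc.E_le_normalizer_Q he) y).mp hy
      have hVF : ∀ y ∈ pCoreOf 3 F, (e₁ * (e₂ * y * e₂⁻¹) * e₁⁻¹)⁻¹ *
          (e₂ * (e₁ * y * e₁⁻¹) * e₂⁻¹) ∈ omegaOneCenter 3 (pCore 3 G) := by
        intro y hy
        refine hY.W_le_V ((N'.ker (⟨_, hn1 e₁ he₁ _ (hn1 e₂ he₂ y hy)⟩⁻¹ *
          ⟨_, hn1 e₂ he₂ _ (hn1 e₁ he₁ y hy)⟩)).mp ?_)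
        rw [map_mul, map_inv, inv_mul_eq_one]
        refine Multiplicative.toAdd.injective ?_
        rw [hc₁ ⟨_, hn1 e₂ he₂ y hy⟩ ⟨_, hn1 e₁ he₁ _ (hn1 e₂ he₂ y hy)⟩ rfl,
          hc₂ ⟨y, hy⟩ ⟨_, hn1 e₂ he₂ y hy⟩ rfl,
          hc₂ ⟨_, hn1 e₁ he₁ y hy⟩ ⟨_, hn1 e₂ he₂ _ (hn1 e₁ he₁ y hy)⟩ rfl,
          hc₁ ⟨y, hy⟩ ⟨_, hn1 e₁ he₁ y hy⟩ rfl, smul_smul, smul_smul, mul_comm c₁]
      have hQ2 : ∀ x : ↥Q, π ⟨_, hn2 e₁ he₁ _ (hn2 e₂ he₂ x x.2)⟩ =
          π ⟨_, hn2 e₂ he₂ _ (hn2 e₁ he₁ x x.2)⟩ := by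
        rintro ⟨x, hx⟩
        rw [← inv_mul_eq_one, ← map_inv, ← map_mul, N.ker]
        obtain ⟨d, hd, w, hw, rfl⟩ := hdec x hx
        set A := e₁ * (e₂ * d * e₂⁻¹) * e₁⁻¹ with hA
        set A' := e₂ * (e₁ * d * e₁⁻¹) * e₂⁻¹ with hA'
        have hAA : A⁻¹ * A' ∈ W := hVQ ⟨hVF d (hY.RE_le_Q (hDF hd)),
          Q.mul_mem (Q.inv_mem (hn2 _ he₁ _ (hn2 _ he₂ d (hDQ hd))))
            (hn2 _ he₂ _ (hn2 _ he₁ d (hDQ hd)))⟩
        have hW2 : ∀ e ∈ E, ∀ e' ∈ E, e * (e' * w * e'⁻¹) * e⁻¹ ∈ W := fun e he e' he' =>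
          (mem_normalizer_iff.mp (Exc.E_le_normalizer_W he) _).mp
            ((mem_normalizer_iff.mp (Exc.E_le_normalizer_W he') w).mp hw)
        have e1 : (e₁ * (e₂ * (d * w) * e₂⁻¹) * e₁⁻¹)⁻¹ * (e₂ * (e₁ * (d * w) * e₁⁻¹) * e₂⁻¹) =
            (e₁ * (e₂ * w * e₂⁻¹) * e₁⁻¹)⁻¹ * (A⁻¹ * A') *
              (e₂ * (e₁ * w * e₁⁻¹) * e₂⁻¹) := by rw [hA, hA']; group
        show (e₁ * (e₂ * (d * w) * e₂⁻¹) * e₁⁻¹)⁻¹ * (e₂ * (e₁ * (d * w) * e₁⁻¹) * e₂⁻¹) ∈ W
        rw [e1]
        exact W.mul_mem (W.mul_mem (W.inv_mem (hW2 _ he₁ _ he₂)) hAA) (hW2 _ he₂ _ he₁)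
      obtain ⟨x, hx⟩ := N.surj (Multiplicative.ofAdd ![1, 0])
      have := congrArg Multiplicative.toAdd (hQ2 x)
      rw [he₁Q ⟨_, hn2 e₂ he₂ x x.2⟩ ⟨_, hn2 e₁ he₁ _ (hn2 e₂ he₂ x x.2)⟩ rfl,
        he₂Q x ⟨_, hn2 e₂ he₂ x x.2⟩ rfl,
        he₂Q ⟨_, hn2 e₁ he₁ x x.2⟩ ⟨_, hn2 e₂ he₂ _ (hn2 e₁ he₁ x x.2)⟩ rfl,
        he₁Q x ⟨_, hn2 e₁ he₁ x x.2⟩ rfl, hx, hg₁M, hg₂M] at this
      have h0 := congrFun this 0
      simp [Matrix.mulVec, dotProduct, Fin.sum_univ_two] at h0
      exact one_ne_zero (α := K) (by linear_combination h0)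
  conv_lhs => rw [← hF.res]
  refine LocalStructure.pResOf_le_of_forall fun f hf hc => ?_
  refine coprime_centralizes_of_series (P := W) (V := ⊥) (LocalStructure.pCoreOf_isPGroup E) hc
    (hFQn hf) ((commutator_mono le_rfl (zpowers_le.mpr hf)).trans hDW) ?_ (commutator_bot_left _)
  rw [le_bot_iff, commutator_eq_bot_iff_le_centralizer, le_centralizer_iff, zpowers_le,
    mem_centralizer_iff]
  intro w hw
  have hUf : modU 3 E ≤ centralizer ({f} : Set G) := fun u hu => mem_centralizer_iff.mpr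
    fun y hy => by rw [Set.mem_singleton_iff.mp hy]; exact (mem_centralizer_iff.mp (h hf) u hu).symm
  have hZf : W ⊓ centralizer (E : Set G) ≤ centralizer ({f} : Set G) := by
    show omegaOneCenter 3 (pCoreOf 3 E) ⊓ centralizer (E : Set G) ≤ _
    rw [← hX.comm, commutator_le]
    intro q hq q' hq'
    refine mem_centralizer_iff.mpr fun y hy => ?_
    rw [Set.mem_singleton_iff.mp hy, ← mul_inv_eq_iff_eq_mul]
    have hconj : ∀ q ∈ Q, ∃ w ∈ W, f * q * f⁻¹ = w * q := fun q hq => by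
      refine ⟨⁅q, f⁆⁻¹, inv_mem (hDW (commutator_mem_commutator hq hf)), ?_⟩
      simp only [commutatorElement_def]; group
    obtain ⟨w, hw, h1⟩ := hconj q hq
    obtain ⟨w', hw', h2⟩ := hconj q' hq'
    have e1 : f * ⁅q, q'⁆ * f⁻¹ = ⁅f * q * f⁻¹, f * q' * f⁻¹⁆ := by
      simp only [commutatorElement_def]; group
    rw [e1, h1, h2]
    have c1 : w * q = q * w := (hWQc q hq w hw).symm
    have c2 : w' * q' = q' * w' := (hWQc q' hq' w' hw').symm
    have c3 : ∀ a ∈ Q, ∀ b ∈ W, a * b * a⁻¹ = b := fun a ha b hb => by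
      rw [hWQc a ha b hb, mul_inv_cancel_right]
    simp only [commutatorElement_def, mul_inv_rev]
    calc w * q * (w' * q') * (q⁻¹ * w⁻¹) * (q'⁻¹ * w'⁻¹)
        = w * (q * w' * q⁻¹) * (q * q' * q⁻¹) * w⁻¹ * (q'⁻¹ * w'⁻¹) := by group
      _ = w * w' * ((q * q' * q⁻¹) * w⁻¹ * (q * q' * q⁻¹)⁻¹) * (q * q' * q⁻¹ * q'⁻¹) * w'⁻¹ := by
        rw [c3 q hq w' hw']; group
      _ = (w * w' * w⁻¹) * ((q * q' * q⁻¹ * q'⁻¹) * w'⁻¹ * (q * q' * q⁻¹ * q'⁻¹)⁻¹) *
            (q * q' * q⁻¹ * q'⁻¹) := by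
        rw [c3 _ (Q.mul_mem (Q.mul_mem hq hq') (Q.inv_mem hq)) _ (W.inv_mem hw)]; group
      _ = _ := by
        rw [c3 w (Exc.W_le_Q hw) w' hw', c3 _ (Q.mul_mem (Q.mul_mem (Q.mul_mem hq hq')
          (Q.inv_mem hq)) (Q.inv_mem hq')) _ (W.inv_mem hw'), mul_inv_cancel, one_mul]
  have hWf : W ≤ centralizer ({f} : Set G) := hE.W_eq.le.trans (sup_le hUf hZf)
  exact (mem_centralizer_iff.mp (hWf hw) f rfl).symm

/-- **B1**: a block lying in `E · C(U_E)`, with module in `U_E`, lies in the subnormal block `E`. -/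
theorem le_of_le_sup_centralizer
    (hFE : F ≤ normalizer (E : Set G)) (hU : modU p F ≤ modU p E)
    (hsub : F ≤ E ⊔ centralizer (modU p E : Set G)) : F ≤ E := by
  haveI := LocalStructure.pCore_normal (p := p) (G := G)
  set C := centralizer (modU p E : Set G)
  set D := (E ⊔ F) ⊓ C
  set P := pCoreOf p E ⊔ ⁅𝐑, F⁆
  have hDp : IsPGroup p D := by
    refine LocalStructure.isPGroup_of_coprime_eq_one fun x hx hc => ?_
    have hx' : x ∈ F ⊔ E := sup_comm E F ▸ hx.1
    obtain ⟨f, hf, e, he, rfl⟩ := (coe_mul_of_left_le_normalizer_right _ _ hFE).le hx'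
    have hxV : f * e ∈ centralizer (𝐕 : Set G) := by
      refine coprime_centralizes_of_series (P := modU p E) (V := ⊥) isPGroup_V hc
        (le_normalizer_V' ⊤ (mem_top _)) ?_ ?_ (commutator_bot_left _)
      · refine commutator_zpowers_le (centralizer_le_normalizer _ hx.2) fun v hv => ?_
        have e1 : ⁅v, f * e⁆ = ⁅v, f⁆ * (f * ⁅v, e⁆ * f⁻¹) := by
          simp only [commutatorElement_def]; group
        rw [e1]
        exact Subgroup.mul_mem _ (hU (commutator_mem_commutator hv hf))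
          ((mem_normalizer_iff.mp (hFE.trans (normalizer_le_normalizer_modU E) hf) _).mp
            (commutator_mem_commutator hv he))
      · rw [le_bot_iff, commutator_eq_bot_iff_le_centralizer, le_centralizer_iff, zpowers_le]
        exact hx.2
    have hQP : P ≤ centralizer ({f * e} : Set G) := sup_le
      (fun q hq => mem_centralizer_iff.mpr fun y hy => by
        rw [Set.mem_singleton_iff.mp hy]
        exact (mem_centralizer_iff.mp (hE.mem_centralizer_Q hEs hc hxV) q hq).symm)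
      (fun q hq => mem_centralizer_iff.mpr fun y hy => by
        rw [Set.mem_singleton_iff.mp hy]
        exact (mem_centralizer_iff.mp (hF.mem_centralizer_RE hc hxV) q hq).symm)
    have hPc : ⁅P, zpowers (f * e)⁆ = ⊥ := by
      rw [commutator_eq_bot_iff_le_centralizer, le_centralizer_iff, zpowers_le, mem_centralizer_iff]
      exact fun q hq => (mem_centralizer_iff.mp (hQP hq) _ rfl).symm
    have hxP : f * e ∈ normalizer (P : Set G) :=
      centralizer_le_normalizer _ (le_centralizer_iff.mp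
        (commutator_eq_bot_iff_le_centralizer.mp hPc) (mem_zpowers _))
    have hxR : f * e ∈ centralizer (𝐑 : Set G) := by
      refine coprime_centralizes_of_series (P := P) (V := ⊥) LocalStructure.pCore_isPGroup hc
        (le_normalizer_R' ⊤ (mem_top _)) ?_ hPc.le (commutator_bot_left _)
      refine commutator_zpowers_le hxP fun r hr => ?_
      have e1 : ⁅r, f * e⁆ = ⁅r, f⁆ * (f * ⁅r, e⁆ * f⁻¹) := by
        simp only [commutatorElement_def]; group
      rw [e1]
      refine Subgroup.mul_mem _ (mem_sup_right ?_) (mem_sup_left ?_)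
      · exact commutator_mem_commutator hr hf
      · refine (mem_normalizer_iff.mp
          (LocalStructure.normalizer_le_normalizer_pCoreOf E (hFE hf)) _).mp ?_
        rw [← hE.RE_eq hEs]; exact commutator_mem_commutator hr he
    exact LocalStructure.eq_one_of_coprime_of_mem LocalStructure.pCore_isPGroup (hE.charP hxR) hc
  have hFD : F ≤ D ⊔ E := by
    intro f hf
    have hCn : C ≤ normalizer (E : Set G) := hE.centralizer_U_le_normalizer
    obtain ⟨c, hc, e, he, rfl⟩ := (coe_mul_of_left_le_normalizer_right _ _ hCn).le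
      (sup_comm E C ▸ hsub hf)
    refine mul_mem (mem_sup_left ⟨?_, hc⟩) (mem_sup_right he)
    have : c * e * e⁻¹ ∈ E ⊔ F := mul_mem (mem_sup_right hf) (mem_sup_left (inv_mem he))
    simpa using this
  conv_lhs => rw [← hF.res]
  exact (LocalStructure.pResOf_mono hFD).trans
    (pResOf_sup_le hDp (inf_le_right.trans hE.centralizer_U_le_normalizer))

end IsBlockOf

end CfsgLib.BlockNormal85
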