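import Cfsg.Agent.BlockNormal85.Mat
import Cfsg.Agent.LocalStructure.Cores
import Cfsg.Agent.S4250
import Mathlib.GroupTheory.Abelianization.Defs
import Mathlib.GroupTheory.PGroup
import Mathlib.GroupTheory.GroupAction.Quotient

/-!
# The layered module of an exceptional block

`M` is an abelian group of exponent three on which a group acts, `W ≤ Q` are subgroups with `Q / W`
a natural `SL₂(F)'`-module, `L = O³(L)` centralises `W` and `S` is a Sylow subgroup of `L`
commuting with the block. Then either `L` centralises `Q`, or every element of the `3`-group `B`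
can be changed by an element of `B ∩ S` into one acting quadratically on `Q`.

The first branch of the proof (`S` centralises `Q`) is a relative trace, the second uses transfer.
-/

set_option linter.style.haveILetI false

namespace CfsgLib.BlockNormal85

open Subgroup
open scoped commutatorElement

variable {Γ : Type*} [Group Γ] {M : Type*} [AddCommGroup M] [DistribMulAction Γ M]
  {F : Type*} [Field F]

/-- The hypotheses of the layered module. -/
structure CoreData (L S B E : Subgroup Γ) (z : Γ) (W Q : AddSubgroup M)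
    (π : ↥Q →+ (Fin 2 → F)) : Prop where
  three : ∀ m : M, m + m + m = 0
  h3 : (3 : F) = 0
  wq : W ≤ Q
  piSurj : Function.Surjective π
  piKer : ∀ x, π x = 0 ↔ (x : M) ∈ W
  eQ : ∀ e ∈ E, ∀ x ∈ Q, e • x ∈ Q
  eOnto : ∀ g ∈ commutator (Matrix.SpecialLinearGroup (Fin 2) F), ∃ e ∈ E, ∀ x y : ↥Q,
    (y : M) = e • (x : M) → π y = (g : Matrix (Fin 2) (Fin 2) F).mulVec (π x)
  irr : ∀ X : AddSubgroup M, W ≤ X → X ≤ Q → (∀ e ∈ E, ∀ x ∈ X, e • x ∈ X) → X = W ∨ X = Q
  zE : z ∈ E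
  zQ : ∀ x ∈ Q, z • x + x ∈ W
  zW : ∀ w ∈ W, z • w = -w
  zz : ∀ m : M, z • z • m = m
  zM : ∀ m : M, m - z • m ∈ Q
  sl : S ≤ L
  pS : IsPGroup 3 S
  idx : ¬ 3 ∣ (S.subgroupOf L).index
  opL : LocalStructure.pResOf 3 L = L
  lW : ∀ l ∈ L, ∀ w ∈ W, l • w = w
  sQ : ∀ s ∈ S, ∀ x ∈ Q, s • x - x ∈ W
  sE : ∀ s ∈ S, ∀ e ∈ E, ∀ m : M, s • e • m = e • s • m
  eL : E ≤ normalizer (L : Set Γ)
  eS : E ≤ normalizer (S : Set Γ)
  pB : IsPGroup 3 B
  bL : B ≤ normalizer (L : Set Γ)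
  bS : B ≤ normalizer (S : Set Γ)
  bQ : ∀ b ∈ B, ∀ x ∈ Q, b • x ∈ Q
  bLin : ∀ b ∈ B, ∃ β : (Fin 2 → F) →ₗ[F] (Fin 2 → F), ∀ x y : ↥Q,
    (y : M) = b • (x : M) → π y = β (π x)
  bz : ∀ b ∈ B, ∀ m : M, b • z • m = z • b • m
  bQuadW : ∀ b ∈ B, ∀ w ∈ W, b • (b • w - w) = b • w - w
  bQuad : ∀ b ∈ B, ∀ x ∈ Q, b • (b • x - x) - (b • x - x) ∈ W
  bNorm : ∀ n ∈ L, n ∈ normalizer (S : Set Γ) → (∀ b ∈ B, b * n * b⁻¹ * n⁻¹ ∈ S) →
    n ∈ normalizer (B : Set Γ)

namespace CoreData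

variable {L S B E : Subgroup Γ} {z : Γ} {W Q : AddSubgroup M} {π : ↥Q →+ (Fin 2 → F)}
  (h : CoreData L S B E z W Q π)
include h

theorem eq_zero_of_fixed {m : M} (hm : m ∈ W) (hz : z • m = m) : m = 0 := by
  have h1 : m = -m := hz.symm.trans (h.zW m hm)
  have h2 : m + m = 0 := by nth_rw 2 [h1]; exact add_neg_cancel m
  have h3 := h.three m
  rwa [h2, zero_add] at h3

/-- Every element of `M` is an element of `Q` plus one fixed by `z`. -/
theorem decomp (m : M) : ∃ y ∈ Q, z • (m - y) = m - y := by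
  refine ⟨-(m - z • m), neg_mem (h.zM m), ?_⟩
  simp only [smul_sub, smul_neg, h.zz]
  have h1 := h.three m
  have h2 := h.three (z • m)
  rw [← sub_eq_zero]
  calc z • m - -(z • m - m) - (m - -(m - z • m))
      = (z • m + z • m + z • m) - (m + m + m) := by abel
    _ = 0 := by rw [h1, h2, sub_self]

/-- The action of `S` on `Q` is additive. -/
theorem delta_mul {s t : Γ} (hs : s ∈ S) (ht : t ∈ S) {x : M} (hx : x ∈ Q) :
    (s * t) • x - x = (s • x - x) + (t • x - x) := by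
  have h1 := h.lW s (h.sl hs) _ (h.sQ t ht x hx)
  rw [smul_sub] at h1
  rw [mul_smul, eq_add_of_sub_eq h1]
  abel

theorem delta_inv {s : Γ} (hs : s ∈ S) {x : M} (hx : x ∈ Q) :
    s⁻¹ • x - x = -(s • x - x) := by
  have h1 := h.delta_mul hs (inv_mem hs) hx
  rw [mul_inv_cancel, one_smul, sub_self] at h1
  exact eq_neg_of_add_eq_zero_right h1.symm

theorem smul_w_eq {s : Γ} (hs : s ∈ S) {x x' : M} (hxx : x - x' ∈ W) :
    s • x - x = s • x' - x' := by
  have h1 := h.lW s (h.sl hs) _ hxx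
  rw [smul_sub, sub_eq_sub_iff_sub_eq_sub] at h1
  exact h1

theorem pi_eq {x x' : ↥Q} : π x = π x' ↔ (x : M) - x' ∈ W := by
  rw [← sub_eq_zero, ← map_sub, h.piKer]
  rfl

section Twist

variable {D : Subgroup Γ} (hD : D ≤ S)
include hD

/-- `g x` looks like some `y ∈ Q` to the group `D` normalised by `g`. -/
theorem exists_rel {g : Γ} (hg : g ∈ L) (hgD : ∀ d ∈ D, g⁻¹ * d * g ∈ D) {x : M} (hx : x ∈ Q) :
    ∃ y ∈ Q, z • (g • x - y) = g • x - y ∧ (∀ d ∈ D, d • (g • x - y) = g • x - y) ∧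
      ∀ d ∈ D, d • y - y = (g⁻¹ * d * g) • x - x := by
  obtain ⟨y, hy, hz⟩ := h.decomp (g • x)
  have hmove : ∀ d ∈ D, d • g • x - g • x = (g⁻¹ * d * g) • x - x := by
    intro d hd
    have h1 := h.lW g hg _ (h.sQ _ (hD (hgD d hd)) x hx)
    rw [← h1, smul_sub, ← mul_smul, ← mul_smul, mul_assoc g⁻¹, mul_inv_cancel_left]
  have hfix : ∀ d ∈ D, d • (g • x - y) = g • x - y := by
    intro d hd
    rw [← sub_eq_zero]
    refine h.eq_zero_of_fixed ?_ ?_
    · rw [smul_sub, show d • g • x - d • y - (g • x - y) =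
        (d • g • x - g • x) - (d • y - y) by abel, hmove d hd]
      exact sub_mem (h.sQ _ (hD (hgD d hd)) x hx) (h.sQ d (hD hd) y hy)
    · rw [smul_sub, ← h.sE d (hD hd) z h.zE, hz]
  refine ⟨y, hy, hz, hfix, fun d hd => ?_⟩
  rw [← hmove d hd]
  have h1 := hfix d hd
  rw [smul_sub, sub_eq_sub_iff_sub_eq_sub] at h1
  exact h1.symm

variable (hne : ∃ d ∈ D, ∃ x ∈ Q, d • x ≠ x)
include hne

/-- An element of `Q` is determined modulo `W` by what `D` does to it. -/
theorem rel_unique {y y' : ↥Q} (hyy : ∀ d ∈ D, d • (y : M) - y = d • (y' : M) - y') :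
    π y = π y' := by
  let X : AddSubgroup M :=
    { carrier := {x | x ∈ Q ∧ ∀ d ∈ D, d • x = x}
      zero_mem' := ⟨zero_mem _, fun d _ => smul_zero d⟩
      add_mem' := fun {a b} ha hb => ⟨add_mem ha.1 hb.1, fun d hd => by
        rw [smul_add, ha.2 d hd, hb.2 d hd]⟩
      neg_mem' := fun {a} ha => ⟨neg_mem ha.1, fun d hd => by rw [smul_neg, ha.2 d hd]⟩ }
  rcases h.irr X (fun w hw => ⟨h.wq hw, fun d hd => h.lW d (h.sl (hD hd)) w hw⟩) (fun x hx => hx.1)
    (fun e he x hx => ⟨h.eQ e he x hx.1, fun d hd => by rw [h.sE d (hD hd) e he, hx.2 d hd]⟩) with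
    hX | hX
  · rw [h.pi_eq, ← hX]
    refine ⟨sub_mem y.2 y'.2, fun d hd => ?_⟩
    rw [smul_sub, sub_eq_sub_iff_sub_eq_sub, hyy d hd]
  · obtain ⟨d, hd, x, hx, hxd⟩ := hne
    exact absurd ((hX.ge hx).2 d hd) hxd

omit hne in
/-- `g` acts on `Q / W` as the scalar `c`, as far as `D` can see. -/
def Scalar (_h : CoreData L S B E z W Q π) (_hD : D ≤ S) (g : Γ) (c : F) : Prop :=
  ∀ x y : ↥Q, π y = c • π x → ∀ d ∈ D, d • (y : M) - y = (g⁻¹ * d * g) • (x : M) - x

theorem exists_scalar {g : Γ} (hg : g ∈ L) (hgD : ∀ d ∈ D, g⁻¹ * d * g ∈ D) :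
    ∃ c, h.Scalar hD g c := by
  have hex : ∀ x : ↥Q, ∃ y : ↥Q, ∀ d ∈ D, d • (y : M) - y = (g⁻¹ * d * g) • (x : M) - x :=
    fun x => by
      obtain ⟨y, hy, -, -, hy'⟩ := h.exists_rel hD hg hgD x.2
      exact ⟨⟨y, hy⟩, hy'⟩
  choose Y hY using hex
  choose sec hsec using h.piSurj
  have hwd : ∀ x x' : ↥Q, π x = π x' → π (Y x) = π (Y x') := by
    intro x x' hxx
    refine h.rel_unique hD hne fun d hd => ?_
    rw [hY x d hd, hY x' d hd]
    exact h.smul_w_eq (hD (hgD d hd)) (h.pi_eq.mp hxx)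
  let f : (Fin 2 → F) →+ (Fin 2 → F) := AddMonoidHom.mk' (fun v => π (Y (sec v))) fun v v' => by
    rw [← map_add]
    refine h.rel_unique hD hne fun d hd => ?_
    rw [hY _ d hd, AddSubgroup.coe_add, smul_add, add_sub_add_comm, hY _ d hd, hY _ d hd,
      ← add_sub_add_comm, ← smul_add]
    refine h.smul_w_eq (hD (hgD d hd)) ?_
    have := h.pi_eq.mp (show π (sec (v + v')) = π (sec v + sec v') by simp [hsec])
    rwa [AddSubgroup.coe_add] at this
  obtain ⟨c, hc⟩ := exists_scalar_of_commute h.h3 f (by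
    intro a ha v
    obtain ⟨e, he, hea⟩ := h.eOnto a ha
    set ey : ↥Q := ⟨e • (Y (sec v) : M), h.eQ e he _ (Y (sec v)).2⟩
    set ex : ↥Q := ⟨e • (sec v : M), h.eQ e he _ (sec v).2⟩
    show π (Y (sec _)) = _
    have h1 : π (Y ex) = π ey := by
      refine h.rel_unique hD hne fun d hd => ?_
      rw [hY ex d hd]
      show (g⁻¹ * d * g) • e • (sec v : M) - e • (sec v : M) = d • e • _ - e • _
      rw [h.sE _ (hD (hgD d hd)) e he, h.sE d (hD hd) e he, ← smul_sub, ← smul_sub, hY _ d hd]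
    rw [hwd (sec _) ex (by rw [hsec, hea (sec v) ex rfl, hsec]), h1, hea (Y (sec v)) ey rfl]
    rfl)
  refine ⟨c, fun x y hxy d hd => ?_⟩
  have h1 : π y = π (Y x) := by
    rw [hxy, ← hc, hwd x (sec (π x)) (hsec _).symm]
    rfl
  rw [h.smul_w_eq (hD hd) (h.pi_eq.mp h1), hY x d hd]

theorem scalar_unique {g : Γ} {c c' : F} (h1 : h.Scalar hD g c) (h2 : h.Scalar hD g c') :
    c = c' := by
  obtain ⟨v, hv⟩ := exists_ne (0 : Fin 2 → F)
  obtain ⟨x, hx⟩ := h.piSurj v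
  obtain ⟨y, hy⟩ := h.piSurj (c • v)
  obtain ⟨y', hy'⟩ := h.piSurj (c' • v)
  have := h.rel_unique hD hne (y := y) (y' := y') fun d hd => by
    rw [h1 x y (by rw [hx, hy]) d hd, h2 x y' (by rw [hx, hy']) d hd]
  rw [hy, hy'] at this
  exact smul_left_injective F hv this

omit hne in
theorem scalar_one : h.Scalar hD 1 1 := by
  intro x y hxy d hd
  rw [one_smul] at hxy
  rw [inv_one, one_mul, mul_one]
  exact h.smul_w_eq (hD hd) (h.pi_eq.mp hxy)

omit hne in
theorem scalar_mul {g g' : Γ} {c c' : F} (hgD : ∀ d ∈ D, g⁻¹ * d * g ∈ D)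
    (h1 : h.Scalar hD g c) (h2 : h.Scalar hD g' c') : h.Scalar hD (g * g') (c * c') := by
  intro x y hxy d hd
  obtain ⟨x', hx'⟩ := h.piSurj (c' • π x)
  rw [h1 x' y (by rw [hx', smul_smul, hxy]) d hd, h2 x x' hx' _ (hgD d hd)]
  simp [mul_assoc]

theorem conj_smul_eq_of_pElement {g : Γ} (hg : g ∈ L) (hgD : ∀ d ∈ D, g⁻¹ * d * g ∈ D) {k : ℕ}
    (hk : g ^ 3 ^ k = 1) {d : Γ} (hd : d ∈ D) {x : M} (hx : x ∈ Q) :
    (g⁻¹ * d * g) • x = d • x := by
  obtain ⟨c, hc⟩ := h.exists_scalar hD hne hg hgD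
  have hpow : ∀ i : ℕ, (∀ d ∈ D, (g ^ i)⁻¹ * d * g ^ i ∈ D) ∧ h.Scalar hD (g ^ i) (c ^ i) := by
    intro i
    induction i with
    | zero => exact ⟨by simp, by simpa using h.scalar_one hD⟩
    | succ i ih =>
      refine ⟨fun d hd => ?_, ?_⟩
      · have := hgD _ (ih.1 d hd)
        simpa [pow_succ, mul_assoc] using this
      · rw [pow_succ, pow_succ]; exact h.scalar_mul hD ih.1 ih.2 hc
  have hc1 : c ^ 3 ^ k = 1 := h.scalar_unique hD hne
    (by simpa [hk] using (hpow (3 ^ k)).2) (h.scalar_one hD)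
  haveI : Fact (Nat.Prime 3) := ⟨Nat.prime_three⟩
  haveI : CharP F 3 := (CharP.charP_iff_prime_eq_zero Nat.prime_three).mpr (by exact_mod_cast h.h3)
  have hcc : c = 1 := by
    have h0 : (c - 1) ^ 3 ^ k = 0 := by rw [sub_pow_char_pow, hc1, one_pow, sub_self]
    exact sub_eq_zero.mp ((pow_eq_zero_iff (pow_ne_zero k (by norm_num))).mp h0)
  have := hc ⟨x, hx⟩ ⟨x, hx⟩ (by rw [hcc, one_smul]) d hd
  exact (sub_left_inj.mp this).symm

end Twist

theorem eq_bot_of_S [Finite Γ] (hS : ∀ s ∈ S, ∀ x ∈ Q, s • x = x) :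
    (∀ l ∈ L, ∀ x ∈ Q, l • x = x) ∨
      ∀ b ∈ B, ∀ x ∈ Q, b • (b • x - x) = b • x - x := by
  classical
  set T := S.subgroupOf L with hT
  haveI : Fintype (↥L ⧸ T) := Fintype.ofFinite _
  let f : ↥Q → (↥L ⧸ T) → M := fun x q => Quotient.liftOn' q (fun l => (l : Γ) • (x : M))
    (fun l l' hll => by
      rw [QuotientGroup.leftRel_apply, hT, mem_subgroupOf] at hll
      have := hS _ hll x x.2
      rw [Subgroup.coe_mul, Subgroup.coe_inv, mul_smul, inv_smul_eq_iff] at this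
      exact this.symm)
  let τ : ↥Q → M := fun x => ∑ q, f x q
  have hf : ∀ (x : ↥Q) (l : ↥L), f x (QuotientGroup.mk l) = (l : Γ) • (x : M) := fun x l => rfl
  have τadd : ∀ x y, τ (x + y) = τ x + τ y := fun x y => by
    simp only [τ, ← Finset.sum_add_distrib]
    refine Finset.sum_congr rfl fun q _ => ?_
    induction q using QuotientGroup.induction_on with
    | _ l => simp only [hf, AddSubgroup.coe_add, smul_add]
  have τfix : ∀ l ∈ L, ∀ x, l • τ x = τ x := by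
    intro l hl x
    simp only [τ, Finset.smul_sum]
    refine Fintype.sum_equiv (MulAction.toPerm (⟨l, hl⟩ : ↥L)) _ _ fun q => ?_
    induction q using QuotientGroup.induction_on with
    | _ k =>
      show l • f x _ = f x (QuotientGroup.mk ((⟨l, hl⟩ : ↥L) * k))
      rw [hf, hf, Subgroup.coe_mul, mul_smul]
  have τequiv : ∀ g, g ∈ normalizer (L : Set Γ) → g ∈ normalizer (S : Set Γ) →
      ∀ x y : ↥Q, (y : M) = g • (x : M) → τ y = g • τ x := by
    intro g hgL hgS x y hxy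
    let φ : ↥L → ↥L := fun k => ⟨g⁻¹ * k * g, (mem_normalizer_iff''.mp hgL _).mp k.2⟩
    have hφ : ∀ a b : ↥L, QuotientGroup.leftRel T a b → QuotientGroup.leftRel T (φ a) (φ b) := by
      intro a b hab
      rw [QuotientGroup.leftRel_apply, hT, mem_subgroupOf] at hab ⊢
      have := (mem_normalizer_iff''.mp hgS _).mp hab
      simpa [φ, mul_assoc] using this
    have hinj : Function.Injective (Quotient.map' (s₂ := QuotientGroup.leftRel T) φ hφ) := by
      intro q q'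
      induction q using QuotientGroup.induction_on with | _ a => ?_
      induction q' using QuotientGroup.induction_on with | _ b => ?_
      intro he
      have he' := QuotientGroup.eq.mp (show (QuotientGroup.mk (φ a) : ↥L ⧸ T) =
        QuotientGroup.mk (φ b) from he)
      refine QuotientGroup.eq.mpr ?_
      rw [hT, mem_subgroupOf] at he' ⊢
      refine (mem_normalizer_iff''.mp hgS _).mpr ?_
      simpa [φ, mul_assoc] using he'
    simp only [τ, Finset.smul_sum]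
    refine Fintype.sum_bijective _ (Finite.injective_iff_bijective.mp hinj) _ _ fun q => ?_
    induction q using QuotientGroup.induction_on with
    | _ k =>
      show f y (QuotientGroup.mk k) = g • f x (QuotientGroup.mk (φ k))
      rw [hf, hf, hxy, ← mul_smul, ← mul_smul]
      congr 1
      simp [φ, mul_assoc]
  set k := Fintype.card (↥L ⧸ T) with hk
  have τw : ∀ x : ↥Q, (x : M) ∈ W → τ x = k • (x : M) := by
    intro x hx
    simp only [τ]
    rw [hk, Fintype.card, ← Finset.sum_const]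
    refine Finset.sum_congr rfl fun q _ => ?_
    induction q using QuotientGroup.induction_on with
    | _ l => rw [hf, h.lW l l.2 x hx]
  have τQ : ∀ x, τ x ∈ Q := by
    intro x
    set zx : ↥Q := ⟨z • (x : M), h.eQ z h.zE x x.2⟩
    have hw : ((x - (zx - x) : ↥Q) : M) ∈ W := by
      show (x : M) - (z • (x : M) - x) ∈ W
      have e : (x : M) - (z • (x : M) - x) = -(z • (x : M) + x) + ((x : M) + x + x) := by abel
      rw [e, h.three, add_zero]
      exact neg_mem (h.zQ x x.2)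
    have e : x = (zx - x) + (x - (zx - x)) := by abel
    have hsub : τ (zx - x) = τ zx - τ x := by
      rw [eq_sub_iff_add_eq, ← τadd, sub_add_cancel]
    rw [e, τadd, hsub, τw _ hw, τequiv z (h.eL h.zE) (h.eS h.zE) x zx rfl]
    refine add_mem ?_ (Q.nsmul_mem (h.wq hw) _)
    have := neg_mem (h.zM (τ x))
    rwa [neg_sub] at this
  let F0 : AddSubgroup M :=
    { carrier := {x | x ∈ Q ∧ ∀ l ∈ L, l • x = x}
      zero_mem' := ⟨zero_mem _, fun d _ => smul_zero d⟩
      add_mem' := fun {a b} ha hb => ⟨add_mem ha.1 hb.1, fun d hd => by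
        rw [smul_add, ha.2 d hd, hb.2 d hd]⟩
      neg_mem' := fun {a} ha => ⟨neg_mem ha.1, fun d hd => by rw [smul_neg, ha.2 d hd]⟩ }
  rcases h.irr F0 (fun w hw => ⟨h.wq hw, fun l hl => h.lW l hl w hw⟩) (fun x hx => hx.1)
    (fun e he x hx => ⟨h.eQ e he x hx.1, fun l hl => by
      have h1 := hx.2 _ ((mem_normalizer_iff''.mp (h.eL he) l).mp hl)
      rw [mul_smul, mul_smul, inv_smul_eq_iff] at h1
      exact h1⟩) with hF | hF
  swap
  · exact Or.inl fun l hl x hx => (hF.ge hx).2 l hl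
  refine Or.inr fun b hb x hx => ?_
  set x' : ↥Q := ⟨x, hx⟩
  set bx : ↥Q := ⟨b • x, h.bQ b hb x hx⟩
  set bd : ↥Q := ⟨b • (bx - x' : ↥Q), h.bQ b hb _ (bx - x' : ↥Q).2⟩
  have hτW : τ x' ∈ W := hF.le ⟨τQ x', fun l hl => τfix l hl x'⟩
  have hsub : ∀ p r, τ (p - r) = τ p - τ r := fun p r => by
    rw [eq_sub_iff_add_eq, ← τadd, sub_add_cancel]
  have hup : τ (bd - (bx - x')) = 0 := by
    rw [hsub, τequiv b (h.bL hb) (h.bS hb) (bx - x') bd rfl, hsub,
      τequiv b (h.bL hb) (h.bS hb) x' bx rfl, h.bQuadW b hb _ hτW, sub_self]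
  have hw : ((bd - (bx - x') : ↥Q) : M) ∈ W := h.bQuad b hb x hx
  rw [τw _ hw] at hup
  have hcop : k.Coprime 3 := by
    rw [Nat.coprime_comm, Nat.prime_three.coprime_iff_not_dvd]
    have := h.idx
    rwa [Subgroup.index, Nat.card_eq_fintype_card, ← hk] at this
  have h30 : 3 • ((bd - (bx - x') : ↥Q) : M) = 0 := by
    rw [succ_nsmul, two_nsmul]; exact h.three _
  have hone : ((bd - (bx - x') : ↥Q) : M) = 0 := by
    have h1 := addOrderOf_dvd_iff_nsmul_eq_zero.mpr hup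
    have h2 := addOrderOf_dvd_iff_nsmul_eq_zero.mpr h30
    exact AddMonoid.addOrderOf_eq_one_iff.mp (Nat.eq_one_of_dvd_coprimes hcop h1 h2)
  exact sub_eq_zero.mp hone

/-- If `S` moves `Q`, some element normalising `S` acts on `Q / W` as a nontrivial scalar. -/
theorem exists_scalar_ne_one [Finite Γ] (hne : ∃ s ∈ S, ∃ x ∈ Q, s • x ≠ x) :
    ∃ n ∈ L, n ∈ normalizer (S : Set Γ) ∧ ∃ c, c ≠ 1 ∧ h.Scalar le_rfl n c := by
  classical
  by_contra hall
  push Not at hall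
  haveI : Fact (Nat.Prime 3) := ⟨Nat.prime_three⟩
  let P : Sylow 3 ↥L := IsPGroup.toSylow
    (h.pS.comap_of_injective L.subtype L.subtype_injective) h.idx
  have hP : (P : Subgroup ↥L) = S.subgroupOf L := rfl
  have hPle : (P : Subgroup ↥L) ≤ commutator ↥L := by
    intro s hs
    let K : Subgroup (Abelianization ↥L) :=
      { carrier := {y | (orderOf y).Coprime 3}
        one_mem' := by simp
        mul_mem' := fun {a b} ha hb => Nat.Coprime.coprime_dvd_left
          (Commute.orderOf_mul_dvd_lcm (Commute.all a b))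
          (Nat.Coprime.coprime_dvd_left (Nat.lcm_dvd_mul _ _) (Nat.Coprime.mul_left ha hb))
        inv_mem' := fun {a} ha => by simpa using ha }
    have hK : L ≤ (K.comap Abelianization.of).map L.subtype := by
      conv_lhs => rw [← h.opL]
      exact LocalStructure.pResOf_le_of_forall fun g hg hc => ⟨⟨g, hg⟩,
        Nat.Coprime.coprime_dvd_left (orderOf_map_dvd _ _) (by rwa [Subgroup.orderOf_mk]), rfl⟩
    obtain ⟨s', hs', hss'⟩ := hK s.2
    rw [L.subtype_injective hss'] at hs'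
    obtain ⟨j, hj⟩ := IsPGroup.iff_orderOf.1 P.2 ⟨s, hs⟩
    rw [Subgroup.orderOf_mk] at hj
    have h1 : orderOf (Abelianization.of s) = 1 :=
      Nat.eq_one_of_dvd_coprimes ((hs' : (orderOf _).Coprime 3).pow_right j) dvd_rfl
        ((orderOf_map_dvd _ _).trans hj.dvd)
    rwa [orderOf_eq_one_iff, ← MonoidHom.mem_ker, Abelianization.ker_of] at h1
  let K0 : Subgroup ↥L :=
    { carrier := {s | (s : Γ) ∈ S ∧ ∀ x ∈ Q, (s : Γ) • x = x}
      one_mem' := ⟨S.one_mem, fun x _ => one_smul Γ x⟩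
      mul_mem' := fun {a b} ha hb => ⟨S.mul_mem ha.1 hb.1, fun x hx => by
        rw [Subgroup.coe_mul, mul_smul, hb.2 x hx, ha.2 x hx]⟩
      inv_mem' := fun {a} ha => ⟨S.inv_mem ha.1, fun x hx => by
        rw [Subgroup.coe_inv, inv_smul_eq_iff, ha.2 x hx]⟩ }
  -- the general step
  have step : ∀ D ≤ S, ∀ a ∈ D, ∀ b : Γ, b⁻¹ ∈ L → (∀ d ∈ D, b * d * b⁻¹ ∈ D) →
      (∀ d ∈ D, ∀ x ∈ Q, (b * d * b⁻¹) • x = d • x) → ∀ (hm : a * b * a⁻¹ * b⁻¹ ∈ L),
      (⟨_, hm⟩ : ↥L) ∈ K0 := by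
    intro D hD a ha b _ hbD hact hm
    have hm2 : b * a⁻¹ * b⁻¹ ∈ S := hD (hbD _ (inv_mem ha))
    refine ⟨?_, fun x hx => ?_⟩
    · show a * b * a⁻¹ * b⁻¹ ∈ S
      simpa [mul_assoc] using S.mul_mem (hD ha) hm2
    · show (a * b * a⁻¹ * b⁻¹) • x = x
      rw [show a * b * a⁻¹ * b⁻¹ = a * (b * a⁻¹ * b⁻¹) by simp [mul_assoc], ← sub_eq_zero,
        h.delta_mul (hD ha) hm2 hx, hact _ (inv_mem ha) x hx, h.delta_inv (hD ha) hx,
        add_neg_cancel]
  obtain ⟨s, hs, x, hx, hsx⟩ := hne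
  refine hsx ?_
  suffices hle : (P : Subgroup ↥L) ≤ K0 from
    (hle (show (⟨s, h.sl hs⟩ : ↥L) ∈ (P : Subgroup ↥L) from hs)).2 x hx
  conv_lhs => rw [← inf_eq_left.mpr hPle, Cfsg.Agent.S4250.result 3 P]
  refine sup_le ?_ (iSup₂_le fun R hR => iSup₂_le fun y hy => ?_)
  · rw [commutator_le]
    intro a ha b hb
    have hbn : ∀ d ∈ S, (b : Γ) * d * (b : Γ)⁻¹ ∈ S := fun d hd =>
      (mem_normalizer_iff.mp hb ⟨d, h.sl hd⟩).mp hd
    refine step S le_rfl a ha b (inv_mem b.2) hbn (fun d hd x hx => ?_) _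
    have hbS : (b : Γ)⁻¹ ∈ normalizer (S : Set Γ) := by
      rw [inv_mem_iff, mem_normalizer_iff]
      refine fun d => ⟨hbn d, fun hd => ?_⟩
      have hd' := (mem_normalizer_iff''.mp hb ⟨_, h.sl hd⟩).mp hd
      simpa [hP, mem_subgroupOf, mul_assoc] using hd'
    by_cases hne' : ∃ d ∈ S, ∃ x ∈ Q, d • x ≠ x
    · obtain ⟨c, hc⟩ := h.exists_scalar le_rfl hne' (inv_mem b.2)
        (fun d hd => by rw [inv_inv]; exact hbn d hd)
      have hc1 : c = 1 := by
        by_contra hc1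
        exact hall _ (inv_mem b.2) hbS c hc1 hc
      have := hc ⟨x, hx⟩ ⟨x, hx⟩ (by rw [hc1, one_smul]) d hd
      rw [inv_inv] at this
      exact (sub_left_inj.mp this).symm
    · push Not at hne'
      rw [hne' _ (hbn d hd) x hx, hne' d hd x hx]
  · rw [commutator_le]
    intro a ha b hb
    obtain ⟨i, rfl⟩ := mem_zpowers_iff.mp hb
    obtain ⟨hyN, j, hj⟩ := hy
    set D := (P : Subgroup ↥L) ⊓ (R : Subgroup ↥L)
    have hpj : ((y ^ i)⁻¹ : ↥L) ^ 3 ^ j = 1 := by
      have hy1 : y ^ 3 ^ j = 1 := by rw [← hj]; exact pow_orderOf_eq_one y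
      rw [inv_pow, ← zpow_natCast, ← zpow_mul, mul_comm, zpow_mul, zpow_natCast, hy1, one_zpow,
        inv_one]
    have hyi : y ^ i ∈ normalizer (D : Set ↥L) := zpow_mem hyN i
    have hDS : D.map L.subtype ≤ S := by
      rintro _ ⟨d, hd, rfl⟩
      exact hd.1
    have hbD : ∀ d ∈ D.map L.subtype, ((y ^ i : ↥L) : Γ) * d * ((y ^ i : ↥L) : Γ)⁻¹ ∈
        D.map L.subtype := by
      rintro _ ⟨d, hd, rfl⟩
      exact ⟨_, (mem_normalizer_iff.mp hyi d).mp hd, by simp⟩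
    refine step (D.map L.subtype) hDS a (mem_map_of_mem _ ha) _ (inv_mem (y ^ i).2) hbD
      (fun d hd x hx => ?_) _
    by_cases hne' : ∃ d ∈ D.map L.subtype, ∃ x ∈ Q, d • x ≠ x
    · have := h.conj_smul_eq_of_pElement hDS hne' (g := ((y ^ i : ↥L) : Γ)⁻¹)
        (inv_mem (y ^ i).2) (fun d hd => by rw [inv_inv]; exact hbD d hd) (k := j)
        (by exact_mod_cast congrArg Subtype.val hpj) hd hx
      rwa [inv_inv] at this
    · push Not at hne'
      rw [hne' _ (hbD d hd) x hx, hne' d hd x hx]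

/-- The scalar is invariant under conjugation by `B`. -/
theorem scalar_conj {n b : Γ} {c : F} (hb : b ∈ B) (hn : h.Scalar le_rfl n c) :
    h.Scalar le_rfl (b * n * b⁻¹) c := by
  intro x y hxy d hd
  have hd' : b⁻¹ * d * b ∈ S := (mem_normalizer_iff''.mp (h.bS hb) d).mp hd
  set x' : ↥Q := ⟨b⁻¹ • (x : M), h.bQ _ (inv_mem hb) _ x.2⟩
  set y' : ↥Q := ⟨b⁻¹ • (y : M), h.bQ _ (inv_mem hb) _ y.2⟩
  obtain ⟨β, hβ⟩ := h.bLin _ (inv_mem hb)
  have h1 := hn x' y' (by rw [hβ y y' rfl, hβ x x' rfl, hxy, map_smul]) _ hd'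
  have h2 := congrArg (b • ·) h1
  simp only [smul_sub] at h2
  simp only [x', y', ← mul_smul] at h2
  simpa [mul_assoc] using h2

/-- An element normalising `S` and `B` and fixed by `B` modulo `S` with a nontrivial scalar. -/
theorem exists_fixed [Finite Γ] (hne : ∃ s ∈ S, ∃ x ∈ Q, s • x ≠ x) :
    ∃ n ∈ L, n ∈ normalizer (S : Set Γ) ∧ n ∈ normalizer (B : Set Γ) ∧
      (∀ b ∈ B, b * n * b⁻¹ * n⁻¹ ∈ S) ∧ ∃ c, c ≠ 1 ∧ h.Scalar le_rfl n c := by
  classical
  obtain ⟨n, hn, hnS, c, hc1, hc⟩ := h.exists_scalar_ne_one hne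
  haveI : Fact (Nat.Prime 3) := ⟨Nat.prime_three⟩
  let U1 : Subgroup Γ :=
    { carrier := {g | g ∈ L ∧ g ∈ normalizer (S : Set Γ) ∧ h.Scalar le_rfl g 1}
      one_mem' := ⟨L.one_mem, one_mem _, h.scalar_one le_rfl⟩
      mul_mem' := fun {a b} ha hb => ⟨L.mul_mem ha.1 hb.1, mul_mem ha.2.1 hb.2.1, by
        simpa using h.scalar_mul le_rfl (fun d hd => (mem_normalizer_iff''.mp ha.2.1 d).mp hd)
          ha.2.2 hb.2.2⟩
      inv_mem' := fun {a} ha => ⟨L.inv_mem ha.1, inv_mem ha.2.1, by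
        intro x y hxy d hd
        rw [one_smul] at hxy
        have hd' : a * d * a⁻¹ ∈ S := (mem_normalizer_iff.mp ha.2.1 d).mp hd
        have h1 := ha.2.2 y x (by rw [one_smul, hxy]) _ hd'
        rw [inv_inv, h1]
        simp [mul_assoc]⟩ }
  have hSU : S ≤ U1 := by
    intro s hs
    have hsN := le_normalizer hs
    refine ⟨h.sl hs, hsN, fun x y hxy d hd => ?_⟩
    rw [one_smul] at hxy
    rw [h.smul_w_eq hd (h.pi_eq.mp hxy), h.delta_mul (S.mul_mem (inv_mem hs) hd) hs x.2,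
      h.delta_mul (inv_mem hs) hd x.2, h.delta_inv hs x.2]
    abel
  letI act : MulAction ↥B (Γ ⧸ S) :=
    { smul := fun b => Quotient.map' (fun g => (b : Γ) * g * (b : Γ)⁻¹) fun g g' hgg => by
        rw [QuotientGroup.leftRel_apply] at hgg ⊢
        have := (mem_normalizer_iff.mp (h.bS b.2) _).mp hgg
        simpa [mul_assoc] using this
      one_smul := fun q => Quotient.inductionOn' q fun g => by
        show Quotient.mk'' _ = Quotient.mk'' g
        simp
      mul_smul := fun a b q => Quotient.inductionOn' q fun g => by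
        show Quotient.mk'' _ = Quotient.mk'' _
        congr 1
        simp [mul_assoc] }
  have hsmul : ∀ (b : ↥B) (g : Γ),
      b • (QuotientGroup.mk g : Γ ⧸ S) = QuotientGroup.mk ((b : Γ) * g * (b : Γ)⁻¹) := fun _ _ => rfl
  let Ω : SubMulAction ↥B (Γ ⧸ S) :=
    { carrier := {q | ∃ u ∈ U1, QuotientGroup.mk (n * u) = q}
      smul_mem' := by
        rintro b _ ⟨u, hu, rfl⟩
        rw [hsmul]
        set g := (b : Γ) * (n * u) * (b : Γ)⁻¹
        have hgL : g ∈ L := (mem_normalizer_iff.mp (h.bL b.2) _).mp (L.mul_mem hn hu.1)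
        have hgN : g ∈ normalizer (S : Set Γ) :=
          mul_mem (mul_mem (h.bS b.2) (mul_mem hnS hu.2.1)) (inv_mem (h.bS b.2))
        have hnu : h.Scalar le_rfl (n * u) c := by
          simpa using h.scalar_mul le_rfl (fun d hd => (mem_normalizer_iff''.mp hnS d).mp hd)
            hc hu.2.2
        have hgc : h.Scalar le_rfl g c := h.scalar_conj b.2 hnu
        refine ⟨n⁻¹ * g, ⟨L.mul_mem (L.inv_mem hn) hgL, mul_mem (inv_mem hnS) hgN, ?_⟩,
          by rw [mul_inv_cancel_left]⟩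
        obtain ⟨c', hc'⟩ := h.exists_scalar le_rfl hne (L.mul_mem (L.inv_mem hn) hgL)
          (fun d hd => (mem_normalizer_iff''.mp (mul_mem (inv_mem hnS) hgN) d).mp hd)
        have h2 : h.Scalar le_rfl g (c * c') := by
          simpa using h.scalar_mul le_rfl (fun d hd => (mem_normalizer_iff''.mp hnS d).mp hd)
            hc hc'
        have h3 := h.scalar_unique le_rfl hne h2 hgc
        have hc0 : c ≠ 0 := by
          rintro rfl
          obtain ⟨d, hd, x, hx, hdx⟩ := hne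
          refine hdx ?_
          have := hc ⟨x, hx⟩ 0 (by simp) (n * d * n⁻¹)
            ((mem_normalizer_iff.mp hnS d).mp hd)
          simp only [ZeroMemClass.coe_zero, smul_zero, sub_zero, mul_assoc, inv_mul_cancel,
            mul_one, inv_mul_cancel_left] at this
          exact sub_eq_zero.mp this.symm
        rw [mul_eq_left₀ hc0] at h3
        rwa [h3] at hc' }
  have hcard : ¬ 3 ∣ Nat.card ↥Ω := by
    have e : Nat.card ↥Ω = S.relIndex U1 := by
      rw [Subgroup.relIndex, Subgroup.index]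
      refine (Nat.card_eq_of_bijective (fun q : ↥U1 ⧸ S.subgroupOf U1 =>
        (⟨Quotient.liftOn' q (fun u => QuotientGroup.mk (n * (u : Γ))) (fun u u' huu => by
            rw [QuotientGroup.leftRel_apply, mem_subgroupOf] at huu
            refine QuotientGroup.eq.mpr ?_
            simpa [mul_assoc] using huu),
          Quotient.inductionOn' q fun u => ⟨u, u.2, rfl⟩⟩ : ↥Ω)) ⟨?_, ?_⟩).symm
      · intro q q'
        induction q using QuotientGroup.induction_on with | _ u => ?_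
        induction q' using QuotientGroup.induction_on with | _ u' => ?_
        intro he
        have := QuotientGroup.eq.mp (congrArg Subtype.val he :
          (QuotientGroup.mk (n * (u : Γ)) : Γ ⧸ S) = QuotientGroup.mk (n * (u' : Γ)))
        refine QuotientGroup.eq.mpr ?_
        rw [mem_subgroupOf]
        simpa [mul_assoc] using this
      · rintro ⟨_, u, hu, rfl⟩
        exact ⟨QuotientGroup.mk ⟨u, hu⟩, rfl⟩
    rw [e]
    intro hd
    refine h.idx (hd.trans ?_)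
    show S.relIndex U1 ∣ S.relIndex L
    exact Dvd.intro _ (relIndex_mul_relIndex S U1 L hSU fun g hg => hg.1)
  obtain ⟨⟨q, u, hu, rfl⟩, hfix⟩ :=
    h.pB.nonempty_fixed_point_of_prime_not_dvd_card ↥Ω hcard
  have hnuL : n * u ∈ L := L.mul_mem hn hu.1
  have hnuS : n * u ∈ normalizer (S : Set Γ) := mul_mem hnS hu.2.1
  have hcom : ∀ b ∈ B, b * (n * u) * b⁻¹ * (n * u)⁻¹ ∈ S := by
    intro b hb
    have h1 := congrArg Subtype.val (hfix ⟨b, hb⟩)
    rw [SubMulAction.val_smul, hsmul] at h1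
    have h2 := QuotientGroup.eq.mp h1.symm
    have := (mem_normalizer_iff.mp hnuS _).mp h2
    simpa [mul_assoc] using this
  refine ⟨n * u, hnuL, hnuS, h.bNorm _ hnuL hnuS hcom, hcom, c, hc1, ?_⟩
  simpa using h.scalar_mul le_rfl (fun d hd => (mem_normalizer_iff''.mp hnS d).mp hd) hc hu.2.2

/-- If `S` moves `Q`, each element of `B` is congruent modulo `B ∩ S` to a quadratic one. -/
theorem exists_quadratic [Finite Γ] (hne : ∃ s ∈ S, ∃ x ∈ Q, s • x ≠ x) {b : Γ} (hb : b ∈ B) :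
    ∃ s ∈ B ⊓ S, ∀ x ∈ Q, (b * s) • ((b * s) • x - x) = (b * s) • x - x := by
  classical
  obtain ⟨n, hn, hnS, hnB, hcom, c, hc1, hc⟩ := h.exists_fixed hne
  have hc10 : c - 1 ≠ 0 := sub_ne_zero.mpr hc1
  set s1 := b⁻¹ * (n * b * n⁻¹) with hs1
  have hs1m : s1 ∈ B ⊓ S := by
    refine ⟨B.mul_mem (B.inv_mem hb) ((mem_normalizer_iff.mp hnB b).mp hb), ?_⟩
    have := hcom b⁻¹ (inv_mem hb)
    rw [inv_inv] at this
    simpa [hs1, mul_assoc] using this
  have hconj : ∀ t : ↥(B ⊓ S), n * (t : Γ) * n⁻¹ ∈ B ⊓ S := fun t =>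
    ⟨(mem_normalizer_iff.mp hnB _).mp t.2.1, (mem_normalizer_iff.mp hnS _).mp t.2.2⟩
  let δ : ↥(B ⊓ S) → (↥Q → M) := fun t x => (t : Γ) • (x : M) - x
  let θ : ↥(B ⊓ S) → ↥(B ⊓ S) := fun t => t * ⟨_, hconj t⟩⁻¹
  have hadd : ∀ t t' x, δ (t * t') x = δ t x + δ t' x := fun t t' x => h.delta_mul t.2.2 t'.2.2 x.2
  have hinv : ∀ t x, δ t⁻¹ x = -δ t x := fun t x => h.delta_inv t.2.2 x.2
  have hsurjT : Function.Surjective fun f : Set.range δ =>
      (⟨δ (θ f.2.choose), Set.mem_range_self _⟩ : Set.range δ) := by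
    haveI : Finite ↥(Set.range δ) := Set.finite_range δ |>.to_subtype
    refine Finite.surjective_of_injective fun f f' hff => ?_
    set t := f.2.choose
    set t' := f'.2.choose
    have h0 : δ (θ t) = δ (θ t') := congrArg Subtype.val hff
    have hu : δ (t * t'⁻¹) = 0 := by
      funext x'
      obtain ⟨x, hx⟩ := h.piSurj ((c - 1)⁻¹ • π x')
      obtain ⟨y, hy⟩ := h.piSurj (c • π x)
      have hsc : ∀ u : ↥(B ⊓ S), δ ⟨_, hconj u⟩ y = δ u x := by
        intro u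
        have := hc x y hy _ (hconj u).2
        simpa [δ, mul_assoc] using this
      have e1 := congrFun h0 y
      simp only [θ, hadd, hinv] at e1
      rw [hsc, hsc] at e1
      have e2 : δ (t * t'⁻¹) y = δ (t * t'⁻¹) x := by
        rw [hadd, hadd, hinv, hinv]
        rw [← sub_eq_add_neg, ← sub_eq_add_neg] at e1 ⊢
        exact sub_eq_sub_iff_sub_eq_sub.mp e1
      have hyx : π (y - x) = π x' := by
        rw [map_sub, hy, hx, smul_smul, ← sub_smul,
          show c * (c - 1)⁻¹ - (c - 1)⁻¹ = 1 by field_simp, one_smul]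
      have hS' : ((t * t'⁻¹ : ↥(B ⊓ S)) : Γ) ∈ S := (t * t'⁻¹).2.2
      show ((t * t'⁻¹ : ↥(B ⊓ S)) : Γ) • (x' : M) - x' = 0
      rw [← h.smul_w_eq hS' (h.pi_eq.mp hyx), AddSubgroup.coe_sub, smul_sub,
        sub_sub_sub_comm, sub_eq_zero]
      exact e2
    refine Subtype.ext ?_
    rw [← f.2.choose_spec, ← f'.2.choose_spec]
    funext x
    have := congrFun hu x
    rw [hadd, hinv, Pi.zero_apply, add_neg_eq_zero] at this
    exact this
  obtain ⟨f, hf⟩ := hsurjT ⟨δ ⟨s1, hs1m⟩, Set.mem_range_self _⟩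
  set s := f.2.choose
  have hs : δ (θ s) = δ ⟨s1, hs1m⟩ := congrArg Subtype.val hf
  refine ⟨s, s.2, ?_⟩
  set b' := b * (s : Γ) with hb'
  have hb'B : b' ∈ B := B.mul_mem hb s.2.1
  set s2 : Γ := (s : Γ)⁻¹ * s1 * (n * (s : Γ) * n⁻¹)
  have hs2S : s2 ∈ S := S.mul_mem (S.mul_mem (S.inv_mem s.2.2) hs1m.2) (hconj s).2
  have hs2 : ∀ x ∈ Q, s2 • x = x := by
    intro x hx
    have e := congrFun hs ⟨x, hx⟩
    simp only [θ, hadd, hinv] at e
    rw [← sub_eq_zero, h.delta_mul (S.mul_mem (S.inv_mem s.2.2) hs1m.2) (hconj s).2 hx,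
      h.delta_mul (S.inv_mem s.2.2) hs1m.2 hx, h.delta_inv s.2.2 hx]
    simp only [δ] at e
    rw [← e]
    abel
  have hcomm : n * b' = b' * s2 * n := by simp [hb', s2, hs1, mul_assoc]
  have hnb : ∀ x ∈ Q, n • b' • x = b' • n • x := by
    intro x hx
    obtain ⟨y, hy, -, hfix, -⟩ := h.exists_rel le_rfl hn
      (fun d hd => (mem_normalizer_iff''.mp hnS d).mp hd) hx
    have h1 : s2 • n • x = n • x := by
      have h2 := hfix s2 hs2S
      rw [smul_sub, hs2 y hy] at h2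
      exact sub_left_inj.mp h2
    rw [← mul_smul, hcomm, mul_smul, mul_smul, h1]
  intro x' hx'
  obtain ⟨x, hx⟩ := h.piSurj ((c - 1)⁻¹ • π ⟨x', hx'⟩)
  obtain ⟨y, hy, hyz, -, hyd⟩ := h.exists_rel le_rfl hn
    (fun d hd => (mem_normalizer_iff''.mp hnS d).mp hd) x.2
  have hyc : π ⟨y, hy⟩ = c • π x := by
    obtain ⟨y0, hy0⟩ := h.piSurj (c • π x)
    rw [← hy0]
    refine h.rel_unique le_rfl hne fun d hd => ?_
    rw [hc x y0 hy0 d hd]
    exact hyd d hd
  let Υ : M → M := fun u => b' • (b' • u - u) - (b' • u - u)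
  have hΥsub : ∀ u v, Υ (u - v) = Υ u - Υ v := fun u v => by
    simp only [Υ, smul_sub]; abel
  have hΥW : ∀ w ∈ W, Υ w = 0 := fun w hw => sub_eq_zero.mpr (h.bQuadW b' hb'B w hw)
  have hΥQ : ∀ u ∈ Q, Υ u ∈ W := fun u hu => h.bQuad b' hb'B u hu
  have hx1 : n • Υ (x : M) = Υ (n • (x : M)) := by
    simp only [Υ, smul_sub]
    rw [hnb _ (h.bQ b' hb'B _ x.2), hnb _ x.2]
  rw [h.lW n hn _ (hΥQ _ x.2)] at hx1
  have hm : Υ (n • (x : M) - y) = 0 := by
    refine h.eq_zero_of_fixed ?_ ?_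
    · rw [hΥsub, ← hx1]; exact sub_mem (hΥQ _ x.2) (hΥQ y hy)
    · show z • (b' • (b' • _ - _) - (b' • _ - _)) = _
      rw [smul_sub, ← h.bz b' hb'B, smul_sub z, ← h.bz b' hb'B, hyz]
  rw [hΥsub, ← hx1, sub_eq_zero] at hm
  have hyx : π (⟨y, hy⟩ - x) = π ⟨x', hx'⟩ := by
    rw [map_sub, hyc, hx, smul_smul, ← sub_smul,
      show c * (c - 1)⁻¹ - (c - 1)⁻¹ = 1 by field_simp, one_smul]
  have hW : y - (x : M) - x' ∈ W := h.pi_eq.mp hyx
  have h0 := hΥW _ hW
  rw [hΥsub, hΥsub, ← hm, sub_self, zero_sub, neg_eq_zero] at h0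
  exact sub_eq_zero.mp h0

/-- The dichotomy. -/
theorem main [Finite Γ] : (∀ l ∈ L, ∀ x ∈ Q, l • x = x) ∨
    ∀ b ∈ B, ∃ s ∈ B ⊓ S, ∀ x ∈ Q, (b * s) • ((b * s) • x - x) = (b * s) • x - x := by
  by_cases hS : ∃ s ∈ S, ∃ x ∈ Q, s • x ≠ x
  · exact Or.inr fun b hb => h.exists_quadratic hS hb
  · push Not at hS
    refine (h.eq_bot_of_S hS).imp id fun hq b hb => ⟨1, one_mem _, fun x hx => ?_⟩
    rw [mul_one]
    exact hq b hb x hx

end CoreData

end CfsgLib.BlockNormal85
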