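import Cfsg.Agent.BlockNormal85.Baumann
import Cfsg.Agent.BlockNormal85.Core
import Cfsg.Agent.S0542

/-!
# An exceptional block is normalised by `C(U)`

The layered module is `P / Z`, where `P` is generated by the conjugates of `Q` under
`L = O³([E, K])`.
-/

set_option linter.style.haveILetI false
set_option linter.unusedSectionVars false

namespace CfsgLib.BlockNormal85

open Subgroup Cfsg
open scoped commutatorElement

theorem commutator_zpowers_le {G : Type*} [Group G] {A B : Subgroup G} {b : G}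
    (hbB : b ∈ normalizer (B : Set G))
    (h : ∀ x ∈ A, ⁅x, b⁆ ∈ B) : ⁅A, zpowers b⁆ ≤ B := by
  let H : Subgroup G :=
    { carrier := {g | g ∈ normalizer (B : Set G) ∧ ∀ x ∈ A, ⁅x, g⁆ ∈ B}
      one_mem' := ⟨one_mem _, fun x _ => by simp⟩
      mul_mem' := fun {a c} ha hc => ⟨mul_mem ha.1 hc.1, fun x hx => by
        have e : ⁅x, a * c⁆ = ⁅x, a⁆ * (a * ⁅x, c⁆ * a⁻¹) := by
          simp only [commutatorElement_def]; group
        rw [e]
        exact B.mul_mem (ha.2 x hx) ((mem_normalizer_iff.mp ha.1 _).mp (hc.2 x hx))⟩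
      inv_mem' := fun {a} ha => ⟨inv_mem ha.1, fun x hx => by
        have e : ⁅x, a⁻¹⁆ = a⁻¹ * ⁅x, a⁆⁻¹ * a := by simp only [commutatorElement_def]; group
        rw [e]
        exact (mem_normalizer_iff''.mp ha.1 _).mp (B.inv_mem (ha.2 x hx))⟩ }
  have hbH : zpowers b ≤ H := zpowers_le.mpr ⟨hbB, h⟩
  exact commutator_le.mpr fun x hx g hg => (hbH hg).2 x hx

theorem le_normalizer_subgroupOf {G : Type*} [Group G] {Γ H X : Subgroup G}
    (h : H ≤ normalizer (X : Set G)) :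
    H.subgroupOf Γ ≤ normalizer ((X.subgroupOf Γ : Subgroup Γ) : Set Γ) := by
  intro g hg
  refine mem_normalizer_iff.mpr fun y => ?_
  simp only [mem_subgroupOf, Subgroup.coe_mul, Subgroup.coe_inv]
  exact mem_normalizer_iff.mp (h hg) _

variable {G : Type*} [Group G] [Finite G] {T : Sylow 3 G} {E : Subgroup G} {F : Type*} [Field F]
  [Fintype F] {n : ℕ} [Fact (Nat.Prime 3)] {z : G} {ι : (Fin 2 → F) → G}
  {π : ↥(pCoreOf 3 E) →* Multiplicative (Fin 2 → F)}

local notation "𝐑" => pCore 3 G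
local notation "𝐕" => omegaOneCenter 3 (pCore 3 G)
local notation "𝐐" => pCoreOf 3 E
local notation "𝐖" => omegaOneCenter 3 (pCoreOf 3 E)
local notation "𝐙" => omegaOneCenter 3 (pCoreOf 3 E) ⊓ centralizer (E : Set G)
local notation "𝐔" => (⁅omegaOneCenter 3 (pCore 3 G), E⁆ : Subgroup G)
local notation "𝐁" => baumannSubgroupOf 3 (T : Subgroup G)
local notation "V2" => Fin 2 → F

namespace Exc

variable (h : Exc T E F n)
include h

/-- A `p`-group normalising `Q` moves it only inside `W`, if `E` normalises it. -/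
theorem commutator_Q_le {A : Subgroup G} (hA : IsPGroup 3 A)
    (hAQ : A ≤ normalizer (𝐐 : Set G)) (hEA : E ≤ normalizer (A : Set G)) : ⁅𝐐, A⁆ ≤ 𝐖 := by
  have hAW : A ≤ normalizer (𝐖 : Set G) :=
    hAQ.trans (LocalEven50.normalizer_le_normalizer_omegaOneCenter _)
  have hQA : ⁅𝐐, A⁆ ≤ 𝐐 := Coprime.commutator_le_of_le_normalizer hAQ
  have hEn : E ≤ normalizer ((⁅𝐐, A⁆ : Subgroup G) : Set G) :=
    (le_inf E_le_normalizer_Q hEA).trans (CharPLocal.inf_normalizer_le_normalizer_commutator _ _)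
  rcases LocalEven50.sl2Section_cases h.secQ le_sup_left (sup_le W_le_Q hQA)
    (LocalEven48.le_normalizer_sup E_le_normalizer_W hEn) with hh | hh
  · exact le_sup_right.trans hh.le
  exfalso
  have key : ∀ (m : ℕ) (X : Subgroup G), Nat.card X = m → X ≤ 𝐐 → A ≤ normalizer (X : Set G) →
      𝐐 ≤ 𝐖 ⊔ X → False := by
    intro m
    induction m using Nat.strong_induction_on with
    | _ m ih =>
    intro X hm hXQ hAX hQX
    rcases eq_or_ne X ⊥ with rfl | hne
    · rw [sup_bot_eq] at hQX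
      exact h.big (h.RE_le_Q.trans hQX)
    have hlt := CharPLocal.commutator_lt_of_isPGroup
      ((LocalStructure.pCoreOf_isPGroup E).to_le hXQ) hA hAX hne
    have hcard : Nat.card ↥(⁅X, A⁆ : Subgroup G) < m := hm ▸ lt_of_le_of_ne (card_le_of_le hlt.le)
      fun e => hlt.ne (eq_of_le_of_card_ge hlt.le e.ge)
    refine ih _ hcard _ rfl (hlt.le.trans hXQ)
      (le_sup_right.trans (Coprime.sup_le_normalizer_commutator X A)) ?_
    conv_lhs => rw [← hh]
    refine sup_le le_sup_left (commutator_le.mpr fun q hq a ha => ?_)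
    have hXW : X ≤ normalizer (𝐖 : Set G) :=
      (hXQ.trans (LocalStructure.pCoreOf_le E)).trans E_le_normalizer_W
    have hq' : q ∈ X ⊔ 𝐖 := by rw [sup_comm]; exact hQX hq
    obtain ⟨x, hx, w, hw, rfl⟩ := (coe_mul_of_left_le_normalizer_right _ _ hXW).le hq'
    simp only at *
    have e : ⁅x * w, a⁆ = x * ⁅w, a⁆ * x⁻¹ * ⁅x, a⁆ := by
      simp only [commutatorElement_def]; group
    rw [e]
    exact mul_mem (mem_sup_left ((mem_normalizer_iff.mp (hXW hx) _).mp
      (Coprime.commutator_le_of_le_normalizer hAW (commutator_mem_commutator hw ha))))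
      (mem_sup_right (commutator_mem_commutator hx ha))
  exact key _ 𝐐 rfl le_rfl hAQ le_sup_right

theorem R_le_normalizer_Q : 𝐑 ≤ normalizer (𝐐 : Set G) :=
  h.R_le_normalizer.trans (LocalStructure.normalizer_le_normalizer_pCoreOf E)

theorem QR_le_W : ⁅𝐐, 𝐑⁆ ≤ 𝐖 :=
  h.commutator_Q_le R_isPGroup h.R_le_normalizer_Q (le_normalizer_R E)

theorem W_le_V : 𝐖 ≤ 𝐕 := by
  rw [h.W_eq]
  refine sup_le U_le_V (LocalEven50.le_omegaOneCenter
    ((inf_le_left.trans W_le_Q).trans h.Q_le_R) ?_ (PLocal.isElementaryAbelian_of_le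
      (LocalEven50.isElementaryAbelian_omegaOneCenter _) inf_le_left))
  have hWQ : ⁅𝐖, 𝐐⁆ = ⊥ := commutator_eq_bot_iff_le_centralizer.mpr W_le_centralizer_Q
  rw [← h.comm, ← commutator_eq_bot_iff_le_centralizer]
  refine commutator_commutator_eq_bot_of_rotate ?_ ?_
  · exact le_bot_iff.mp ((commutator_mono h.QR_le_W le_rfl).trans hWQ.le)
  · refine le_bot_iff.mp ((commutator_mono ?_ le_rfl).trans hWQ.le)
    rw [commutator_comm]
    exact h.QR_le_W

theorem V_central {v r : G} (hv : v ∈ 𝐕) (hr : r ∈ 𝐑) : r * v = v * r :=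
  mem_centralizer_iff.mp (LocalEven50.omegaOneCenter_le_centralizer _ hv) r hr

end Exc

/-- The subgroup generated by the conjugates of `Q` under `L`. -/
def conjSpan (E L : Subgroup G) : Subgroup G :=
  closure {x | ∃ l ∈ L, ∃ q ∈ pCoreOf 3 E, x = l * q * l⁻¹}

theorem conj_mem_conjSpan {L : Subgroup G} {l q : G} (hl : l ∈ L) (hq : q ∈ pCoreOf 3 E) :
    l * q * l⁻¹ ∈ conjSpan E L := subset_closure ⟨l, hl, q, hq, rfl⟩

theorem le_conjSpan (L : Subgroup G) : pCoreOf 3 E ≤ conjSpan E L := fun q hq => by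
  simpa using conj_mem_conjSpan (E := E) L.one_mem hq

theorem le_normalizer_conjSpan {L X : Subgroup G} (hL : X ≤ normalizer (L : Set G))
    (hQ : ∀ g ∈ X, ∀ q ∈ pCoreOf 3 E, g * q * g⁻¹ ∈ conjSpan E L) :
    X ≤ normalizer (conjSpan E L : Set G) := by
  intro g hg
  refine mem_normalizer_iff_map_conj_eq.mpr (eq_of_le_of_card_ge ?_
    (card_map_of_injective (MulAut.conj g).injective).ge)
  rw [conjSpan, MonoidHom.map_closure, closure_le]
  rintro _ ⟨_, ⟨l, hl, q, hq, rfl⟩, rfl⟩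
  have h1 : g * l * g⁻¹ ∈ L := (mem_normalizer_iff.mp (hL hg) l).mp hl
  have h2 := hQ g hg q hq
  show g * (l * q * l⁻¹) * g⁻¹ ∈ conjSpan E L
  rw [show g * (l * q * l⁻¹) * g⁻¹ = (g * l * g⁻¹) * (g * q * g⁻¹) * (g * l * g⁻¹)⁻¹ by group]
  refine (closure_induction (p := fun x _ =>
    ∀ m ∈ L, m * x * m⁻¹ ∈ conjSpan E L) ?_ ?_ ?_ ?_ h2) _ h1
  · rintro _ ⟨l', hl', q', hq', rfl⟩ m hm
    rw [show m * (l' * q' * l'⁻¹) * m⁻¹ = (m * l') * q' * (m * l')⁻¹ by group]
    exact conj_mem_conjSpan (L.mul_mem hm hl') hq'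
  · exact fun m _ => by simp
  · intro a b _ _ ha hb m hm
    rw [show m * (a * b) * m⁻¹ = (m * a * m⁻¹) * (m * b * m⁻¹) by group]
    exact mul_mem (ha m hm) (hb m hm)
  · intro a _ ha m hm
    rw [show m * a⁻¹ * m⁻¹ = (m * a * m⁻¹)⁻¹ by group]
    exact inv_mem (ha m hm)

namespace Nat2

variable (h : Exc T E F n) (N : Nat2 E F z ι π)
include h N

theorem exists_coord {w : G} (hw : w ∈ 𝐖) : ∃ v, (ι v)⁻¹ * w ∈ 𝐙 := by
  have hUZ : 𝐔 ≤ normalizer ((𝐙 : Subgroup G) : Set G) := by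
    refine (h.U_le_W.trans fun a ha => ?_).trans (centralizer_le_normalizer _)
    exact mem_centralizer_iff.mpr fun y hy => Exc.W_comm hy.1 ha
  obtain ⟨u, hu, c, hc, rfl⟩ := (coe_mul_of_left_le_normalizer_right _ _ hUZ).le (h.W_eq.le hw)
  obtain ⟨v, rfl⟩ := (N.mem _).mp hu
  exact ⟨v, by simpa using hc⟩

theorem coord_unique {w : G} {v v' : V2} (h1 : (ι v)⁻¹ * w ∈ 𝐙) (h2 : (ι v')⁻¹ * w ∈ 𝐙) :
    v = v' := by
  have h3 := mul_mem h1 (inv_mem h2)
  rw [show (ι v)⁻¹ * w * ((ι v')⁻¹ * w)⁻¹ = (ι v)⁻¹ * ι v' by group, N.ι_inv, ← N.add] at h3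
  have := N.U_inf_Z h (N.ι_mem _) h3.2
  rw [← N.zero] at this
  exact neg_add_eq_zero.mp (N.inj this)

/-- The conjugates of `Q` under a group fixing `W` commute with each other modulo `Z`. -/
theorem commutator_conjSpan_le {L : Subgroup G} (hLW : L ≤ centralizer (𝐖 : Set G))
    (hEL : E ≤ normalizer (L : Set G)) :
    conjSpan E L ≤ 𝐑 ∧
      (∀ r ∈ 𝐑, ∀ x ∈ conjSpan E L, ⁅r, x⁆ ∈ 𝐖) ∧
      (∀ q ∈ 𝐐, ∀ x ∈ conjSpan E L, ⁅q, x⁆ ∈ 𝐙) ∧
      ∀ x ∈ conjSpan E L, ∀ y ∈ conjSpan E L, ⁅x, y⁆ ∈ 𝐙 := by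
  classical
  haveI := LocalStructure.pCore_normal (p := 3) (G := G)
  have hlW : ∀ l ∈ L, ∀ w ∈ 𝐖, l * w * l⁻¹ = w := fun l hl w hw => by
    rw [← mem_centralizer_iff.mp (hLW hl) w hw, mul_inv_cancel_right]
  have hPR : conjSpan E L ≤ 𝐑 := by
    rw [conjSpan, closure_le]
    rintro _ ⟨l, -, q, hq, rfl⟩
    exact Normal.conj_mem inferInstance q (h.Q_le_R hq) l
  have hRP : ∀ r ∈ 𝐑, ∀ x ∈ conjSpan E L, ⁅r, x⁆ ∈ 𝐖 := by
    intro r hr x hx
    induction hx using closure_induction generalizing r with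
    | mem x hx =>
      obtain ⟨l, hl, q, hq, rfl⟩ := hx
      have hr' : l⁻¹ * r * l ∈ 𝐑 := by
        simpa using Normal.conj_mem (inferInstance : (pCore 3 G).Normal) r hr l⁻¹
      have h1 : ⁅l⁻¹ * r * l, q⁆ ∈ 𝐖 := h.QR_le_W (by
        rw [commutator_comm]; exact commutator_mem_commutator hr' hq)
      have e : ⁅r, l * q * l⁻¹⁆ = l * ⁅l⁻¹ * r * l, q⁆ * l⁻¹ := by
        simp only [commutatorElement_def]; group
      rw [e, hlW l hl _ h1]
      exact h1
    | one => simp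
    | mul a b ha hb iha ihb =>
      have e : ⁅r, a * b⁆ = ⁅r, a⁆ * (a * ⁅r, b⁆ * a⁻¹) := by
        simp only [commutatorElement_def]; group
      rw [e, h.V_central (h.W_le_V (ihb r hr)) (hPR ha), mul_inv_cancel_right]
      exact mul_mem (iha r hr) (ihb r hr)
    | inv a ha iha =>
      have e : ⁅r, a⁻¹⁆ = a⁻¹ * ⁅r, a⁆⁻¹ * a := by simp only [commutatorElement_def]; group
      rw [e, h.V_central (h.W_le_V (inv_mem (iha r hr))) (inv_mem (hPR ha)), inv_mul_cancel_right]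
      exact inv_mem (iha r hr)
  let crd : G → V2 := fun w => if hw : w ∈ 𝐖 then (N.exists_coord h hw).choose else 0
  have hcrd : ∀ w ∈ 𝐖, (ι (crd w))⁻¹ * w ∈ 𝐙 := fun w hw => by
    simp only [crd, dif_pos hw]; exact (N.exists_coord h hw).choose_spec
  have crd_eq : ∀ w ∈ 𝐖, ∀ v, (ι v)⁻¹ * w ∈ 𝐙 → crd w = v := fun w hw v hv =>
    N.coord_unique h (hcrd w hw) hv
  have crd_mul : ∀ a ∈ 𝐖, ∀ b ∈ 𝐖, crd (a * b) = crd a + crd b := fun a ha b hb => by
    refine crd_eq _ (mul_mem ha hb) _ ?_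
    rw [N.add, mul_inv_rev, show (ι (crd b))⁻¹ * (ι (crd a))⁻¹ * (a * b) =
      (ι (crd b))⁻¹ * ((ι (crd a))⁻¹ * a) * b by group,
      Exc.W_comm (inv_mem (h.U_le_W (N.ι_mem _))) (hcrd a ha).1, mul_assoc]
    exact mul_mem (hcrd a ha) (hcrd b hb)
  have crd_Z : ∀ c ∈ 𝐙, crd c = 0 := fun c hc => crd_eq c hc.1 0 (by
    rw [N.zero, inv_one, one_mul]; exact hc)
  have crd_inv : ∀ a ∈ 𝐖, crd a⁻¹ = -crd a := fun a ha => by
    refine eq_neg_of_add_eq_zero_left ?_
    rw [← crd_mul _ (inv_mem ha) _ ha, inv_mul_cancel]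
    exact crd_Z 1 (one_mem _)
  have crd_zero : ∀ a ∈ 𝐖, crd a = 0 → a ∈ 𝐙 := fun a ha h0 => by
    have := hcrd a ha
    rwa [h0, N.zero, inv_one, one_mul] at this
  have hQR : ∀ p ∈ 𝐑, ∀ x ∈ 𝐐, ⁅x, p⁆ ∈ 𝐖 :=
    fun p hp x hx => h.QR_le_W (commutator_mem_commutator hx hp)
  choose s hs using fun v : V2 => N.surj (Multiplicative.ofAdd v)
  -- `q ↦ [q, p]` is equivariant
  have hequi : ∀ p ∈ 𝐑, ∃ f : V2 →+ V2,
      (∀ x : ↥𝐐, crd ⁅(x : G), p⁆ = f (Multiplicative.toAdd (π x))) ∧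
      ∀ e ∈ E, ∀ M g' : Matrix (Fin 2) (Fin 2) F,
        (∀ v, e * ι v * e⁻¹ = ι (M.mulVec v)) →
        (∀ x y : ↥𝐐, (y : G) = e * (x : G) * e⁻¹ →
          Multiplicative.toAdd (π y) = g'.mulVec (Multiplicative.toAdd (π x))) →
        ∀ v, f (g'.mulVec v) = M.mulVec (f v) := by
    intro p hp
    let g : ↥𝐐 →* Multiplicative V2 :=
      { toFun := fun x => Multiplicative.ofAdd (crd ⁅(x : G), p⁆)
        map_one' := by
          rw [OneMemClass.coe_one, commutatorElement_one_left, crd_Z 1 (one_mem _), ofAdd_zero]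
        map_mul' := fun x y => by
          have e : ⁅(x : G) * (y : G), p⁆ = (x : G) * ⁅(y : G), p⁆ * (x : G)⁻¹ * ⁅(x : G), p⁆ := by
            simp only [commutatorElement_def]; group
          rw [← ofAdd_add, Subgroup.coe_mul, e,
            h.V_central (h.W_le_V (hQR p hp _ y.2)) (h.Q_le_R x.2),
            mul_inv_cancel_right, crd_mul _ (hQR p hp _ y.2) _ (hQR p hp _ x.2), add_comm] }
    have hg : ∀ x x' : ↥𝐐, π x = π x' → g x = g x' := by
      intro x x' e
      rw [← mul_inv_eq_one, ← map_inv, ← map_mul, N.ker] at e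
      have h0 : g (x * x'⁻¹) = 1 := by
        show Multiplicative.ofAdd (crd ⁅((x * x'⁻¹ : ↥𝐐) : G), p⁆) = 1
        rw [commutatorElement_eq_one_iff_mul_comm.mpr (h.V_central (h.W_le_V e) hp).symm,
          crd_Z 1 (one_mem _), ofAdd_zero]
      rwa [map_mul, map_inv, mul_inv_eq_one] at h0
    refine ⟨AddMonoidHom.mk' (fun v => Multiplicative.toAdd (g (s v))) (fun u v => by
        rw [← toAdd_mul, ← map_mul]
        exact congrArg Multiplicative.toAdd (hg _ _ (by rw [map_mul, hs, hs, hs, ofAdd_add]))),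
      fun x => congrArg Multiplicative.toAdd (hg x (s (Multiplicative.toAdd (π x))) (hs _).symm),
      fun e he M g' heU hgQ v => ?_⟩
    set ex : ↥𝐐 := ⟨e * (s v : G) * e⁻¹,
      (mem_normalizer_iff.mp (Exc.E_le_normalizer_Q he) _).mp (s v).2⟩
    have hex := hgQ (s v) ex rfl
    -- `e⁻¹ p e ∈ p Q`
    set q := p⁻¹ * e⁻¹ * p * e with hq
    have hqQ : q ∈ 𝐐 := by
      have h1 : ⁅p⁻¹, e⁻¹⁆ ∈ 𝐐 :=
        h.RE_le_Q (commutator_mem_commutator (inv_mem hp) (inv_mem he))
      simpa [commutatorElement_def, hq, mul_assoc] using h1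
    have e2 : ⁅(ex : G), p⁆ = e * (⁅(s v : G), p⁆ * (p * ⁅(s v : G), q⁆ * p⁻¹)) * e⁻¹ := by
      simp only [ex, hq, commutatorElement_def]; group
    have hqZ : ⁅(s v : G), q⁆ ∈ 𝐙 := h.comm.le (commutator_mem_commutator (s v).2 hqQ)
    rw [h.V_central (h.W_le_V hqZ.1) hp, mul_inv_cancel_right] at e2
    have hm : ⁅(s v : G), p⁆ * ⁅(s v : G), q⁆ ∈ 𝐖 := mul_mem (hQR p hp _ (s v).2) hqZ.1
    have hcm : crd (⁅(s v : G), p⁆ * ⁅(s v : G), q⁆) = crd ⁅(s v : G), p⁆ := by
      rw [crd_mul _ (hQR p hp _ (s v).2) _ hqZ.1, crd_Z _ hqZ, add_zero]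
    have h5 : crd ⁅(ex : G), p⁆ = M.mulVec (crd ⁅(s v : G), p⁆) := by
      rw [e2, ← hcm]
      refine crd_eq _ ((mem_normalizer_iff.mp (Exc.E_le_normalizer_W he) _).mp hm) _ ?_
      rw [← heU]
      have := (hcrd _ hm)
      rw [show (e * ι (crd (⁅(s v : G), p⁆ * ⁅(s v : G), q⁆)) * e⁻¹)⁻¹ *
        (e * (⁅(s v : G), p⁆ * ⁅(s v : G), q⁆) * e⁻¹) = e * ((ι (crd (⁅(s v : G), p⁆ *
          ⁅(s v : G), q⁆)))⁻¹ * (⁅(s v : G), p⁆ * ⁅(s v : G), q⁆)) * e⁻¹ by group,
        mem_centralizer_iff.mp this.2 e he, mul_inv_cancel_right]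
      exact this
    have h6 : π ex = π (s (g'.mulVec v)) := by
      rw [hs]
      refine Multiplicative.toAdd.injective ?_
      rw [hex, hs]
      rfl
    show Multiplicative.toAdd (g (s _)) = _
    rw [← hg ex _ h6]
    exact h5
  -- each conjugate of `Q` centralises `Q` modulo `Z`
  have hgen : ∀ x, (∃ l ∈ L, ∃ q ∈ 𝐐, x = l * q * l⁻¹) → ∀ y ∈ 𝐐, ⁅y, x⁆ ∈ 𝐙 := by
    rintro x ⟨l, hl, q0, hq0, rfl⟩ y hy
    have hxP := conj_mem_conjSpan (E := E) hl hq0
    obtain ⟨fx, hfx, hfxe⟩ := hequi _ (hPR hxP)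
    suffices h0 : ∀ v, fx v = 0 from
      crd_zero _ (hQR _ (hPR hxP) y hy) ((hfx ⟨y, hy⟩).trans (h0 _))
    by_contra hne
    push Not at hne
    obtain ⟨v₁, hv₁⟩ := hne
    have hinj : Function.Injective fx := by
      rw [injective_iff_map_eq_zero]
      intro v hv
      by_contra hv0
      let X : Subgroup G :=
        { carrier := {u | ∃ hu : u ∈ 𝐐, fx (Multiplicative.toAdd (π ⟨u, hu⟩)) = 0}
          one_mem' := ⟨one_mem _, by
            rw [show (⟨1, one_mem _⟩ : ↥𝐐) = 1 from rfl, map_one, toAdd_one, map_zero]⟩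
          mul_mem' := by
            rintro a b ⟨ha, ha'⟩ ⟨hb, hb'⟩
            refine ⟨mul_mem ha hb, ?_⟩
            rw [show (⟨a * b, mul_mem ha hb⟩ : ↥𝐐) = ⟨a, ha⟩ * ⟨b, hb⟩ from rfl, map_mul,
              toAdd_mul, map_add, ha', hb', add_zero]
          inv_mem' := by
            rintro a ⟨ha, ha'⟩
            refine ⟨inv_mem ha, ?_⟩
            rw [show (⟨a⁻¹, inv_mem ha⟩ : ↥𝐐) = ⟨a, ha⟩⁻¹ from rfl, map_inv, toAdd_inv,
              map_neg, ha', neg_zero] }
      have hXn : ∀ e ∈ E, ∀ u ∈ X, e * u * e⁻¹ ∈ X := by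
        rintro e he u ⟨hu, hu'⟩
        obtain ⟨M, -, hMU⟩ := N.actU e he
        obtain ⟨g', -, hgQ⟩ := N.actQ e he
        refine ⟨(mem_normalizer_iff.mp (Exc.E_le_normalizer_Q he) u).mp hu, ?_⟩
        rw [hgQ ⟨u, hu⟩ ⟨_, _⟩ rfl, hfxe e he _ _ hMU hgQ, hu', Matrix.mulVec_zero]
      rcases LocalEven50.sl2Section_cases h.secQ (X := X) (fun w hw => ⟨Exc.W_le_Q hw, by
          rw [(N.ker ⟨w, Exc.W_le_Q hw⟩).mpr hw, toAdd_one, map_zero]⟩) (fun u hu => hu.1)
          (fun e he => mem_normalizer_iff.mpr fun u => ⟨hXn e he u, fun hu => by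
            simpa [mul_assoc] using hXn e⁻¹ (inv_mem he) _ hu⟩) with hX | hX
      · obtain ⟨u, hu⟩ := N.surj (Multiplicative.ofAdd v)
        have huX : (u : G) ∈ X := ⟨u.2, by
          rw [show (⟨(u : G), u.2⟩ : ↥𝐐) = u from rfl, hu]; exact hv⟩
        have := (N.ker u).mpr (hX.le huX)
        rw [hu] at this
        exact hv0 (congrArg Multiplicative.toAdd this)
      · obtain ⟨u, hu⟩ := N.surj (Multiplicative.ofAdd v₁)
        obtain ⟨hu', hu''⟩ := hX.ge u.2
        rw [show (⟨(u : G), hu'⟩ : ↥𝐐) = u from rfl, hu] at hu''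
        exact hv₁ hu''
    have hbij := Finite.injective_iff_bijective.mp hinj
    let eqv : V2 ≃+ V2 := AddEquiv.ofBijective fx hbij
    set v0 := fx (Multiplicative.toAdd (π ⟨q0, hq0⟩))
    have hline : ∀ v, ∃ c : F, fx v = c • v0 := by
      intro v
      obtain ⟨u, hu⟩ := N.surj (Multiplicative.ofAdd v)
      have hlinv : l⁻¹ * (u : G) * l ∈ conjSpan E L := by
        have := conj_mem_conjSpan (E := E) (inv_mem hl) u.2
        rwa [inv_inv] at this
      set p := l⁻¹ * (u : G) * l with hp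
      obtain ⟨fp, hfp, hfpe⟩ := hequi p (hPR hlinv)
      obtain ⟨c, hc⟩ := exists_scalar_of_commute h.h3 (fp.comp eqv.symm.toAddMonoidHom) (by
        intro M hM w
        obtain ⟨e, he, heU⟩ := N.ontoU M hM
        obtain ⟨g', -, hgQ⟩ := N.actQ e he
        show fp (eqv.symm _) = _
        have h1 : eqv.symm ((M : Matrix (Fin 2) (Fin 2) F).mulVec w) =
            (g' : Matrix (Fin 2) (Fin 2) F).mulVec (eqv.symm w) := by
          rw [AddEquiv.symm_apply_eq]
          show _ = fx _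
          rw [hfxe e he _ _ heU hgQ]
          congr 1
          exact (eqv.apply_symm_apply w).symm
        rw [h1, hfpe e he _ _ heU hgQ]
        rfl)
      refine ⟨-c, ?_⟩
      have e1 : ⁅(u : G), l * q0 * l⁻¹⁆ = l * ⁅p, q0⁆ * l⁻¹ := by
        rw [hp]; simp only [commutatorElement_def]; group
      have hpq : ⁅p, q0⁆ ∈ 𝐖 := by
        rw [← commutatorElement_inv]
        exact inv_mem (hQR p (hPR hlinv) q0 hq0)
      rw [hlW l hl _ hpq, ← commutatorElement_inv q0 p] at e1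
      have e2 := hfx u
      rw [e1, crd_inv _ (hQR p (hPR hlinv) q0 hq0), hfp ⟨q0, hq0⟩, hu] at e2
      change -fp _ = fx v at e2
      rw [← e2, neg_smul]
      congr 1
      have h2 := hc v0
      change fp (eqv.symm v0) = _ at h2
      rw [show eqv.symm v0 = Multiplicative.toAdd (π ⟨q0, hq0⟩) from eqv.symm_apply_apply _] at h2
      exact h2
    obtain ⟨a, ha⟩ := hbij.2 ![1, 0]
    obtain ⟨b, hb⟩ := hbij.2 ![0, 1]
    obtain ⟨c, hc⟩ := hline a
    obtain ⟨d, hd⟩ := hline b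
    rw [ha] at hc
    rw [hb] at hd
    have c0 := congrFun hc 0
    have c1 := congrFun hc 1
    have d1 := congrFun hd 1
    simp only [Matrix.cons_val_zero, Matrix.cons_val_one, Pi.smul_apply, smul_eq_mul] at c0 c1 d1
    rcases mul_eq_zero.mp c1.symm with h' | h'
    · rw [h', zero_mul] at c0; exact one_ne_zero c0
    · rw [h', mul_zero] at d1; exact one_ne_zero d1
  have hZc : ∀ c ∈ 𝐙, ∀ r ∈ 𝐑, r * c * r⁻¹ = c := fun c hc r hr => by
    rw [h.V_central (h.W_le_V hc.1) hr, mul_inv_cancel_right]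
  have hQP : ∀ q ∈ 𝐐, ∀ x ∈ conjSpan E L, ⁅q, x⁆ ∈ 𝐙 := by
    intro q hq x hx
    induction hx using closure_induction generalizing q with
    | mem x hx => exact hgen x hx q hq
    | one => simp
    | mul a b ha hb iha ihb =>
      have e : ⁅q, a * b⁆ = ⁅q, a⁆ * (a * ⁅q, b⁆ * a⁻¹) := by
        simp only [commutatorElement_def]; group
      rw [e, hZc _ (ihb q hq) a (hPR ha)]
      exact mul_mem (iha q hq) (ihb q hq)
    | inv a ha iha =>
      have e : ⁅q, a⁻¹⁆ = a⁻¹ * ⁅q, a⁆⁻¹ * a⁻¹⁻¹ := by simp only [commutatorElement_def]; group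
      rw [e, hZc _ (inv_mem (iha q hq)) _ (inv_mem (hPR ha))]
      exact inv_mem (iha q hq)
  refine ⟨hPR, hRP, hQP, fun x hx y hy => ?_⟩
  induction hx using closure_induction generalizing y with
  | mem x hx =>
    obtain ⟨l, hl, q, hq, rfl⟩ := hx
    have hy' : l⁻¹ * y * l ∈ conjSpan E L := by
      have := (le_normalizer_conjSpan (E := E) (L := L) le_normalizer
        (fun g hg q hq => conj_mem_conjSpan hg hq)) (inv_mem hl)
      simpa using (mem_normalizer_iff.mp this y).mp hy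
    have h1 := hQP q hq _ hy'
    have e : ⁅l * q * l⁻¹, y⁆ = l * ⁅q, l⁻¹ * y * l⁆ * l⁻¹ := by
      simp only [commutatorElement_def]; group
    rw [e, hlW l hl _ h1.1]
    exact h1
  | one => simp
  | mul a b ha hb iha ihb =>
    have e : ⁅a * b, y⁆ = a * ⁅b, y⁆ * a⁻¹ * ⁅a, y⁆ := by simp only [commutatorElement_def]; group
    rw [e, hZc _ (ihb y hy) a (hPR ha)]
    exact mul_mem (ihb y hy) (iha y hy)
  | inv a ha iha =>
    have e : ⁅a⁻¹, y⁆ = a⁻¹ * ⁅a, y⁆⁻¹ * a⁻¹⁻¹ := by simp only [commutatorElement_def]; group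
    rw [e, hZc _ (inv_mem (iha y hy)) _ (inv_mem (hPR ha))]
    exact inv_mem (iha y hy)

end Nat2


namespace Nat2

variable (h : Exc T E F n) (N : Nat2 E F z ι π)
include h N

/-- A subgroup of `C(U)` whose chosen Sylow subgroup normalises the block centralises `Q` modulo
`W`. -/
theorem core_step {L S : Subgroup G} (hLU : L ≤ centralizer (𝐔 : Set G))
    (hLV : L ≤ centralizer (𝐕 : Set G)) (hEL : E ≤ normalizer (L : Set G))
    (hBL : 𝐁 ≤ normalizer (L : Set G)) (hres : LocalStructure.pResOf 3 L = L)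
    {T' : Sylow 3 G} (hBT : baumannSubgroupOf 3 (T' : Subgroup G) = 𝐁)
    (hS : S = (T' : Subgroup G) ⊓ L) (hSidx : ¬ 3 ∣ (S.subgroupOf L).index)
    (hSE : S ≤ normalizer (E : Set G)) :
    ∀ l ∈ L, ∀ x ∈ 𝐐, l * x * l⁻¹ * x⁻¹ ∈ 𝐖 := by
  classical
  haveI := LocalStructure.pCore_normal (p := 3) (G := G)
  have hLW : L ≤ centralizer (𝐖 : Set G) := hLV.trans (centralizer_le h.W_le_V)
  obtain ⟨hPR, hRP, hQP, hPP⟩ := N.commutator_conjSpan_le h hLW hEL
  set P := conjSpan E L with hPdef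
  have hBT' : 𝐁 ≤ (T' : Subgroup G) := by rw [← hBT]; exact inf_le_left
  have hzi : z⁻¹ = z := inv_eq_of_mul_eq_one_left N.zz
  have hQleP : 𝐐 ≤ P := le_conjSpan L
  -- normalisers of `P`
  have hEP : E ≤ normalizer (P : Set G) := le_normalizer_conjSpan hEL fun g hg q hq =>
    hQleP ((mem_normalizer_iff.mp (Exc.E_le_normalizer_Q hg) q).mp hq)
  have hBP : 𝐁 ≤ normalizer (P : Set G) := le_normalizer_conjSpan hBL fun g hg q hq =>
    hQleP ((mem_normalizer_iff.mp (B_le_normalizer_Q h hg) q).mp hq)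
  have hLP : L ≤ normalizer (P : Set G) :=
    le_normalizer_conjSpan le_normalizer fun g hg q hq => conj_mem_conjSpan hg hq
  have hQn : 𝐐 ≤ normalizer (P : Set G) := hQleP.trans le_normalizer
  have hEZ : E ≤ normalizer ((𝐙 : Subgroup G) : Set G) :=
    (le_centralizer_iff.mp (inf_le_right : 𝐙 ≤ _)).trans (centralizer_le_normalizer _)
  set Γ : Subgroup G := normalizer (P : Set G) ⊓ normalizer ((𝐙 : Subgroup G) : Set G) with hΓ
  have hLΓ : L ≤ Γ := le_inf hLP
    ((hLW.trans (centralizer_le (inf_le_left : 𝐙 ≤ 𝐖))).trans (centralizer_le_normalizer _))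
  have hEΓ : E ≤ Γ := le_inf hEP hEZ
  have hBΓ : 𝐁 ≤ Γ := le_inf hBP (B_le_normalizer_Z h)
  -- the module
  set Zp : Subgroup ↥P := (𝐙 : Subgroup G).subgroupOf P with hZp
  haveI hZn : Zp.Normal := by
    refine ⟨fun a ha g => ?_⟩
    rw [hZp, mem_subgroupOf] at ha ⊢
    rw [Subgroup.coe_mul, Subgroup.coe_mul, Subgroup.coe_inv,
      h.V_central (h.W_le_V ha.1) (hPR g.2), mul_inv_cancel_right]
    exact ha
  have hcomm : ∀ a b : ↥P ⧸ Zp, a * b = b * a := by
    intro a b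
    induction a using QuotientGroup.induction_on with | _ a => ?_
    induction b using QuotientGroup.induction_on with | _ b => ?_
    rw [← QuotientGroup.mk_mul, ← QuotientGroup.mk_mul, QuotientGroup.eq, hZp, mem_subgroupOf]
    have := hPP _ (inv_mem b.2) _ (inv_mem a.2)
    simpa [commutatorElement_def, mul_assoc] using this
  letI : CommGroup (↥P ⧸ Zp) := { (inferInstance : Group (↥P ⧸ Zp)) with mul_comm := hcomm }
  let cg : ↥Γ → (↥P →* ↥P) := fun g =>
    { toFun := fun x => ⟨g * x * (g : G)⁻¹, (mem_normalizer_iff.mp g.2.1 _).mp x.2⟩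
      map_one' := Subtype.ext (by simp)
      map_mul' := fun x y => Subtype.ext (by simp [mul_assoc]) }
  have hcgZ : ∀ g : ↥Γ, Zp ≤ Zp.comap (cg g) := fun g a ha =>
    (mem_normalizer_iff.mp g.2.2 _).mp ha
  let act : DistribMulAction ↥Γ (Additive (↥P ⧸ Zp)) :=
    { smul := fun g m => Additive.ofMul (QuotientGroup.map Zp Zp (cg g) (hcgZ g) m.toMul)
      one_smul := fun m => by
        show Additive.ofMul (QuotientGroup.map Zp Zp (cg 1) (hcgZ 1) m.toMul) = m
        obtain ⟨x, hx⟩ := QuotientGroup.mk_surjective m.toMul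
        rw [← hx, QuotientGroup.map_mk, show cg 1 x = x from Subtype.ext (by simp [cg]), hx]
        rfl
      mul_smul := fun g g' m => by
        show Additive.ofMul _ = Additive.ofMul (QuotientGroup.map Zp Zp (cg g) (hcgZ g)
          (QuotientGroup.map Zp Zp (cg g') (hcgZ g') m.toMul))
        obtain ⟨x, hx⟩ := QuotientGroup.mk_surjective m.toMul
        rw [← hx, QuotientGroup.map_mk, QuotientGroup.map_mk, QuotientGroup.map_mk,
          show cg (g * g') x = cg g (cg g' x) from Subtype.ext (by simp [cg, mul_assoc])]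
      smul_zero := fun g => congrArg Additive.ofMul
        (map_one (QuotientGroup.map Zp Zp (cg g) (hcgZ g)))
      smul_add := fun g m m' => congrArg Additive.ofMul
        (map_mul (QuotientGroup.map Zp Zp (cg g) (hcgZ g)) m.toMul m'.toMul) }
  letI := act
  let mk : ↥P → Additive (↥P ⧸ Zp) := fun x => Additive.ofMul (QuotientGroup.mk x)
  have mk_surj : Function.Surjective mk := fun m => by
    obtain ⟨x, hx⟩ := QuotientGroup.mk_surjective m.toMul
    exact ⟨x, by simp [mk, hx]⟩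
  have mk_add : ∀ x y, mk (x * y) = mk x + mk y := fun x y => rfl
  have mk_neg : ∀ x, mk x⁻¹ = -mk x := fun x => rfl
  have mk_sub : ∀ x y, mk x - mk y = mk (x * y⁻¹) := fun x y => by
    rw [sub_eq_add_neg, mk_add, mk_neg]
  have mk_one : mk 1 = 0 := rfl
  have mk_eq : ∀ x y : ↥P, mk x = mk y ↔ (x : G)⁻¹ * y ∈ 𝐙 := fun x y =>
    (Additive.ofMul.injective.eq_iff.trans QuotientGroup.eq).trans Iff.rfl
  have mk_eq_zero : ∀ x : ↥P, mk x = 0 ↔ (x : G) ∈ 𝐙 := fun x => by
    rw [← mk_one, mk_eq]; simp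
  have mk_smul : ∀ (g : ↥Γ) (x : ↥P), g • mk x = mk (cg g x) := fun g x => rfl
  let sub : Subgroup G → AddSubgroup (Additive (↥P ⧸ Zp)) := fun X =>
    { carrier := {m | ∃ x : ↥P, (x : G) ∈ X ∧ mk x = m}
      zero_mem' := ⟨1, X.one_mem, rfl⟩
      add_mem' := by
        rintro _ _ ⟨x, hx, rfl⟩ ⟨y, hy, rfl⟩
        exact ⟨x * y, X.mul_mem hx hy, mk_add x y⟩
      neg_mem' := by
        rintro _ ⟨x, hx, rfl⟩
        exact ⟨x⁻¹, X.inv_mem hx, mk_neg x⟩ }
  have mem_sub : ∀ {X : Subgroup G}, (𝐙 : Subgroup G) ≤ X → ∀ x : ↥P,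
      mk x ∈ sub X ↔ (x : G) ∈ X := by
    refine fun {X} hX x => ⟨?_, fun hx => ⟨x, hx, rfl⟩⟩
    rintro ⟨y, hy, hyx⟩
    have := X.mul_mem hy (hX ((mk_eq y x).mp hyx))
    rwa [mul_inv_cancel_left] at this
  have hZW : (𝐙 : Subgroup G) ≤ 𝐖 := inf_le_left
  have hZQ : (𝐙 : Subgroup G) ≤ 𝐐 := hZW.trans Exc.W_le_Q
  have hpi : ∀ m : ↥(sub 𝐐), ∃ x : ↥𝐐, mk ⟨x, hQleP x.2⟩ = (m : Additive (↥P ⧸ Zp)) := by
    rintro ⟨_, x, hx, rfl⟩
    exact ⟨⟨x, hx⟩, rfl⟩
  choose rep hrep using hpi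
  have hwd : ∀ x x' : ↥𝐐, mk ⟨x, hQleP x.2⟩ = mk ⟨x', hQleP x'.2⟩ → π x = π x' := by
    intro x x' hxx
    rw [← inv_mul_eq_one, ← map_inv, ← map_mul, N.ker]
    exact hZW ((mk_eq _ _).mp hxx)
  let πM : ↥(sub 𝐐) →+ (Fin 2 → F) :=
    AddMonoidHom.mk' (fun m => Multiplicative.toAdd (π (rep m))) fun m m' => by
      rw [← toAdd_mul, ← map_mul]
      refine congrArg Multiplicative.toAdd (hwd _ _ ?_)
      rw [hrep, AddSubgroup.coe_add, ← hrep m, ← hrep m']
      rfl
  have hπM : ∀ (x : ↥𝐐) (m : ↥(sub 𝐐)), (m : Additive (↥P ⧸ Zp)) = mk ⟨x, hQleP x.2⟩ →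
      πM m = Multiplicative.toAdd (π x) := fun x m hm =>
    congrArg Multiplicative.toAdd (hwd _ _ ((hrep m).trans hm))
  -- facts about `S`
  have hR : 𝐑 ≤ (T' : Subgroup G) := PLocal.pCore_le_sylow T'
  have hSE' : ∀ s ∈ S, ∀ e ∈ E, ⁅s, e⁆ ∈ 𝐐 ⊓ L := by
    intro s hs e he
    have hsL : s ∈ L := (hS.le hs).2
    have he' : e * s⁻¹ * e⁻¹ ∈ L := (mem_normalizer_iff.mp (hEL he) _).mp (inv_mem hsL)
    refine ⟨N.E_centralizer_U h ?_ ?_, ?_⟩
    · rw [commutatorElement_def]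
      exact E.mul_mem ((mem_normalizer_iff.mp (hSE hs) e).mp he) (E.inv_mem he)
    · rw [commutatorElement_def, mul_assoc, mul_assoc, ← mul_assoc e]
      exact Subgroup.mul_mem _ (hLU hsL) (hLU he')
    · rw [commutatorElement_def, mul_assoc, mul_assoc, ← mul_assoc e]
      exact L.mul_mem hsL he'
  have hES : E ≤ normalizer (S : Set G) := by
    intro e he
    refine mem_normalizer_iff_map_conj_eq.mpr (eq_of_le_of_card_ge ?_
      (card_map_of_injective (MulAut.conj e).injective).ge)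
    rintro _ ⟨s, hs, rfl⟩
    have h1 := hSE' s hs e he
    have e1 : e * s * e⁻¹ = ⁅s, e⁆⁻¹ * s := by simp [commutatorElement_def, mul_assoc]
    show e * s * e⁻¹ ∈ S
    rw [e1]
    refine S.mul_mem (inv_mem ?_) hs
    rw [hS]
    exact ⟨hR (h.Q_le_R h1.1), h1.2⟩
  have hSp : IsPGroup 3 S := T'.isPGroup'.to_le (hS.le.trans inf_le_left)
  have hSQ : ⁅𝐐, S⁆ ≤ 𝐖 := h.commutator_Q_le hSp
    (hSE.trans (LocalStructure.normalizer_le_normalizer_pCoreOf E)) hES
  have hQtriv : ∀ (g : ↥Γ), (g : G) ∈ 𝐐 → ∀ m : Additive (↥P ⧸ Zp), g • m = m := by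
    intro g hg m
    obtain ⟨x, rfl⟩ := mk_surj m
    rw [mk_smul, mk_eq]
    have h1 := hQP _ hg _ x.2
    have e1 : ((cg g x : ↥P) : G)⁻¹ * x = (g : G) * (x : G)⁻¹ * (g : G)⁻¹ * x := by
      simp [cg, mul_assoc]
    have e2 : (g : G) * (x : G)⁻¹ * (g : G)⁻¹ * x = ⁅(g : G), (x : G)⁻¹⁆ := by
      simp [commutatorElement_def, mul_assoc]
    rw [e1, e2]
    exact hQP _ hg _ (inv_mem x.2)
  have hBS : 𝐁 ≤ normalizer (S : Set G) := by
    rw [hS]
    exact LocalEven50.le_normalizer_inf (hBT'.trans le_normalizer) hBL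
  -- the core data
  have C : CoreData (L.subgroupOf Γ) (S.subgroupOf Γ) ((𝐁 : Subgroup G).subgroupOf Γ)
      (E.subgroupOf Γ) ⟨z, hEΓ N.zE⟩ (sub 𝐖) (sub 𝐐) πM := by
    constructor
    case three =>
      intro m
      obtain ⟨x, rfl⟩ := mk_surj m
      -- the elements whose cube lies in `Z` form a subgroup
      rw [← mk_add, ← mk_add, mk_eq_zero]
      obtain ⟨x, hx⟩ := x
      show x * x * x ∈ 𝐙
      let H : AddSubgroup (Additive (↥P ⧸ Zp)) :=
        { carrier := {m | m + m + m = 0}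
          zero_mem' := by simp
          add_mem' := fun {a b} ha hb => by
            show a + b + (a + b) + (a + b) = 0
            rw [show a + b + (a + b) + (a + b) = (a + a + a) + (b + b + b) by abel, ha, hb,
              add_zero]
          neg_mem' := fun {a} ha => by
            show -a + -a + -a = 0
            rw [show -a + -a + -a = -(a + a + a) by abel, ha, neg_zero] }
      suffices hH : ∀ (y : G) (hy : y ∈ P), mk ⟨y, hy⟩ ∈ H by
        let x' : ↥P := ⟨x, hx⟩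
        have h1 : mk x' + mk x' + mk x' = 0 := hH x hx
        rw [← mk_add, ← mk_add, mk_eq_zero] at h1
        exact h1
      intro y hy
      induction hy using closure_induction with
      | mem y hy =>
        obtain ⟨l, hl, q, hq, rfl⟩ := hy
        show mk _ + mk _ + mk _ = 0
        rw [← mk_add, ← mk_add, mk_eq_zero]
        show l * q * l⁻¹ * (l * q * l⁻¹) * (l * q * l⁻¹) ∈ 𝐙
        have h1 : (⟨q, hq⟩ : ↥𝐐) ^ 3 ∈ frattini ↥𝐐 :=
          Solvable.pow_mem_frattini (LocalStructure.pCoreOf_isPGroup E) _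
        have h2 := mem_map_of_mem 𝐐.subtype h1
        rw [h.frat] at h2
        have h3 : q ^ 3 ∈ 𝐙 := by simpa using h2
        have h4 : l * q ^ 3 * l⁻¹ = q ^ 3 := by
          rw [← mem_centralizer_iff.mp (hLW hl) _ (hZW h3), mul_inv_cancel_right]
        rw [show l * q * l⁻¹ * (l * q * l⁻¹) * (l * q * l⁻¹) = l * q ^ 3 * l⁻¹ by
          rw [pow_succ, pow_two]; group, h4]
        exact h3
      | one => exact H.zero_mem
      | mul a b ha hb iha ihb => exact mk_add ⟨a, ha⟩ ⟨b, hb⟩ ▸ H.add_mem iha ihb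
      | inv a ha iha => exact mk_neg ⟨a, ha⟩ ▸ H.neg_mem iha
    case h3 => exact h.h3
    case wq =>
      rintro _ ⟨x, hx, rfl⟩
      exact ⟨x, Exc.W_le_Q hx, rfl⟩
    case piSurj =>
      intro v
      obtain ⟨x, hx⟩ := N.surj (Multiplicative.ofAdd v)
      exact ⟨⟨mk ⟨x, hQleP x.2⟩, _, x.2, rfl⟩, by rw [hπM x _ rfl, hx]; rfl⟩
    case piKer =>
      rintro ⟨_, x, hx, rfl⟩
      rw [hπM ⟨x, hx⟩ _ rfl, ← toAdd_one, Multiplicative.toAdd.injective.eq_iff,
        N.ker, mem_sub hZW]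
    case eQ =>
      rintro e he _ ⟨x, hx, rfl⟩
      exact ⟨_, (mem_normalizer_iff.mp (Exc.E_le_normalizer_Q (E := E) he) _).mp hx, (mk_smul e x).symm⟩
    case eOnto =>
      intro g hg
      obtain ⟨e, he, hea⟩ := N.ontoQ g hg
      refine ⟨⟨e, hEΓ he⟩, he, ?_⟩
      rintro ⟨_, x, hx, rfl⟩ y hy
      set ex : ↥𝐐 := ⟨e * (x : G) * e⁻¹,
        (mem_normalizer_iff.mp (Exc.E_le_normalizer_Q he) _).mp hx⟩
      rw [hπM ⟨x, hx⟩ ⟨mk x, x, hx, rfl⟩ rfl, hπM ex y (by rw [hy, mk_smul]; rfl)]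
      exact hea ⟨x, hx⟩ ex rfl
    case irr =>
      intro X hWX hXQ hXE
      let Xg : Subgroup G :=
        { carrier := {g | ∃ hg : g ∈ P, mk ⟨g, hg⟩ ∈ X}
          one_mem' := ⟨one_mem _, X.zero_mem⟩
          mul_mem' := by
            rintro a b ⟨ha, ha'⟩ ⟨hb, hb'⟩
            exact ⟨mul_mem ha hb, mk_add ⟨a, ha⟩ ⟨b, hb⟩ ▸ X.add_mem ha' hb'⟩
          inv_mem' := by
            rintro a ⟨ha, ha'⟩
            exact ⟨inv_mem ha, mk_neg ⟨a, ha⟩ ▸ X.neg_mem ha'⟩ }
      have hn : E ≤ normalizer (Xg : Set G) := by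
        intro e he
        refine mem_normalizer_iff_map_conj_eq.mpr (eq_of_le_of_card_ge ?_
          (card_map_of_injective (MulAut.conj e).injective).ge)
        rintro _ ⟨g, ⟨hg, hg'⟩, rfl⟩
        exact ⟨(mem_normalizer_iff.mp (hEP he) g).mp hg, hXE ⟨e, hEΓ he⟩ he _ hg'⟩
      rcases LocalEven50.sl2Section_cases h.secQ (X := Xg)
        (fun w hw => ⟨hQleP (Exc.W_le_Q hw), hWX ⟨⟨w, _⟩, hw, rfl⟩⟩)
        (fun g ⟨hg, hg'⟩ => (mem_sub hZQ ⟨g, hg⟩).mp (hXQ hg')) hn with hh | hh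
      · refine Or.inl (le_antisymm (fun m hm => ?_) hWX)
        obtain ⟨x, rfl⟩ := mk_surj m
        exact ⟨x, hh.le ⟨x.2, hm⟩, rfl⟩
      · refine Or.inr (le_antisymm hXQ ?_)
        rintro _ ⟨x, hx, rfl⟩
        have h1 : (x : G) ∈ Xg := hh.ge hx
        exact h1.elim fun _ h2 => h2
    case zE => exact N.zE
    case zQ =>
      rintro _ ⟨x, hx, rfl⟩
      rw [mk_smul, ← mk_add]
      exact ⟨_, N.zQ _ hx, rfl⟩
    case zW =>
      rintro _ ⟨x, hx, rfl⟩
      obtain ⟨v, hv⟩ := N.exists_coord h hx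
      set c := (ι v)⁻¹ * (x : G)
      rw [mk_smul, ← mk_neg, mk_eq]
      have e : ((cg ⟨z, hEΓ N.zE⟩ x : ↥P) : G) = ι (-v) * c := by
        show z * (x : G) * z⁻¹ = _
        rw [show (x : G) = ι v * c by simp [c], ← N.zU,
          show z * (ι v * c) * z⁻¹ = (z * ι v * z⁻¹) * (z * c * z⁻¹) by group,
          mem_centralizer_iff.mp hv.2 z N.zE, mul_inv_cancel_right]
      rw [e, Subgroup.coe_inv, show (x : G)⁻¹ = c⁻¹ * (ι v)⁻¹ by simp [c], mul_inv_rev,
        N.ι_inv, neg_neg, N.ι_inv, Exc.W_comm (inv_mem hv.1) (h.U_le_W (N.ι_mem (-v))),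
        mul_assoc, ← mul_assoc (ι v), ← N.add, add_neg_cancel, N.zero, one_mul]
      exact mul_mem (inv_mem hv) (inv_mem hv)
    case zz =>
      intro m
      rw [← mul_smul, show (⟨z, hEΓ N.zE⟩ * ⟨z, hEΓ N.zE⟩ : ↥Γ) = 1 from Subtype.ext N.zz,
        one_smul]
    case zM =>
      intro m
      obtain ⟨x, rfl⟩ := mk_surj m
      rw [mk_smul, sub_eq_add_neg, ← mk_neg, ← mk_add, mem_sub hZQ]
      have h1 : ⁅(x : G), z⁆ ∈ 𝐐 := h.RE_le_Q (commutator_mem_commutator (hPR x.2) N.zE)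
      simpa [cg, commutatorElement_def, mul_assoc] using h1
    case sl => exact comap_mono (hS.le.trans inf_le_right)
    case pS => exact hSp.comap_of_injective Γ.subtype Γ.subtype_injective
    case idx =>
      have hSL : S ≤ L := hS.le.trans inf_le_right
      have hST : S.subgroupOf Γ ≤ L.subgroupOf Γ := comap_mono hSL
      intro hd
      refine hSidx (hd.trans (dvd_of_eq ?_))
      show (S.subgroupOf Γ).relIndex (L.subgroupOf Γ) = S.relIndex L
      exact relIndex_subgroupOf hLΓ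
    case opL =>
      refine map_injective Γ.subtype_injective ?_
      rw [LocalStructure.map_pResOf, subgroupOf_map_subtype, inf_eq_left.mpr hLΓ, hres]
    case lW =>
      rintro l hl _ ⟨x, hx, rfl⟩
      rw [mk_smul, mk_eq]
      show ((l : G) * x * (l : G)⁻¹)⁻¹ * x ∈ 𝐙
      rw [← mem_centralizer_iff.mp (hLW (show (l : G) ∈ L from hl)) _ hx, mul_inv_cancel_right,
        inv_mul_cancel]
      exact one_mem _
    case sQ =>
      rintro s hs _ ⟨x, hx, rfl⟩
      rw [mk_smul, sub_eq_add_neg, ← mk_neg, ← mk_add, mem_sub hZW]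
      show (s : G) * x * (s : G)⁻¹ * (x : G)⁻¹ ∈ 𝐖
      rw [← commutatorElement_def, ← commutatorElement_inv]
      exact inv_mem (hSQ (commutator_mem_commutator hx hs))
    case sE =>
      intro s hs e he m
      have h1 : ⁅(s : G), (e : G)⁆ ∈ 𝐐 := (hSE' s hs e he).1
      conv_lhs => rw [← mul_smul, show s * e = ⁅s, e⁆ * (e * s) by group, mul_smul]
      rw [hQtriv _ (by simpa [commutatorElement_def] using h1), mul_smul]
    case eL => exact le_normalizer_subgroupOf hEL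
    case eS => exact le_normalizer_subgroupOf hES
    case pB => exact (T'.isPGroup'.to_le hBT').comap_of_injective Γ.subtype Γ.subtype_injective
    case bL => exact le_normalizer_subgroupOf hBL
    case bS => exact le_normalizer_subgroupOf hBS
    case bQ =>
      rintro b hb _ ⟨x, hx, rfl⟩
      exact ⟨_, (mem_normalizer_iff.mp (B_le_normalizer_Q h hb) _).mp hx, (mk_smul b x).symm⟩
    case bLin =>
      intro b hb
      obtain ⟨γ, hγ⟩ := N.linear_Q h hb
      refine ⟨γ, ?_⟩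
      rintro ⟨_, x, hx, rfl⟩ y hy
      set bx : ↥𝐐 := ⟨(b : G) * (x : G) * (b : G)⁻¹,
        (mem_normalizer_iff.mp (B_le_normalizer_Q h hb) _).mp hx⟩
      rw [hπM ⟨x, hx⟩ ⟨mk x, x, hx, rfl⟩ rfl, hπM bx y (by rw [hy, mk_smul]; rfl)]
      exact hγ ⟨x, hx⟩ bx rfl
    case bz =>
      intro b hb m
      have h1 := N.conj_z_mem h hb
      conv_lhs => rw [← mul_smul, show b * ⟨z, hEΓ N.zE⟩ =
        ⁅b, ⟨z, hEΓ N.zE⟩⁆ * (⟨z, hEΓ N.zE⟩ * b) by group, mul_smul]
      rw [hQtriv _ (by simpa [commutatorElement_def] using h1), mul_smul]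
    case bQuadW =>
      rintro b hb _ ⟨x, hx, rfl⟩
      rw [← sub_eq_zero, mk_smul, mk_sub, mk_smul, mk_sub, mk_eq_zero]
      exact N.quadratic_W h hb hx
    case bQuad =>
      rintro b hb _ ⟨x, hx, rfl⟩
      rw [mk_smul, sub_eq_add_neg (mk (cg b x)), ← mk_neg, ← mk_add, mk_smul,
        sub_eq_add_neg, ← mk_neg, ← mk_add, mem_sub hZW]
      exact N.quadratic_Q h hb hx
    case bNorm =>
      intro m hm hmS hmB
      have hmS' : (m : G) ∈ normalizer (S : Set G) := by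
        refine mem_normalizer_iff_map_conj_eq.mpr (eq_of_le_of_card_ge ?_
          (card_map_of_injective (MulAut.conj (m : G)).injective).ge)
        rintro _ ⟨s, hs, rfl⟩
        exact (mem_normalizer_iff.mp hmS ⟨s, hLΓ (hS.le hs).2⟩).mp hs
      have hmH : (m : G) ∈ normalizer ((S ⊔ 𝐁 : Subgroup G) : Set G) := by
        refine mem_normalizer_iff_map_conj_eq.mpr (eq_of_le_of_card_ge ?_
          (card_map_of_injective (MulAut.conj (m : G)).injective).ge)
        rw [Subgroup.map_sup]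
        refine sup_le ?_ ?_
        · rintro _ ⟨s, hs, rfl⟩
          exact mem_sup_left ((mem_normalizer_iff.mp hmS' s).mp hs)
        · rintro _ ⟨b, hb, rfl⟩
          have h1 : b * (m : G) * b⁻¹ * (m : G)⁻¹ ∈ S := hmB ⟨b, hBΓ hb⟩ hb
          show (m : G) * b * (m : G)⁻¹ ∈ S ⊔ 𝐁
          rw [show (m : G) * b * (m : G)⁻¹ = (b * (m : G) * b⁻¹ * (m : G)⁻¹)⁻¹ * b by group]
          exact mul_mem (mem_sup_left (inv_mem h1)) (mem_sup_right hb)
      have hJH : thompsonSubgroupOf 3 (T' : Subgroup G) ≤ S ⊔ 𝐁 :=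
        (LocalEven50.thompsonSubgroupOf_le_baumann _).trans (hBT.le.trans le_sup_right)
      have hHT : S ⊔ 𝐁 ≤ (T' : Subgroup G) := sup_le (hS.le.trans inf_le_left) hBT'
      have hBH : baumannSubgroupOf 3 (S ⊔ 𝐁 : Subgroup G) = 𝐁 := by
        have e1 := PLocal.thompsonSubgroupOf_eq_of_le hHT hJH
        rw [baumannSubgroupOf, centerThompsonOf, e1, ← centerThompsonOf]
        refine le_antisymm ((inf_le_inf_right _ hHT).trans hBT.le) (le_inf le_sup_right ?_)
        exact hBT.ge.trans inf_le_right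
      have := LocalEven50.normalizer_le_normalizer_baumann (p := 3) _ hmH
      rw [hBH] at this
      exact mem_normalizer_iff.mpr fun b => mem_normalizer_iff.mp this (b : G)
  -- conclusion
  rcases C.main with hfix | hquad
  · intro l hl x hx
    have h1 := hfix ⟨l, hLΓ hl⟩ hl _ ⟨⟨x, hQleP hx⟩, hx, rfl⟩
    rw [mk_smul, mk_eq] at h1
    have h2 : (l * x * l⁻¹)⁻¹ * x ∈ 𝐖 := hZW h1
    have h3 : x * ((l * x * l⁻¹)⁻¹ * x) * x⁻¹ ∈ 𝐖 :=
      (mem_normalizer_iff.mp (Exc.E_le_normalizer_W (LocalStructure.pCoreOf_le E hx)) _).mp h2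
    have := inv_mem h3
    simpa [mul_assoc] using this
  · exfalso
    obtain ⟨A, hA, hAU⟩ := N.exists_not_centralizing h
    obtain ⟨b, hbA, hbU⟩ : ∃ b ∈ A, b ∉ centralizer (𝐔 : Set G) := by
      by_contra hall
      push Not at hall
      exact hAU hall
    have hbB : b ∈ 𝐁 :=
      LocalEven50.thompsonSubgroupOf_le_baumann _ (PLocal.le_thompsonSubgroupOf hA hbA)
    obtain ⟨s, hs, hq⟩ := hquad ⟨b, hBΓ hbB⟩ hbB
    set b' := b * (s : G) with hb'
    have hb'B : b' ∈ 𝐁 := mul_mem hbB hs.1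
    have hb'U : b' ∉ centralizer (𝐔 : Set G) := fun hc => hbU (by
      have := mul_mem hc (inv_mem (hLU (hS.le hs.2).2))
      simpa [hb', mul_assoc] using this)
    refine h.nonquad b' hb'B (fun hc => hb'U (centralizer_le h.U_le_W hc)) ?_
    rw [h.center]
    let H : Subgroup G :=
      { carrier := {x | x ∈ 𝐐 ∧ b' * x * b'⁻¹ * x⁻¹ ∈ 𝐙}
        one_mem' := ⟨one_mem _, by simp⟩
        mul_mem' := fun {x y} hx hy => ⟨mul_mem hx.1 hy.1, by
          rw [show b' * (x * y) * b'⁻¹ * (x * y)⁻¹ =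
            (b' * x * b'⁻¹) * (b' * y * b'⁻¹ * y⁻¹) * x⁻¹ by group,
            h.V_central (h.W_le_V hy.2.1)
              (h.Q_le_R ((mem_normalizer_iff.mp (B_le_normalizer_Q h hb'B) x).mp hx.1)),
            mul_assoc]
          exact mul_mem hy.2 hx.2⟩
        inv_mem' := fun {x} hx => ⟨inv_mem hx.1, by
          rw [show b' * x⁻¹ * b'⁻¹ * x⁻¹⁻¹ = x⁻¹ * (b' * x * b'⁻¹ * x⁻¹)⁻¹ * x by group,
            h.V_central (h.W_le_V (inv_mem hx.2.1)) (h.Q_le_R (inv_mem hx.1)),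
            inv_mul_cancel_right]
          exact inv_mem hx.2⟩ }
    have hbH : b' ∈ normalizer (H : Set G) := by
      refine mem_normalizer_iff_map_conj_eq.mpr (eq_of_le_of_card_ge ?_
        (card_map_of_injective (MulAut.conj b').injective).ge)
      rintro _ ⟨x, hx, rfl⟩
      refine ⟨(mem_normalizer_iff.mp (B_le_normalizer_Q h hb'B) x).mp hx.1, ?_⟩
      show b' * (b' * x * b'⁻¹) * b'⁻¹ * (b' * x * b'⁻¹)⁻¹ ∈ 𝐙
      rw [show b' * (b' * x * b'⁻¹) * b'⁻¹ * (b' * x * b'⁻¹)⁻¹ =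
        b' * (b' * x * b'⁻¹ * x⁻¹) * b'⁻¹ by group]
      exact (mem_normalizer_iff.mp (B_le_normalizer_Z h hb'B) _).mp hx.2
    refine (commutator_mono (commutator_zpowers_le (A := 𝐐) hbH fun x hx => ?_) le_rfl).trans
      (commutator_zpowers_le (B_le_normalizer_Z h hb'B) fun x hx => ?_)
    · have hbx := (mem_normalizer_iff.mp (B_le_normalizer_Q h hb'B) x⁻¹).mp (inv_mem hx)
      refine ⟨?_, ?_⟩
      · rw [commutatorElement_def, mul_assoc, mul_assoc, ← mul_assoc b']
        exact mul_mem hx hbx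
      · have h1 := hq (mk ⟨x⁻¹, hQleP (inv_mem hx)⟩) ⟨_, inv_mem hx, rfl⟩
        rw [mk_smul, sub_eq_add_neg, ← mk_neg, ← mk_add, mk_smul, mk_eq] at h1
        have h2 := inv_mem h1
        have e : ⁅x, b'⁆ = x * (b' * x⁻¹ * b'⁻¹) := by rw [commutatorElement_def]; group
        have h3 : b' * (b' * x⁻¹ * b'⁻¹ * x) * b'⁻¹ * (b' * x⁻¹ * b'⁻¹ * x)⁻¹ ∈ 𝐙 := by
          have hy : b' * x⁻¹ * b'⁻¹ * x ∈ 𝐑 := h.Q_le_R (mul_mem hbx hx)
          set y := b' * x⁻¹ * b'⁻¹ * x
          have h4 : y⁻¹ * (b' * y * b'⁻¹) ∈ 𝐙 := by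
            simpa [cg, hb', y, mul_assoc] using h2
          have h5 := mul_mem h4 (one_mem (𝐙 : Subgroup G))
          rw [show b' * y * b'⁻¹ * y⁻¹ = y * (y⁻¹ * (b' * y * b'⁻¹)) * y⁻¹ by group,
            h.V_central (h.W_le_V h4.1) hy, mul_inv_cancel_right]
          exact h4
        rw [e]
        have e2 : x * (b' * x⁻¹ * b'⁻¹) = x * (b' * x⁻¹ * b'⁻¹ * x) * x⁻¹ := by group
        have hxb : x * (b' * x⁻¹ * b'⁻¹) ∈ 𝐐 := mul_mem hx hbx
        set y := b' * x⁻¹ * b'⁻¹ * x with hy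
        have hyQ : y ∈ 𝐐 := mul_mem hbx hx
        -- `x y x⁻¹` and `y` differ by an element of `Z`
        have hc : ⁅x, y⁆ ∈ 𝐙 := h.comm.le (commutator_mem_commutator hx hyQ)
        rw [e2, show x * y * x⁻¹ = ⁅x, y⁆ * y by rw [commutatorElement_def]; group]
        have e3 : b' * (⁅x, y⁆ * y) * b'⁻¹ * (⁅x, y⁆ * y)⁻¹ =
            (b' * ⁅x, y⁆ * b'⁻¹) * (b' * y * b'⁻¹ * y⁻¹) * ⁅x, y⁆⁻¹ := by group
        rw [e3]
        exact mul_mem (mul_mem ((mem_normalizer_iff.mp (B_le_normalizer_Z h hb'B) _).mp hc) h3)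
          (inv_mem hc)
    · have := inv_mem hx.2
      simpa [commutatorElement_def, mul_assoc] using this

theorem centralizer_le_normalizer_block : centralizer (𝐔 : Set G) ≤ normalizer (E : Set G) := by
  classical
  haveI := LocalStructure.pCore_normal (p := 3) (G := G)
  suffices key : ∀ (m : ℕ) (K : Subgroup G), Nat.card K = m → K ≤ centralizer (𝐔 : Set G) →
      E ≤ normalizer (K : Set G) → 𝐁 ≤ normalizer (K : Set G) →
      𝐑 ≤ normalizer (K : Set G) → K ≤ normalizer (E : Set G) by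
    refine key _ _ rfl le_rfl ?_ ?_ ?_
    · exact Exc.E_le_normalizer_U.trans (CharPLocal.normalizer_le_normalizer_centralizer _)
    · exact (B_le_normalizer_U h).trans (CharPLocal.normalizer_le_normalizer_centralizer _)
    · exact ((le_inf (Exc.le_normalizer_V _) h.R_le_normalizer).trans
        (CharPLocal.inf_normalizer_le_normalizer_commutator _ _)).trans
        (CharPLocal.normalizer_le_normalizer_centralizer _)
  intro m
  induction m using Nat.strong_induction_on with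
  | _ m ih =>
  intro K hm hKU hEK hBK hRK
  set X := ⁅E, K⁆ with hX
  set L := LocalStructure.pResOf 3 X with hL
  have hXK : X ≤ K := by rw [hX, commutator_comm]; exact Coprime.commutator_le_of_le_normalizer hEK
  have hLK : L ≤ K := (LocalStructure.pResOf_le X).trans hXK
  have hNX : ∀ A : Subgroup G, A ≤ normalizer (E : Set G) → A ≤ normalizer (K : Set G) →
      A ≤ normalizer (L : Set G) := fun A h1 h2 =>
    ((le_inf h1 h2).trans (CharPLocal.inf_normalizer_le_normalizer_commutator E K)).trans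
      (LocalStructure.normalizer_le_normalizer_pResOf X)
  have hEL := hNX E le_normalizer hEK
  have hBL := hNX _ (B_le_normalizer_E h) hBK
  have hRL := hNX _ h.R_le_normalizer hRK
  have hKL : K ≤ normalizer (L : Set G) :=
    (le_sup_right.trans (Coprime.sup_le_normalizer_commutator E K)).trans
      (LocalStructure.normalizer_le_normalizer_pResOf X)
  have hLU : L ≤ centralizer (𝐔 : Set G) := hLK.trans hKU
  have hUn : ∀ Y : Subgroup G, Y ≤ 𝐕 → Y ≤ normalizer (𝐔 : Set G) := fun Y hY => by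
    refine hY.trans (fun v hv => centralizer_le_normalizer _ (mem_centralizer_iff.mpr fun u hu => ?_))
    exact h.V_central hv (h.Q_le_R (Exc.W_le_Q (h.U_le_W hu)))
  have hLV : L ≤ centralizer (𝐕 : Set G) :=
    pResOf_le_centralizer (PLocal.isPGroup_of_isElementaryAbelian
      (LocalEven50.isElementaryAbelian_omegaOneCenter 𝐑)) (Exc.le_normalizer_V _)
      (Exc.le_normalizer_V _) hEK le_rfl hKU Exc.E_le_normalizer_U (hUn _ le_rfl)
  -- a Sylow subgroup of `L` normalised by `B`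
  have hBp : IsPGroup 3 𝐁 := T.isPGroup'.to_le inf_le_left
  set BL := L ⊔ 𝐁
  obtain ⟨P0, hP0⟩ := (hBp.comap_of_injective BL.subtype BL.subtype_injective).exists_le_sylow
  obtain ⟨T', hT'⟩ := (P0.isPGroup'.map BL.subtype).exists_le_sylow
  have hBT' : 𝐁 ≤ (T' : Subgroup G) := fun b hb =>
    hT' ⟨⟨b, mem_sup_right hb⟩, hP0 hb, rfl⟩
  have hBT : baumannSubgroupOf 3 (T' : Subgroup G) = 𝐁 :=
    LocalEven50.baumannSubgroupOf_eq_of_le T' T hBT'
  set S := (T' : Subgroup G) ⊓ L with hS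
  have hLn : (L.subgroupOf BL).Normal :=
    (normal_subgroupOf_iff_le_normalizer le_sup_left).mpr (sup_le le_normalizer hBL)
  have hSidx : ¬ 3 ∣ (S.subgroupOf L).index := by
    obtain ⟨Q1, hQ1⟩ := Cfsg.Agent.S0542.result 3 (L.subgroupOf BL)
      (Subgroup.Normal.isSubnormal hLn) P0
    have hSP : (P0 : Subgroup BL).map BL.subtype = (T' : Subgroup G) ⊓ BL := by
      refine le_antisymm (le_inf hT' (map_subtype_le _)) fun g hg => ?_
      have hle : (P0 : Subgroup BL) ≤ (T' : Subgroup G).subgroupOf BL := fun y hy =>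
        hT' ⟨y, hy, rfl⟩
      have := P0.3 (T'.isPGroup'.comap_of_injective BL.subtype BL.subtype_injective) hle
      exact ⟨⟨g, hg.2⟩, this.le (show (⟨g, hg.2⟩ : BL) ∈ (T' : Subgroup G).subgroupOf BL from hg.1),
        rfl⟩
    have hrel : (P0 : Subgroup BL).relIndex (L.subgroupOf BL) = S.relIndex L := by
      have e : (P0 : Subgroup BL) = ((T' : Subgroup G) ⊓ BL).subgroupOf BL := by
        rw [← hSP]; exact (comap_map_eq_self_of_injective BL.subtype_injective _).symm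
      rw [e, relIndex_subgroupOf le_sup_left, ← inf_relIndex_right, hS, ← inf_relIndex_right
        (H := (T' : Subgroup G) ⊓ L)]
      congr 1
      simp only [inf_assoc]
      rw [inf_eq_right.mpr (le_sup_left : L ≤ BL), inf_idem]
    have h1 := Q1.not_dvd_index
    rw [hQ1] at h1
    show ¬ 3 ∣ S.relIndex L
    rw [← hrel]
    exact h1
  have hmax : PLocal.maxEAIn 3 (T' : Subgroup G) = PLocal.maxEAIn 3 (T : Subgroup G) := by
    have h1 : ∀ A ∈ PLocal.maxEAIn 3 (T : Subgroup G), A ≤ (T' : Subgroup G) := fun A hA =>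
      ((PLocal.le_thompsonSubgroupOf hA).trans
        (LocalEven50.thompsonSubgroupOf_le_baumann _)).trans hBT'
    have h2 : ∀ A ∈ PLocal.maxEAIn 3 (T' : Subgroup G), A ≤ (T : Subgroup G) := fun A hA =>
      ((PLocal.le_thompsonSubgroupOf hA).trans
        (LocalEven50.thompsonSubgroupOf_le_baumann _)).trans (hBT.le.trans inf_le_left)
    obtain ⟨A0, hA0⟩ := PLocal.maxEAIn_nonempty 3 (T : Subgroup G)
    obtain ⟨A1, hA1⟩ := PLocal.maxEAIn_nonempty 3 (T' : Subgroup G)
    ext A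
    constructor <;> intro hA
    · exact ⟨h2 A hA, hA.2.1, fun C hC hCe =>
        (hA0.2.2 C hC hCe).trans (hA.2.2 A0 (h1 A0 hA0) hA0.2.1)⟩
    · exact ⟨h1 A hA, hA.2.1, fun C hC hCe =>
        (hA1.2.2 C hC hCe).trans (hA.2.2 A1 (h2 A1 hA1) hA1.2.1)⟩
  have hJeq : J0 T' E = J0 T E := by simp only [J0, hmax]
  have hnC := CharPLocal.normalizer_le_normalizer_centralizer (G := G) 𝐔
  have hSE : S ≤ normalizer (E : Set G) := by
    rcases lt_or_eq_of_le hLK with hlt | heq
    · have hc : Nat.card L < m := hm ▸ lt_of_le_of_ne (card_le_of_le hLK)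
        fun e => hlt.ne (eq_of_le_of_card_ge hLK e.ge)
      exact inf_le_right.trans (ih _ hc L rfl hLU hEL hBL hRL)
    set J := J0 T E
    by_cases hnorm : K ≤ normalizer (J : Set G)
    · -- `K` normalises `J₀`, so `S ≤ B(T)`
      set Y := omegaOneCenter 3 J
      have hYel := LocalEven50.isElementaryAbelian_omegaOneCenter (p := 3) J
      have hEY : E ≤ normalizer (Y : Set G) :=
        (N.E_le_normalizer_J0 h).trans (LocalEven50.normalizer_le_normalizer_omegaOneCenter _)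
      have hKY : K ≤ normalizer (Y : Set G) :=
        hnorm.trans (LocalEven50.normalizer_le_normalizer_omegaOneCenter _)
      have hYU : Y ≤ normalizer (𝐔 : Set G) :=
        ((LocalEven50.omegaOneCenter_le _).trans (N.J0_le h)).trans
          (inf_le_right.trans (centralizer_le_normalizer _))
      have hLY : L ≤ centralizer (Y : Set G) :=
        pResOf_le_centralizer (PLocal.isPGroup_of_isElementaryAbelian hYel) hEY hKY hEK
          (N.Z0_commutator_le h) hKU Exc.E_le_normalizer_U hYU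
      have hcT : centerThompsonOf 3 (T' : Subgroup G) = centerThompsonOf 3 (T : Subgroup G) := by
        rw [centerThompsonOf, centerThompsonOf, PLocal.thompsonSubgroupOf_eq,
          PLocal.thompsonSubgroupOf_eq, hmax]
      have hSB : S ≤ baumannSubgroupOf 3 (T' : Subgroup G) := by
        refine le_inf inf_le_left ?_
        rw [hcT]
        exact (inf_le_right.trans hLY).trans (centralizer_le (N.omega_ZJ_le h))
      exact (hSB.trans hBT.le).trans (B_le_normalizer_E h)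
    · -- `K ∩ N(J₀)` is smaller
      have hlt : K ⊓ normalizer (J : Set G) < K :=
        lt_of_le_of_ne inf_le_left fun e => hnorm (inf_eq_left.mp e)
      have hc : Nat.card ↥(K ⊓ normalizer (J : Set G)) < m := hm ▸
        lt_of_le_of_ne (card_le_of_le inf_le_left)
          fun e => hlt.ne (eq_of_le_of_card_ge inf_le_left e.ge)
      have hn : ∀ A : Subgroup G, A ≤ normalizer (K : Set G) → A ≤ normalizer (J : Set G) →
          A ≤ normalizer ((K ⊓ normalizer (J : Set G) : Subgroup G) : Set G) :=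
        fun A h1 h2 => LocalEven50.le_normalizer_inf h1 (h2.trans le_normalizer)
      have hBJ : 𝐁 ≤ normalizer (J : Set G) := fun b hb =>
        le_normalizer_J0 (T := T) (le_normalizer hb.1) (hnC (B_le_normalizer_U h hb))
      have hRJ : 𝐑 ≤ normalizer (J : Set G) := fun r hr =>
        le_normalizer_J0 (T := T) (le_normalizer (PLocal.pCore_le_sylow T hr))
          (hnC (centralizer_le_normalizer _ (mem_centralizer_iff.mpr fun u hu =>
            (h.V_central (Exc.U_le_V hu) hr).symm)))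
      refine le_trans ?_ (ih _ hc _ rfl (inf_le_left.trans hKU) (hn E hEK (N.E_le_normalizer_J0 h))
        (hn _ hBK hBJ) (hn _ hRK hRJ))
      intro s hs
      refine ⟨hLK hs.2, ?_⟩
      have := le_normalizer_J0 (T := T') (E := E) (le_normalizer hs.1)
        (hnC (centralizer_le_normalizer _ (hLU hs.2)))
      rwa [hJeq] at this
  have hres : LocalStructure.pResOf 3 L = L := LocalStructure.pResOf_idem X
  have hcore := N.core_step h hLU hLV hEL hBL hres hBT hS hSidx hSE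
  -- `L` stabilises a series of `R`
  set P := conjSpan E K
  have hPn : ∀ A : Subgroup G, A ≤ normalizer (K : Set G) → A ≤ normalizer (𝐐 : Set G) →
      A ≤ normalizer (P : Set G) := fun A h1 h2 => le_normalizer_conjSpan h1 fun g hg q hq =>
    le_conjSpan K ((mem_normalizer_iff.mp (h2 hg) q).mp hq)
  have hKP : K ≤ normalizer (P : Set G) :=
    le_normalizer_conjSpan le_normalizer fun g hg q hq => conj_mem_conjSpan hg hq
  have hPR : P ≤ 𝐑 := (closure_le _).mpr (by
    rintro _ ⟨l, -, q, hq, rfl⟩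
    exact Normal.conj_mem inferInstance q (h.Q_le_R hq) l)
  have hXR : ⁅X, 𝐑⁆ ≤ P := by
    refine LocalEven48.three_subgroups_le (hPn E hEK Exc.E_le_normalizer_Q) hKP
      (hPn _ hRK h.R_le_normalizer_Q) ((commutator_mono ?_ le_rfl).trans
        (h.RE_le_Q.trans (le_conjSpan K))) ?_
    · rw [commutator_comm]; exact Coprime.commutator_le_of_le_normalizer (Exc.le_normalizer_R K)
    · refine (commutator_mono h.RE_le_Q le_rfl).trans (commutator_le.mpr fun q hq k hk => ?_)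
      rw [commutatorElement_def, mul_assoc, mul_assoc, ← mul_assoc k]
      exact mul_mem (le_conjSpan K hq) (conj_mem_conjSpan hk (inv_mem hq))
  have hPV : ∀ x ∈ P, ∀ l ∈ L, ⁅x, l⁆ ∈ 𝐕 := by
    intro x hx l hl
    induction hx using closure_induction generalizing l with
    | mem x hx =>
      obtain ⟨k, hk, q, hq, rfl⟩ := hx
      have hl' : k⁻¹ * l * k ∈ L := (mem_normalizer_iff''.mp (hKL hk) l).mp hl
      have h1 : ⁅q, k⁻¹ * l * k⁆ ∈ 𝐕 := by
        rw [← commutatorElement_inv, commutatorElement_def]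
        exact inv_mem (h.W_le_V (hcore _ hl' q hq))
      have e : ⁅k * q * k⁻¹, l⁆ = k * ⁅q, k⁻¹ * l * k⁆ * k⁻¹ := by
        simp only [commutatorElement_def]; group
      rw [e]
      exact (mem_normalizer_iff.mp (Exc.le_normalizer_V _ hk) _).mp h1
    | one => simp
    | mul a b ha hb iha ihb =>
      have e : ⁅a * b, l⁆ = a * ⁅b, l⁆ * a⁻¹ * ⁅a, l⁆ := by
        simp only [commutatorElement_def]; group
      rw [e, h.V_central (ihb l hl) (hPR ha), mul_inv_cancel_right]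
      exact mul_mem (ihb l hl) (iha l hl)
    | inv a ha iha =>
      have e : ⁅a⁻¹, l⁆ = a⁻¹ * ⁅a, l⁆⁻¹ * a := by simp only [commutatorElement_def]; group
      rw [e, h.V_central (inv_mem (iha l hl)) (inv_mem (hPR ha)), inv_mul_cancel_right]
      exact inv_mem (iha l hl)
  have hLbot : L = ⊥ := by
    rw [eq_bot_iff]
    conv_lhs => rw [← hres]
    refine LocalStructure.pResOf_le_of_forall fun x hx hc => ?_
    have hxX : x ∈ X := LocalStructure.pResOf_le X hx
    have hz : zpowers x ≤ L := zpowers_le.mpr hx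
    have hxR : x ∈ centralizer (𝐑 : Set G) := by
      refine coprime_centralizes_of_series (P := P) (V := 𝐕) Exc.R_isPGroup hc
        (Exc.le_normalizer_R ⊤ (mem_top x)) ?_ ?_ ?_
      · rw [commutator_comm]; exact (commutator_mono (zpowers_le.mpr hxX) le_rfl).trans hXR
      · exact commutator_le.mpr fun a ha l hl => hPV a ha l (hz hl)
      · rw [commutator_comm, commutator_eq_bot_iff_le_centralizer]
        exact hz.trans hLV
    obtain ⟨k, hk⟩ := IsPGroup.iff_orderOf.1 Exc.R_isPGroup ⟨x, h.charP hxR⟩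
    rw [Subgroup.orderOf_mk] at hk
    rw [mem_bot, ← orderOf_eq_one_iff, hk]
    rcases k with - | k
    · rfl
    · rw [hk, Nat.coprime_pow_left_iff (Nat.succ_pos k)] at hc
      exact absurd hc (by norm_num)
  exact le_normalizer_of_isPGroup_commutator h.charP T h.block hEK hBK
    (LocalStructure.pResOf_eq_bot.mp hLbot)

end Nat2

/-- An exceptional block is normalised by `C(U)`. -/
theorem Exc.centralizer_le_normalizer (h : Exc T E F n) :
    centralizer (𝐔 : Set G) ≤ normalizer (E : Set G) := by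
  obtain ⟨z, ι, π, N⟩ := h.exists_nat2
  exact N.centralizer_le_normalizer_block h

end CfsgLib.BlockNormal85
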