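import Mathlib.FieldTheory.Finite.Basic
import Mathlib.FieldTheory.Fixed
import Mathlib.LinearAlgebra.Matrix.SpecialLinearGroup
import Mathlib.GroupTheory.Commutator.Basic
import Mathlib.GroupTheory.Index
import Mathlib.Algebra.CharP.Lemmas
import Mathlib.Algebra.Algebra.ZMod
import Mathlib.LinearAlgebra.Matrix.CharP
import Mathlib.LinearAlgebra.Matrix.ToLin
import Mathlib.Tactic.LinearCombination
import Mathlib.Tactic.FinCases

/-!
# The natural module of `SL₂` in characteristic three, seen additively

* `exists_scalar_of_commute`: an additive map commuting with `SL₂(F)'` is a scalar.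
* `exists_ringEquiv_of_normalizing`: an additive bijection normalising `SL₂(F)'` is semilinear.
* `semilinear_offender`: an elementary abelian group of semilinear maps which is an offender
  consists of linear maps and is no stronger than its index.
-/

set_option linter.style.haveILetI false
set_option linter.unnecessarySeqFocus false

namespace CfsgLib.BlockNormal85

open Matrix Subgroup
open scoped commutatorElement

variable {F : Type*} [Field F]

local notation "SL2" => Matrix.SpecialLinearGroup (Fin 2) F
local notation "V2" => Fin 2 → F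

/-- Upper unitriangular matrices. -/
def up (t : F) : SL2 := ⟨!![1, t; 0, 1], by simp [Matrix.det_fin_two]⟩

/-- Lower unitriangular matrices. -/
def low (t : F) : SL2 := ⟨!![1, 0; t, 1], by simp [Matrix.det_fin_two]⟩

theorem rot_mem (h3 : (3 : F) = 0) :
    ∃ g ∈ commutator SL2, (g : Matrix (Fin 2) (Fin 2) F) = !![0, -1; 1, 0] := by
  refine ⟨⁅up 1, low 1⁆, commutator_mem_commutator (mem_top _) (mem_top _), ?_⟩
  rw [commutatorElement_def, Matrix.SpecialLinearGroup.coe_mul,
    Matrix.SpecialLinearGroup.coe_mul, Matrix.SpecialLinearGroup.coe_mul,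
    Matrix.SpecialLinearGroup.coe_inv, Matrix.SpecialLinearGroup.coe_inv]
  show !![1, 1; 0, 1] * !![1, 0; 1, 1] * Matrix.adjugate !![(1 : F), 1; 0, 1] *
    Matrix.adjugate !![(1 : F), 0; 1, 1] = _
  rw [Matrix.adjugate_fin_two_of, Matrix.adjugate_fin_two_of]
  ext i j
  fin_cases i <;> fin_cases j <;> simp [Matrix.mul_apply, Fin.sum_univ_two] <;> linear_combination h3

/-- `-1` lies in `SL₂(F)'`. -/
theorem negOne_mem (h3 : (3 : F) = 0) :
    ∃ g ∈ commutator SL2, (g : Matrix (Fin 2) (Fin 2) F) = -1 := by
  obtain ⟨g, hg, hgM⟩ := rot_mem (F := F) h3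
  refine ⟨g * g, mul_mem hg hg, ?_⟩
  rw [Matrix.SpecialLinearGroup.coe_mul, hgM]
  ext i j
  fin_cases i <;> fin_cases j <;> simp [Matrix.mul_apply, Fin.sum_univ_two]

theorem tilt_mem (h3 : (3 : F) = 0) (t : F) :
    ∃ g ∈ commutator SL2, (g : Matrix (Fin 2) (Fin 2) F) = !![t, -1 - t * t; 1, -t] := by
  obtain ⟨g, hg, hgM⟩ := rot_mem (F := F) h3
  haveI : (commutator SL2).Normal := inferInstance
  refine ⟨up t * g * (up t)⁻¹, Normal.conj_mem inferInstance g hg _, ?_⟩
  rw [Matrix.SpecialLinearGroup.coe_mul, Matrix.SpecialLinearGroup.coe_mul, hgM,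
    Matrix.SpecialLinearGroup.coe_inv]
  show !![1, t; 0, 1] * !![(0 : F), -1; 1, 0] * Matrix.adjugate !![(1 : F), t; 0, 1] = _
  rw [Matrix.adjugate_fin_two_of]
  ext i j
  fin_cases i <;> fin_cases j <;> simp [Matrix.mul_apply, Fin.sum_univ_two] <;> ring

/-- An additive map commuting with `SL₂(F)'` on the natural module is a scalar. -/
theorem exists_scalar_of_commute (h3 : (3 : F) = 0) (f : V2 →+ V2)
    (h : ∀ g ∈ commutator SL2, ∀ v : V2,
      f ((g : Matrix (Fin 2) (Fin 2) F).mulVec v) = (g : Matrix (Fin 2) (Fin 2) F).mulVec (f v)) :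
    ∃ c : F, ∀ v, f v = c • v := by
  have hv : ∀ v : V2, v = ![v 0, v 1] := fun v => by ext i; fin_cases i <;> simp
  -- the quarter turn
  have hrot : ∀ a b : F, f ![-b, a] = ![-(f ![a, b] 1), f ![a, b] 0] := by
    intro a b
    obtain ⟨g, hg, hgM⟩ := rot_mem (F := F) h3
    have := h g hg ![a, b]
    rw [hgM] at this
    convert this using 1
    · congr 1; ext i; fin_cases i <;> simp [Matrix.mulVec, dotProduct, Fin.sum_univ_two]
    · ext i; fin_cases i <;> simp [Matrix.mulVec, dotProduct, Fin.sum_univ_two]
  -- the difference of two quarter turns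
  have hD : ∀ t a b : F, f ![t * a - t * t * b, -(t * b)] =
      ![t * f ![a, b] 0 - t * t * f ![a, b] 1, -(t * f ![a, b] 1)] := by
    intro t a b
    obtain ⟨g, hg, hgM⟩ := tilt_mem (F := F) h3 t
    have h1 := h g hg ![a, b]
    rw [hgM] at h1
    have e1 : (![t * a - t * t * b, -(t * b)] : V2) =
        (!![t, -1 - t * t; 1, -t]).mulVec ![a, b] - ![-b, a] := by
      ext i; fin_cases i <;> simp [Matrix.mulVec, dotProduct, Fin.sum_univ_two] <;> ring
    rw [e1, map_sub, h1, hrot]
    ext i; fin_cases i <;> simp [Matrix.mulVec, dotProduct, Fin.sum_univ_two] <;> ring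
  have hN2 : ∀ t a b : F, f ![t * t * b, 0] = ![t * t * f ![a, b] 1, 0] := by
    intro t a b
    have e : (![t * t * b, 0] : V2) =
        ![t * a - t * t * b, -(t * b)] + ![(-t) * a - (-t) * (-t) * b, -((-t) * b)] := by
      ext i; fin_cases i <;> simp <;> linear_combination (t * t * b) * h3
    rw [e, map_add, hD, hD]
    ext i; fin_cases i <;> simp <;> linear_combination (-(t * t * f ![a, b] 1)) * h3
  have hN : ∀ s a b : F, f ![s * b, 0] = ![s * f ![a, b] 1, 0] := by
    intro s a b
    have e : (![s * b, 0] : V2) = ![(s + 1) * (s + 1) * b, 0] - ![(s - 1) * (s - 1) * b, 0] := by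
      ext i; fin_cases i <;> simp <;> linear_combination (-(s * b)) * h3
    rw [e, map_sub, hN2 (s + 1) a b, hN2 (s - 1) a b]
    ext i; fin_cases i <;> simp <;> linear_combination (s * f ![a, b] 1) * h3
  have h0 : ∀ x : F, f ![x, 0] 1 = 0 := by
    intro x
    have h1 := congrFun (hN 1 x 0) 0
    have hz : (![(0 : F), 0] : V2) = 0 := by ext i; fin_cases i <;> rfl
    simpa [hz] using h1.symm
  set c := f ![1, 0] 0 with hc
  have hx : ∀ x : F, f ![x, 0] = ![x * c, 0] := by
    intro x
    have h1 := hD x 1 0
    have h10 := h0 1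
    simp only [mul_zero, mul_one, sub_zero, neg_zero] at h1
    rw [h1, h10]
    simp [hc]
  have hy : ∀ y : F, f ![0, y] = ![0, y * c] := by
    intro y
    have h1 := hrot y 0
    rw [hx, neg_zero] at h1
    simpa using h1
  refine ⟨c, fun v => ?_⟩
  have e : v = ![v 0, 0] + ![0, v 1] := by ext i; fin_cases i <;> simp
  conv_lhs => rw [e, map_add, hx, hy]
  ext i; fin_cases i <;> simp [mul_comm]

/-- An additive bijection normalising the action of `SL₂(F)'` is semilinear. -/
theorem exists_ringEquiv_of_normalizing [Finite F] (h3 : (3 : F) = 0) (a : V2 ≃+ V2)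
    (h : ∀ g ∈ commutator SL2, ∃ g' ∈ commutator SL2, ∀ v : V2,
      a ((g : Matrix (Fin 2) (Fin 2) F).mulVec v) = (g' : Matrix (Fin 2) (Fin 2) F).mulVec (a v)) :
    ∃ σ : F ≃+* F, ∀ (c : F) (v : V2), a (c • v) = σ c • a v := by
  have key : ∀ c : F, ∃ d : F, ∀ v : V2, c • a v = a (d • v) := by
    intro c
    obtain ⟨d, hd⟩ := exists_scalar_of_commute h3
      (a.symm.toAddMonoidHom.comp ((DistribSMul.toAddMonoidHom V2 c).comp a.toAddMonoidHom)) (by
      intro g hg v
      obtain ⟨g', -, hg'⟩ := h g hg
      show a.symm (c • a _) = _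
      rw [hg', ← Matrix.mulVec_smul, AddEquiv.symm_apply_eq, hg']
      congr 1
      exact (a.apply_symm_apply _).symm)
    refine ⟨d, fun v => ?_⟩
    have := hd v
    change a.symm (c • a v) = d • v at this
    rwa [AddEquiv.symm_apply_eq] at this
  choose τ hτ using key
  obtain ⟨v, hv⟩ := exists_ne (0 : V2)
  have huniq : ∀ d d' : F, a (d • v) = a (d' • v) → d = d' := fun d d' e =>
    smul_left_injective F hv (a.injective e)
  let τh : F →+* F :=
    { toFun := τ
      map_one' := huniq _ _ (by rw [← hτ, one_smul, one_smul])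
      map_mul' := fun c d => huniq _ _ (by rw [← hτ, mul_smul, hτ, hτ, mul_smul, smul_comm])
      map_zero' := huniq _ _ (by rw [← hτ, zero_smul, zero_smul, map_zero])
      map_add' := fun c d => huniq _ _ (by rw [← hτ, add_smul, hτ, hτ, add_smul, map_add]) }
  let σ := (RingEquiv.ofBijective τh (Finite.injective_iff_bijective.mp τh.injective)).symm
  refine ⟨σ, fun c w => ?_⟩
  have : τh (σ c) = c :=
    (RingEquiv.ofBijective τh (Finite.injective_iff_bijective.mp τh.injective)).apply_symm_apply c
  rw [hτ (σ c) w]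
  exact congrArg (fun x => a (x • w)) this.symm

section Unipotent

/-- A two-by-two matrix whose iterated cube is the identity is quadratic unipotent. -/
theorem sub_one_sq_eq_zero [CharP F 3] {M : Matrix (Fin 2) (Fin 2) F} {k : ℕ}
    (h : M ^ 3 ^ k = 1) : (M - 1) * (M - 1) = 0 := by
  haveI : Fact (Nat.Prime 3) := ⟨Nat.prime_three⟩
  set N := M - 1 with hN
  have hnil : N ^ 3 ^ k = 0 := by
    rw [hN, sub_pow_char_pow_of_commute 3 k (Commute.one_right M), h, one_pow, sub_self]
  have hch : N * N = N.trace • N - N.det • (1 : Matrix (Fin 2) (Fin 2) F) := by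
    ext i j
    fin_cases i <;> fin_cases j <;>
      simp [Matrix.mul_apply, Fin.sum_univ_two, Matrix.trace_fin_two, Matrix.det_fin_two] <;> ring
  have hdet : N.det = 0 := by
    have h1 := congrArg Matrix.det hnil
    rw [Matrix.det_pow, Matrix.det_zero] at h1
    exact pow_eq_zero_iff (pow_ne_zero k (by norm_num)) |>.mp h1
  rw [hdet, zero_smul, sub_zero] at hch
  by_cases ht : N.trace = 0
  · rw [hch, ht, zero_smul]
  have hpow : ∀ m : ℕ, N ^ (m + 1) = N.trace ^ m • N := by
    intro m
    induction m with
    | zero => simp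
    | succ m ih => rw [pow_succ, ih, Matrix.smul_mul, hch, smul_smul, pow_succ]
  have hN0 : N = 0 := by
    obtain ⟨m, hm⟩ := Nat.exists_eq_succ_of_ne_zero (pow_ne_zero k (by norm_num : (3 : ℕ) ≠ 0))
    rw [hm, hpow] at hnil
    exact (smul_eq_zero.mp hnil).resolve_left (pow_ne_zero _ ht)
  rw [hN0, zero_mul]

/-- A linear map of the natural module of `3`-power order is quadratic unipotent. -/
theorem linear_quadratic [CharP F 3] (f : V2 →ₗ[F] V2) {k : ℕ} (h : ∀ v, f^[3 ^ k] v = v) (v : V2) :
    f (f v - v) = f v - v := by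
  have hk : f ^ 3 ^ k = 1 := LinearMap.ext fun w => by rw [Module.End.pow_apply, h]; rfl
  have hM : LinearMap.toMatrixAlgEquiv' f ^ 3 ^ k = 1 := by rw [← map_pow, hk, map_one]
  have hq := sub_one_sq_eq_zero hM
  rw [← map_one LinearMap.toMatrixAlgEquiv', ← map_sub, ← map_mul, map_eq_zero_iff _
    LinearMap.toMatrixAlgEquiv'.injective] at hq
  have := LinearMap.congr_fun hq v
  simp only [Module.End.mul_apply, LinearMap.sub_apply, Module.End.one_apply,
    LinearMap.zero_apply] at this
  exact sub_eq_zero.mp this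

end Unipotent

section Offender

variable [Finite F]

theorem sq_lt_three_pow : ∀ n : ℕ, n * n < 3 ^ n
  | 0 => by norm_num
  | 1 => by norm_num
  | n + 2 => by
    have := sq_lt_three_pow (n + 1)
    rw [pow_succ]
    nlinarith

/-- An elementary abelian `3`-group of semilinear maps of the natural module which is an offender
consists of linear maps and is no stronger than the index of its fixed points. -/
theorem semilinear_offender [CharP F 3] {A : Type*} [CommGroup A] [Finite A] (a : A → (V2 → V2))
    (hone : a 1 = id) (hmul : ∀ x y, a (x * y) = a x ∘ a y) (hinj : Function.Injective a)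
    (hexp : ∀ x : A, x ^ 3 = 1)
    (hsemi : ∀ x, ∃ σ : F ≃+* F, (∀ u v, a x (u + v) = a x u + a x v) ∧
      ∀ (c : F) (v : V2), a x (c • v) = σ c • a x v)
    (hoff : Nat.card V2 ≤ Nat.card A * Nat.card {v : V2 // ∀ x, a x v = v}) :
    (∀ x (c : F) (v : V2), a x (c • v) = c • a x v) ∧
      Nat.card A * Nat.card {v : V2 // ∀ x, a x v = v} ≤ Nat.card V2 := by
  classical
  haveI : Fintype F := Fintype.ofFinite F
  letI : Algebra (ZMod 3) F := ZMod.algebra F 3
  obtain ⟨n, hn3, hq⟩ := FiniteField.card F 3
  set q := Nat.card F with hqdef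
  have hqn : q = 3 ^ (n : ℕ) := by rw [hqdef, Nat.card_eq_fintype_card, hq]
  have hq3 : (3 : ℕ) ≤ q := by
    rw [hqn]; exact le_self_pow₀ (by norm_num) n.ne_zero
  have hV : Nat.card V2 = q * q := by rw [Nat.card_fun]; simp [sq, hqdef]
  choose σ hadd hσ using hsemi
  have hcomm : ∀ x y v, a x (a y v) = a y (a x v) := fun x y v => by
    have := congrFun (congrArg a (mul_comm x y)) v
    rwa [hmul, hmul] at this
  -- the automorphism of scalars
  obtain ⟨v₀, hv₀⟩ := exists_ne (0 : V2)
  have ha0 : ∀ x v, a x v = 0 → v = 0 := by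
    intro x v h
    have h1 : a x⁻¹ (a x v) = v := by
      have := congrFun (hmul x⁻¹ x) v
      rw [inv_mul_cancel, hone] at this
      exact this.symm
    rw [← h1, h]
    have := hadd x⁻¹ 0 0
    rw [add_zero] at this
    exact left_eq_add.mp this
  let algA : A → (F ≃ₐ[ZMod 3] F) := fun x =>
    AlgEquiv.ofRingEquiv (f := σ x) fun r => by
      have h1 : ((σ x).toRingHom.comp (algebraMap (ZMod 3) F)) = algebraMap (ZMod 3) F :=
        Subsingleton.elim _ _
      exact RingHom.congr_fun h1 r
  let lin : Subgroup A :=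
    { carrier := {x | ∀ (c : F) (v : V2), a x (c • v) = c • a x v}
      one_mem' := fun c v => by simp [hone]
      mul_mem' := fun {x y} hx hy c v => by
        simp only [hmul, Function.comp_apply]; rw [hy c v, hx c]
      inv_mem' := fun {x} hx c v => by
        have hid : ∀ w, a x⁻¹ (a x w) = w := fun w => by
          have := congrFun (hmul x⁻¹ x) w
          rw [inv_mul_cancel, hone] at this
          exact this.symm
        have hid' : ∀ w, a x (a x⁻¹ w) = w := fun w => by rw [hcomm]; exact hid w
        conv_lhs => rw [← hid' v, ← hx c, hid] }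
  have hidx : Nat.card A ≤ n * Nat.card lin := by
    rw [← lin.card_mul_index, mul_comm (n : ℕ)]
    refine Nat.mul_le_mul_left _ ?_
    haveI : Module.Finite (ZMod 3) F := Module.Finite.of_finite
    have hfr : Module.finrank (ZMod 3) F = n := by
      have h1 := Module.card_eq_pow_finrank (K := ZMod 3) (V := F)
      rw [hq, ZMod.card] at h1
      exact (Nat.pow_right_injective (le_refl 2 |>.trans (by norm_num)) h1).symm
    rw [Subgroup.index, ← hfr]
    refine le_trans ?_ ((Nat.card_eq_fintype_card (α := F ≃ₐ[ZMod 3] F)).le.trans AlgEquiv.card_le)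
    refine Nat.card_le_card_of_injective (fun q => algA q.out) fun q q' hqq => ?_
    have hs : ∀ c, σ q.out c = σ q'.out c := fun c => AlgEquiv.congr_fun hqq c
    refine (QuotientGroup.out_eq' q).symm.trans (Eq.trans ?_ (QuotientGroup.out_eq' q'))
    refine QuotientGroup.eq.mpr fun c v => ?_
    set x := q.out
    set y := q'.out
    have hid' : ∀ w, a x (a x⁻¹ w) = w := fun w => by
      have := congrFun (hmul x x⁻¹) w
      rw [mul_inv_cancel, hone] at this
      exact this.symm
    rw [hmul]
    show a x⁻¹ (a y (c • v)) = c • a x⁻¹ (a y v)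
    rw [hσ y]
    conv_lhs => rw [← hid' (a y v), ← hs, ← hσ x]
    have hid : ∀ w, a x⁻¹ (a x w) = w := fun w => by rw [hcomm]; exact hid' w
    rw [hid]
  -- the fixed points
  set C0 := {v : V2 // ∀ x, a x v = v}
  have hlineq : ∀ x : A, x ∉ lin → Nat.card C0 * Nat.card C0 ≤ q * q ∧
      ∀ u : V2, (∀ v, (∀ y, a y v = v) → ∃ t : F, v = t • u) → Nat.card C0 * Nat.card C0 ≤ q := by
    intro x hx
    obtain ⟨c, hc⟩ : ∃ c, σ x c ≠ c := by
      by_contra hall
      push Not at hall
      exact hx fun c v => by rw [hσ, hall]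
    have hinj2 : Function.Injective fun vw : C0 × C0 => (vw.1 : V2) + c • (vw.2 : V2) := by
      rintro ⟨⟨v, hv⟩, ⟨w, hw⟩⟩ ⟨⟨v', hv'⟩, ⟨w', hw'⟩⟩ he
      change v + c • w = v' + c • w' at he
      have h1 : v - v' = c • (w' - w) := by rw [smul_sub]; linear_combination (norm := module) he
      have h2 := congrArg (a x) h1
      have hsub : ∀ p r, a x (p - r) = a x p - a x r := fun p r => by
        have := hadd x (p - r) r
        rw [sub_add_cancel] at this
        rw [this, add_sub_cancel_right]
      rw [hsub, hv, hv', hσ, hsub, hw', hw] at h2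
      have h3 : (c - σ x c) • (w' - w) = 0 := by rw [sub_smul, ← h1, ← h2, sub_self]
      rcases smul_eq_zero.mp h3 with h | h
      · exact absurd (sub_eq_zero.mp h).symm hc
      have hww : w' = w := sub_eq_zero.mp h
      subst hww
      have : v = v' := add_right_cancel he
      subst this
      rfl
    refine ⟨?_, fun u hu => ?_⟩
    · rw [← Nat.card_prod, ← hV]
      exact Nat.card_le_card_of_injective _ hinj2
    · rw [← Nat.card_prod, hqdef]
      have hex : ∀ vw : C0 × C0, ∃ t : F, (vw.1 : V2) + c • (vw.2 : V2) = t • u := fun vw => by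
        obtain ⟨t, ht⟩ := hu _ vw.1.2
        obtain ⟨s, hs⟩ := hu _ vw.2.2
        exact ⟨t + c * s, by rw [ht, hs, add_smul, mul_smul]⟩
      choose t ht using hex
      refine Nat.card_le_card_of_injective t fun p r h => hinj2 ?_
      simp only [ht, h]
  -- nontrivial linear elements share one fixed line
  have hquad : ∀ x ∈ lin, ∀ v, a x (a x v - v) = a x v - v := by
    intro x hx v
    let f : V2 →ₗ[F] V2 :=
      { toFun := a x, map_add' := hadd x, map_smul' := fun c w => hx c w }
    refine linear_quadratic f (k := 1) (fun w => ?_) v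
    show (a x)^[3] w = w
    have := congrFun (congrArg a (hexp x)) w
    rw [hone, pow_succ, pow_two, hmul, hmul] at this
    exact this
  have hline : (∃ x ∈ lin, x ≠ 1) → ∃ u : V2, (∀ v, (∀ y, a y v = v) → ∃ t : F, v = t • u) ∧
      Nat.card lin ≤ q := by
    rintro ⟨x, hx, hx1⟩
    obtain ⟨w, hw⟩ : ∃ w, a x w ≠ w := by
      by_contra hall
      push Not at hall
      exact hx1 (hinj (by rw [hone]; exact funext hall))
    set u := a x w - w with hu
    have hu0 : u ≠ 0 := sub_ne_zero.mpr hw
    have hxu : a x u = u := hquad x hx w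
    have hind : ∀ r s : F, r • u + s • w = 0 → r = 0 ∧ s = 0 := by
      intro r s h
      have h2 := congrArg (a x) h
      rw [hadd, hx r, hx s, hxu] at h2
      have hz : a x 0 = 0 := by
        have := hadd x 0 0; rw [add_zero] at this; exact left_eq_add.mp this
      rw [hz] at h2
      have h3 : s • u = 0 := by
        rw [hu, smul_sub]; linear_combination (norm := module) h2 - h
      have hs := (smul_eq_zero.mp h3).resolve_right hu0
      subst hs
      rw [zero_smul, add_zero] at h
      exact ⟨(smul_eq_zero.mp h).resolve_right hu0, rfl⟩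
    have hspan : ∀ v : V2, ∃ r s : F, v = r • u + s • w := by
      have hbij : Function.Bijective fun rs : F × F => rs.1 • u + rs.2 • w := by
        rw [Nat.bijective_iff_injective_and_card]
        refine ⟨fun p r h => ?_, by rw [Nat.card_prod, hV]⟩
        have := hind (p.1 - r.1) (p.2 - r.2) (by
          simp only [sub_smul]; linear_combination (norm := module) h)
        exact Prod.ext (sub_eq_zero.mp this.1) (sub_eq_zero.mp this.2)
      intro v
      obtain ⟨rs, h⟩ := hbij.2 v
      exact ⟨rs.1, rs.2, h.symm⟩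
    have hfix : ∀ v, a x v = v → ∃ t : F, v = t • u := by
      intro v hv
      obtain ⟨r, s, rfl⟩ := hspan v
      rw [hadd, hx r, hx s, hxu] at hv
      have : s • u = 0 := by rw [hu, smul_sub]; linear_combination (norm := module) hv
      rw [(smul_eq_zero.mp this).resolve_right hu0]
      exact ⟨r, by simp⟩
    refine ⟨u, fun v hv => hfix v (hv x), ?_⟩
    -- each linear element fixes `u` and moves `w` along `u`
    have hyu : ∀ y ∈ lin, a y u = u := by
      intro y hy
      have h1 : a x (a y u) = a y u := by rw [hcomm, hxu]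
      obtain ⟨t, ht⟩ := hfix _ h1
      have h2 := hquad y hy u
      rw [ht, show t • u - u = (t - 1) • u by rw [sub_smul, one_smul], hy, ht] at h2
      have h3 : ((t - 1) * (t - 1)) • u = 0 := by
        rw [mul_smul, show ((t - 1) • u : V2) = t • u - u by rw [sub_smul, one_smul], smul_sub]
        linear_combination (norm := module) h2
      have h4 := (smul_eq_zero.mp h3).resolve_right hu0
      rw [mul_self_eq_zero, sub_eq_zero] at h4
      rw [ht, h4, one_smul]
    have hex : ∀ y : lin, ∃ t : F, a (y : A) w - w = t • u := by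
      intro y
      refine hfix _ ?_
      have hsub : ∀ p r, a x (p - r) = a x p - a x r := fun p r => by
        have := hadd x (p - r) r
        rw [sub_add_cancel] at this
        rw [this, add_sub_cancel_right]
      have e : a x w = w + u := by rw [hu, add_sub_cancel]
      rw [hsub, hcomm, e, hadd, hyu _ y.2]
      abel
    choose t ht using hex
    rw [hqdef]
    refine Nat.card_le_card_of_injective t fun y y' h => Subtype.ext (hinj (funext fun v => ?_))
    obtain ⟨r, s, rfl⟩ := hspan v
    have : a (y : A) w = a (y' : A) w := by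
      have := (ht y).trans ((congrArg (· • u) h).trans (ht y').symm)
      exact sub_left_inj.mp this
    rw [hadd, hadd, y.2 r, y.2 s, y'.2 r, y'.2 s, hyu _ y.2, hyu _ y'.2, this]
  rw [hV] at hoff ⊢
  have hlin : lin = ⊤ := by
    by_contra hne
    obtain ⟨x, hx⟩ : ∃ x, x ∉ lin := by
      by_contra h
      push Not at h
      exact hne ((eq_top_iff' _).mpr h)
    obtain ⟨hc2, hc1⟩ := hlineq x hx
    have hn9 := sq_lt_three_pow (n : ℕ)
    rw [← hqn] at hn9
    by_cases hex : ∃ y ∈ lin, y ≠ 1
    · obtain ⟨u, hu, hcard⟩ := hline hex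
      have hc := hc1 u hu
      -- `q² ≤ n q |C₀|` and `|C₀|² ≤ q`
      have h1 : q * q ≤ n * q * Nat.card C0 :=
        hoff.trans (Nat.mul_le_mul_right _ (hidx.trans (Nat.mul_le_mul_left _ hcard)))
      have h2 : q ≤ n * Nat.card C0 := by nlinarith
      have h3 : q * q ≤ (n : ℕ) * n * q := by
        calc q * q ≤ (n * Nat.card C0) * (n * Nat.card C0) := Nat.mul_le_mul h2 h2
          _ = n * n * (Nat.card C0 * Nat.card C0) := by ring
          _ ≤ n * n * q := Nat.mul_le_mul_left _ hc
      nlinarith
    · push Not at hex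
      have hbot : Nat.card lin = 1 := by
        rw [Nat.card_eq_one_iff_unique]
        exact ⟨⟨fun p r => Subtype.ext ((hex _ p.2).trans (hex _ r.2).symm)⟩, ⟨1⟩⟩
      rw [hbot, mul_one] at hidx
      have h1 : q * q ≤ n * Nat.card C0 := hoff.trans (Nat.mul_le_mul_right _ hidx)
      have hcq : Nat.card C0 ≤ q := Nat.mul_self_le_mul_self_iff.mp hc2
      have : q * q ≤ n * q := h1.trans (Nat.mul_le_mul_left _ hcq)
      nlinarith
  refine ⟨fun x => (show x ∈ lin from hlin.symm ▸ mem_top x), ?_⟩
  by_cases hex : ∃ y ∈ lin, y ≠ 1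
  · obtain ⟨u, hu, hcard⟩ := hline hex
    refine Nat.mul_le_mul ?_ ?_
    · rwa [hlin, Subgroup.card_top] at hcard
    · rw [hqdef]
      choose t ht using fun v : C0 => hu _ v.2
      refine Nat.card_le_card_of_injective t fun v w h => Subtype.ext ?_
      rw [ht v, ht w, h]
  · push Not at hex
    have : Nat.card A = 1 := by
      rw [Nat.card_eq_one_iff_unique]
      exact ⟨⟨fun p r => (hex p (hlin.symm ▸ mem_top p)).trans
        (hex r (hlin.symm ▸ mem_top r)).symm⟩, ⟨1⟩⟩
    rw [this, one_mul, ← hV]
    exact Nat.card_le_card_of_injective _ Subtype.val_injective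

end Offender

end CfsgLib.BlockNormal85
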