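import Cfsg.Agent.BlockNormal85.Main

/-!
# A block is normalised by the centraliser of its module
-/

namespace CfsgLib.BlockNormal85

open Subgroup Cfsg
open scoped commutatorElement

variable {G : Type*} [Group G] [Finite G] {p : ℕ} [Fact p.Prime]

/-- When `O_p(G)` reaches the block only inside `W`, the block is normalised by `C(W_E)`. -/
theorem centralizer_le_normalizer_of_small (hG : centralizer (pCore p G : Set G) ≤ pCore p G)
    (T : Sylow p G) {E : Subgroup G} (hE : IsBaumannBlock p (T : Subgroup G) E)
    (hsmall : ⁅pCore p G, E⁆ ≤ omegaOneCenter p (pCoreOf p E)) :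
    centralizer ((⁅omegaOneCenter p (pCoreOf p E), E⁆ : Subgroup G) : Set G) ≤
      normalizer (E : Set G) := by
  haveI := LocalStructure.pCore_normal (p := p) (G := G)
  set R := pCore p G
  set W := omegaOneCenter p (pCoreOf p E)
  have hres := LocalEven50.pResOf_block hE
  have hER : E ≤ normalizer (R : Set G) := by rw [normalizer_eq_top]; exact le_top
  have hRE : R ≤ normalizer (E : Set G) := (LocalEven50.block_module hG T hE).1
  have hEW : E ≤ normalizer (W : Set G) := (LocalStructure.le_normalizer_pCoreOf E).trans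
    (LocalEven50.normalizer_le_normalizer_omegaOneCenter _)
  have hRp : IsPGroup p R := LocalStructure.pCore_isPGroup
  have hRW : R ≤ normalizer (W : Set G) :=
    (hRE.trans (LocalStructure.normalizer_le_normalizer_pCoreOf E)).trans
      (LocalEven50.normalizer_le_normalizer_omegaOneCenter _)
  have hBE := LocalEven50.baumann_le_normalizer_block hE
  have hBW : baumannSubgroupOf p (T : Subgroup G) ≤ normalizer (W : Set G) :=
    (hBE.trans (LocalStructure.normalizer_le_normalizer_pCoreOf E)).trans
      (LocalEven50.normalizer_le_normalizer_omegaOneCenter _)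
  have hN : ∀ A : Subgroup G, A ≤ normalizer (W : Set G) → A ≤ normalizer (E : Set G) →
      A ≤ normalizer ((⁅W, E⁆ : Subgroup G) : Set G) :=
    fun A h1 h2 => (le_inf h1 h2).trans (CharPLocal.inf_normalizer_le_normalizer_commutator W E)
  have hEU := hN E hEW le_normalizer
  have hRWE : ⁅R, E⁆ ≤ ⁅W, E⁆ := by
    rw [← commutator_eq_commutator_commutator hRp hER hres]
    exact commutator_mono hsmall le_rfl
  set C := centralizer ((⁅W, E⁆ : Subgroup G) : Set G)
  have hEC : E ≤ normalizer (C : Set G) :=
    hEU.trans (CharPLocal.normalizer_le_normalizer_centralizer _)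
  have hBC : baumannSubgroupOf p (T : Subgroup G) ≤ normalizer (C : Set G) :=
    (hN _ hBW hBE).trans (CharPLocal.normalizer_le_normalizer_centralizer _)
  refine le_normalizer_of_isPGroup_commutator hG T hE hEC hBC (LocalStructure.pResOf_eq_bot.mp ?_)
  have hC : LocalStructure.pResOf p ⁅E, C⁆ ≤ centralizer (R : Set G) :=
    pResOf_le_centralizer hRp hER (by rw [normalizer_eq_top]; exact le_top) hEC hRWE le_rfl hEU
      (hN R hRW hRE)
  rw [← LocalStructure.pResOf_idem, LocalStructure.pResOf_eq_bot]
  exact hRp.to_le (hC.trans hG)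

/-- A block of a group of characteristic `p` is normalised by `C(W_E)`. -/
theorem block_centralizer_le_normalizer (hG : centralizer (pCore p G : Set G) ≤ pCore p G)
    (T : Sylow p G) {E : Subgroup G} (hE : IsBaumannBlock p (T : Subgroup G) E) :
    centralizer ((⁅omegaOneCenter p (pCoreOf p E), E⁆ : Subgroup G) : Set G) ≤
      normalizer (E : Set G) := by
  haveI := LocalStructure.pCore_normal (p := p) (G := G)
  by_cases hsmall : ⁅pCore p G, E⁆ ≤ omegaOneCenter p (pCoreOf p E)
  · exact centralizer_le_normalizer_of_small hG T hE hsmall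
  have hRQ : ⁅pCore p G, E⁆ ≤ pCoreOf p E := by
    refine LocalStructure.le_pCoreOf ?_ (le_sup_right.trans (Coprime.sup_le_normalizer_commutator _ E))
      (LocalStructure.pCore_isPGroup.to_le
        (Coprime.commutator_le_of_le_normalizer (by rw [normalizer_eq_top]; exact le_top)))
    rw [commutator_comm]
    exact Coprime.commutator_le_of_le_normalizer (LocalEven50.block_module hG T hE).1
  rcases hE.2.2.2.2 with ⟨F, hF, hF', n, hn, hiso, hsec, hlin | ⟨hp3, hsecQ, hQQ, hfr, hZE, -, hnq⟩⟩ |
    ⟨-, m, -, -, hlin⟩
  · exact absurd (hRQ.trans hlin.le) hsmall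
  · subst hp3
    have h : Exc T E F n := ⟨hG, hE, hn, hiso, hsec, hsecQ, hQQ, hfr, hZE, hnq, hsmall⟩
    rw [h.WE_eq]
    exact h.centralizer_le_normalizer
  · exact absurd (hRQ.trans hlin.le) hsmall

end CfsgLib.BlockNormal85
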