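import Cfsg.Agent.BlockNormal85.Blocks
import Cfsg.Agent.JComp.Interface
import Cfsg.Agent.ThompsonWielandt.Basic

/-!
# Blocks are transported by conjugation
-/

set_option linter.style.haveILetI false
set_option linter.unusedSectionVars false

namespace CfsgLib.BlockNormal85

open Subgroup Cfsg
open scoped commutatorElement

variable {G H : Type*} [Group G] [Group H]

theorem map_centralizer_subgroup (e : G ≃* H) (X : Subgroup G) :
    (centralizer (X : Set G)).map e.toMonoidHom = centralizer (X.map e.toMonoidHom : Set H) := by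
  ext y
  obtain ⟨x, rfl⟩ := e.surjective y
  rw [show e x = e.toMonoidHom x from rfl, mem_map_iff_mem (f := e.toMonoidHom) e.injective]
  simp only [mem_centralizer_iff, SetLike.mem_coe, mem_map, forall_exists_index, and_imp,
    forall_apply_eq_imp_iff₂]
  refine forall₂_congr fun a _ => ?_
  simp only [MulEquiv.coe_toMonoidHom, ← map_mul, e.injective.eq_iff]

theorem map_frattini_le_equiv (ψ : G ≃* H) : (frattini G).map ψ.toMonoidHom ≤ frattini H := by
  rw [map_le_iff_le_comap]
  exact frattini_le_comap_frattini_of_surjective ψ.surjective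

theorem map_frattini_subtype (e : G ≃* H) (X : Subgroup G) :
    ((frattini ↥X).map X.subtype).map e.toMonoidHom =
      (frattini ↥(X.map e.toMonoidHom)).map (X.map e.toMonoidHom).subtype := by
  set φ : ↥X ≃* ↥(X.map e.toMonoidHom) :=
    equivMapOfInjective X e.toMonoidHom e.injective with hφ
  have h2 : (frattini ↥X).map φ.toMonoidHom = frattini ↥(X.map e.toMonoidHom) := by
    refine le_antisymm (map_frattini_le_equiv φ) fun y hy => ?_
    exact ⟨φ.symm y, map_frattini_le_equiv φ.symm ⟨y, hy, rfl⟩, φ.apply_symm_apply y⟩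
  rw [← h2, map_map, map_map]
  rfl

theorem map_pResidualOf [Finite G] {p : ℕ} [Fact p.Prime] (e : G ≃* H) (X : Subgroup G) :
    (pResidualOf p X).map e.toMonoidHom = pResidualOf p (X.map e.toMonoidHom) := by
  rw [show pResidualOf p X = LocalStructure.pResOf p X from LocalStructure.map_pResidual _,
    show pResidualOf p (X.map e.toMonoidHom) = LocalStructure.pResOf p (X.map e.toMonoidHom) from
      LocalStructure.map_pResidual _]
  exact LocalStructure.map_pResOf _ X

theorem mem_map_apply_iff (e : G ≃* H) (X : Subgroup G) (x : G) :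
    e x ∈ X.map e.toMonoidHom ↔ x ∈ X :=
  mem_map_iff_mem (f := e.toMonoidHom) e.injective

theorem actsAsSL2_map (e : G ≃* H) {F : Type*} [Field F]
    {R : Subgroup (Matrix.SpecialLinearGroup (Fin 2) F)} {E U U₀ : Subgroup G}
    (h : ActsAsSL2OnSection F R E U U₀) :
    ActsAsSL2OnSection F R (E.map e.toMonoidHom) (U.map e.toMonoidHom)
      (U₀.map e.toMonoidHom) := by
  obtain ⟨hn, h0, ρ, ψ, hρ, hψ, hker, hact⟩ := h
  set a := equivMapOfInjective E e.toMonoidHom e.injective
  set b := equivMapOfInjective U e.toMonoidHom e.injective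
  refine ⟨(map_mono hn).trans (map_normalizer_eq_of_bijective (f := e.toMonoidHom) U e.bijective).le,
    map_mono h0, ρ.comp a.symm.toMonoidHom, ψ.comp b.symm.toMonoidHom, ?_, ?_, ?_, ?_⟩
  · rw [MonoidHom.range_comp, MonoidHom.range_eq_top_of_surjective _ a.symm.surjective,
      ← MonoidHom.range_eq_map, hρ]
  · exact hψ.comp b.symm.surjective
  · intro u
    obtain ⟨v, rfl⟩ := b.surjective u
    show ψ (b.symm (b v)) = 1 ↔ e v ∈ U₀.map e.toMonoidHom
    rw [b.symm_apply_apply, hker, mem_map_apply_iff]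
  · intro x u
    obtain ⟨y, rfl⟩ := a.surjective x
    obtain ⟨v, rfl⟩ := b.surjective u
    obtain ⟨w, hw, hw'⟩ := hact y v
    refine ⟨b w, ?_, ?_⟩
    · show e w = e y * e v * (e y)⁻¹
      rw [hw, map_mul, map_mul, map_inv]
    · show _ = _
      simp only [MonoidHom.comp_apply, MulEquiv.coe_toMonoidHom, b.symm_apply_apply,
        a.symm_apply_apply]
      exact hw'

theorem actsAsPerm_map (e : G ≃* H) {n : ℕ} {R : Subgroup (Equiv.Perm (Fin n))}
    {E U U₀ : Subgroup G} (h : ActsAsOddPermModuleOnSection n R E U U₀) :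
    ActsAsOddPermModuleOnSection n R (E.map e.toMonoidHom) (U.map e.toMonoidHom)
      (U₀.map e.toMonoidHom) := by
  obtain ⟨hn, h0, ρ, ψ, hρ, hsum, hψ, hker, hact⟩ := h
  set a := equivMapOfInjective E e.toMonoidHom e.injective
  set b := equivMapOfInjective U e.toMonoidHom e.injective
  refine ⟨(map_mono hn).trans (map_normalizer_eq_of_bijective (f := e.toMonoidHom) U e.bijective).le,
    map_mono h0, ρ.comp a.symm.toMonoidHom, ψ.comp b.symm.toMonoidHom, ?_,
    fun u => hsum (b.symm u), ?_, ?_, ?_⟩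
  · rw [MonoidHom.range_comp, MonoidHom.range_eq_top_of_surjective _ a.symm.surjective,
      ← MonoidHom.range_eq_map, hρ]
  · intro v hv
    obtain ⟨u, hu⟩ := hψ v hv
    exact ⟨b u, (congrArg (fun x => Multiplicative.toAdd (ψ x)) (b.symm_apply_apply u)).trans hu⟩
  · intro u
    obtain ⟨v, rfl⟩ := b.surjective u
    show ψ (b.symm (b v)) = 1 ↔ e v ∈ U₀.map e.toMonoidHom
    rw [b.symm_apply_apply, hker, mem_map_apply_iff]
  · intro x u
    obtain ⟨y, rfl⟩ := a.surjective x
    obtain ⟨v, rfl⟩ := b.surjective u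
    obtain ⟨w, hw, hw'⟩ := hact y v
    refine ⟨b w, ?_, ?_⟩
    · show e w = e y * e v * (e y)⁻¹
      rw [hw, map_mul, map_mul, map_inv]
    · simp only [MonoidHom.comp_apply, MulEquiv.coe_toMonoidHom, b.symm_apply_apply,
        a.symm_apply_apply]
      exact hw'

variable [Finite G] [Finite H] {p : ℕ} [Fact p.Prime]

theorem quotient_pCore_map (e : G ≃* H) (E : Subgroup G) :
    Nonempty (↥(E.map e.toMonoidHom) ⧸ pCore p ↥(E.map e.toMonoidHom) ≃* ↥E ⧸ pCore p ↥E) := by
  haveI : (pCore p ↥E).Normal := LocalStructure.pCore_normal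
  haveI : (pCore p ↥(E.map e.toMonoidHom)).Normal := LocalStructure.pCore_normal
  exact ⟨(QuotientGroup.congr _ _ (equivMapOfInjective E e.toMonoidHom e.injective)
    (ThompsonWielandt.map_pCore_equiv p _)).symm⟩

/-- A block stays a block under an isomorphism. -/
theorem isBaumannBlock_map (e : G ≃* H) {T E : Subgroup G} (hE : IsBaumannBlock p T E) :
    IsBaumannBlock p (T.map e.toMonoidHom) (E.map e.toMonoidHom) := by
  set f := e.toMonoidHom with hfdef
  have hf : Function.Injective f := e.injective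
  have hQ : pCoreOf p (E.map f) = (pCoreOf p E).map f := (JComp.map_pCoreOf e p E).symm
  have hW : omegaOneCenter p (pCoreOf p (E.map f)) = (omegaOneCenter p (pCoreOf p E)).map f := by
    rw [hQ, LocalEven50.map_omegaOneCenter hf]
  have hC : centralizer ((E.map f : Subgroup H) : Set H) = (centralizer (E : Set G)).map f :=
    (map_centralizer_subgroup e E).symm
  have hZ : omegaOneCenter p (pCoreOf p (E.map f)) ⊓ centralizer ((E.map f : Subgroup H) : Set H) =
      (omegaOneCenter p (pCoreOf p E) ⊓ centralizer (E : Set G)).map f := by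
    rw [hW, hC, map_inf _ _ f hf]
  obtain ⟨h1, h2, h3, h4, h5⟩ := hE
  obtain ⟨q⟩ := quotient_pCore_map (p := p) e E
  refine ⟨?_, ?_, ?_, ?_, ?_⟩
  · conv_rhs => rw [← h1]
    exact (map_pResidualOf e E).symm
  · rw [← LocalEven50.map_baumannSubgroupOf hf, ← map_commutator, h2]
  · rw [hQ, ← map_commutator, h3]
  · rw [← LocalEven50.map_omegaOneCenter hf, ← map_commutator]
    exact fun h => h4 ((Subgroup.map_eq_bot_iff_of_injective _ hf).mp h)
  rcases h5 with ⟨F, iF, iF', n, hn, ⟨iso⟩, hsec, hlin⟩ | ⟨hp2, m, ⟨iso⟩, hsec, hlin⟩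
  · refine Or.inl ⟨F, iF, iF', n, hn, ⟨q.trans iso⟩, ?_, ?_⟩
    · rw [hZ, hW]; exact actsAsSL2_map e hsec
    rcases hlin with hlin | ⟨hp3, hsQ, hQQ, hfr, hZE, hcard, hnq⟩
    · exact Or.inl (by rw [hW, hQ, ← hlin])
    refine Or.inr ⟨hp3, ?_, ?_, ?_, ?_, ?_, ?_⟩
    · rw [hW, hQ]; exact actsAsSL2_map e hsQ
    · rw [hZ, hQ, ← map_commutator, hQQ]
    · rw [hZ, ← hfr, hQ, map_frattini_subtype e]
    · rw [hZ, hC, ← map_inf _ _ f hf, hZE]
    · rw [hC, ← map_inf _ _ f hf, card_map_of_injective hf, hcard]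
    · intro b hb hbW
      rw [← LocalEven50.map_baumannSubgroupOf hf] at hb
      obtain ⟨a, ha, rfl⟩ := hb
      rw [hW, ← map_centralizer_subgroup e] at hbW
      rw [hQ, hC, ← map_inf _ _ f hf, ← MonoidHom.map_zpowers, ← map_commutator,
        ← map_commutator, map_le_map_iff_of_injective hf]
      exact hnq a ha fun h => hbW ⟨a, h, rfl⟩
  · refine Or.inr ⟨hp2, m, ⟨q.trans iso⟩, ?_, ?_⟩
    · rw [hZ, hW]; exact actsAsPerm_map e hsec
    · rw [hW, hQ, ← hlin]

/-- A conjugate of a block is a block. -/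
theorem IsBlockOf.conj {E : Subgroup G} (h : IsBlockOf p E) (g : G) :
    IsBlockOf p (E.map (MulAut.conj g).toMonoidHom) := by
  obtain ⟨T, hT⟩ := h.ex
  refine ⟨h.charP, g • T, ?_⟩
  have e : ((g • T : Sylow p G) : Subgroup G) =
      (T : Subgroup G).map (MulAut.conj g).toMonoidHom := rfl
  rw [e]
  exact isBaumannBlock_map (MulAut.conj g) hT

end CfsgLib.BlockNormal85
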