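import Cfsg.Agent.BlockNormal85.Commute
import Cfsg.Agent.BlockNormal85.Transport

/-!
# Subnormal blocks are equal or commute
-/

set_option linter.style.haveILetI false
set_option linter.unusedSectionVars false

namespace CfsgLib.BlockNormal85

open Subgroup Cfsg
open scoped commutatorElement

variable {G : Type*} [Group G] [Finite G] {p : ℕ} [hp : Fact p.Prime]

local notation "𝐑" => pCore p G

theorem map_modU_conj (g : G) (E : Subgroup G) :
    (modU p E).map (MulAut.conj g).toMonoidHom =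
      modU p (E.map (MulAut.conj g).toMonoidHom) := by
  rw [map_commutator,
    LocalStructure.conj_map_eq_of_mem_normalizer (le_normalizer_V' ⊤ (mem_top g))]

theorem conj_mem_map {g x : G} {X : Subgroup G} (hx : x ∈ X) :
    g * x * g⁻¹ ∈ X.map (MulAut.conj g).toMonoidHom := ⟨x, hx, rfl⟩

/-- An element of order prime to `p` whose square is non-trivial. -/
theorem exists_coprime_sq_ne (hp3 : p = 2 ∨ p = 3) :
    ∃ g : Matrix.SpecialLinearGroup (Fin 2) (ZMod p), (orderOf g).Coprime p ∧ g ^ 2 ≠ 1 := by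
  rcases hp3 with rfl | rfl
  · obtain ⟨g, h3, h2⟩ := (by decide +kernel :
      ∃ g : Matrix.SpecialLinearGroup (Fin 2) (ZMod 2), g ^ 3 = 1 ∧ g ^ 2 ≠ 1)
    exact ⟨g, Nat.Coprime.of_dvd_left (orderOf_dvd_of_pow_eq_one h3) (by decide), h2⟩
  · obtain ⟨g, h8, h2⟩ := (by decide +kernel :
      ∃ g : Matrix.SpecialLinearGroup (Fin 2) (ZMod 3), g ^ 8 = 1 ∧ g ^ 2 ≠ 1)
    exact ⟨g, Nat.Coprime.of_dvd_left (orderOf_dvd_of_pow_eq_one h8) (by decide), h2⟩

namespace IsBlockOf

variable {E F : Subgroup G}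

theorem eq_of_bar_eq (hE : IsBlockOf p E) (hF : IsBlockOf p F) (h : bar p E = bar p F) :
    E = F := by
  have h1 : E ⊔ 𝐑 = F ⊔ 𝐑 := by
    have := congrArg (comap (QuotientGroup.mk' 𝐑)) h
    rwa [comap_map_eq, comap_map_eq, QuotientGroup.ker_mk'] at this
  rw [← hE.pResOf_sup_R, ← hF.pResOf_sup_R, h1]

/-- A subnormal block that is quasisimple modulo `O_p(G)` commutes with or equals every other. -/
theorem eq_or_commute_of_quasi (hE : IsBlockOf p E) (hEs : E.IsSubnormal) (hF : IsBlockOf p F)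
    (hFs : F.IsSubnormal) (hq : Cfsg.IsQuasisimple ↥(bar p E)) : E = F ∨ ⁅E, F⁆ = ⊥ := by
  have hc : Cfsg.IsComponent (bar p E) := ⟨hE.bar_subnormal hEs, hq⟩
  rcases Components.IsComponent.le_or_commutator_eq_bot hc (hF.bar_subnormal hFs) with hle | hcm
  · left
    rcases hF.quasi_or_small hFs with hqF | hsF
    · exact hE.eq_of_bar_eq hF
        (Components.IsComponent.eq_of_le hc ⟨hF.bar_subnormal hFs, hqF⟩ hle)
    · haveI := hsF.solv
      exact absurd (Components.isSolvable_mono hsF.solv hle)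
        (Components.IsComponent.not_isSolvable hc)
  · right
    have hR : ⁅E, F⁆ ≤ 𝐑 := by
      have h1 : (⁅E, F⁆).map (QuotientGroup.mk' 𝐑) = ⊥ := by rw [map_commutator, hcm]
      rw [Subgroup.map_eq_bot_iff, QuotientGroup.ker_mk'] at h1
      exact h1
    have h1 : E ≤ centralizer (modU p F : Set G) :=
      le_centralizer_U_of_perfect hE hF (hE.perfect_mod hEs hq) hR
    rw [commutator_comm]
    exact hF.commute_of_centralizes hE hFs h1

/-- If all distinct conjugates of a small block commute with it, a small block normalises it. -/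
theorem small_le_normalizer (hE : IsBlockOf p E) (sE : Small p E)
    (sF : Small p F)
    (hconj : ∀ f ∈ F, E.map (MulAut.conj f).toMonoidHom = E ∨
      ⁅E, E.map (MulAut.conj f).toMonoidHom⁆ = ⊥) :
    F ≤ normalizer (E : Set G) := by
  by_contra hnot
  obtain ⟨f₀, hf₀, hf₀E⟩ := Set.not_subset.mp hnot
  set U := modU p E
  set UF := modU p F
  set φ : G → Subgroup G := fun g => U.map (MulAut.conj g).toMonoidHom with hφ
  have hcard : ∀ g, Nat.card (φ g) = Nat.card U := fun g =>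
    card_map_of_injective (MulAut.conj g).injective
  have hφmem : ∀ g x, x ∈ φ g ↔ g⁻¹ * x * g ∈ U := fun g x => by
    constructor
    · rintro ⟨u, hu, rfl⟩; simpa [mul_assoc] using hu
    · exact fun hx => ⟨_, hx, by simp [mul_assoc]⟩
  have hφmul : ∀ a b x, x ∈ φ (a * b) ↔ a⁻¹ * x * a ∈ φ b := fun a b x => by
    rw [hφmem, hφmem]; simp [mul_assoc]
  have hmove : ∀ f ∈ F, φ f ≠ U → E ≤ centralizer (φ f : Set G) := by
    intro f hf hne
    rcases hconj f hf with he | he
    · exact absurd (by rw [hφ]; show U.map _ = U; rw [map_modU_conj, he]) hne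
    · refine (commutator_eq_bot_iff_le_centralizer.mp he).trans (centralizer_le ?_)
      show φ f ≤ E.map (MulAut.conj f).toMonoidHom
      exact map_mono hE.U_le
  have hinf : ∀ f ∈ F, φ f ≠ U → U ⊓ φ f = ⊥ := fun f hf hne => by
    rw [eq_bot_iff, ← sE.fixed]
    exact le_inf inf_le_left (inf_le_right.trans (le_centralizer_iff.mp (hmove f hf hne)))
  have hne₀ : φ f₀ ≠ U := by
    intro he
    rcases hconj f₀ hf₀ with h | h
    · exact hf₀E (mem_normalizer_iff_map_conj_eq.mpr h)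
    · refine hE.U_ne_bot ?_
      rw [← hE.U_idem, commutator_comm, commutator_eq_bot_iff_le_centralizer]
      refine (commutator_eq_bot_iff_le_centralizer.mp h).trans (centralizer_le ?_)
      show U ≤ E.map (MulAut.conj f₀).toMonoidHom
      rw [← he]
      exact map_mono hE.U_le
  -- `u ↦ u⁻¹ u^f` identifies `U` with `U_F`
  have hdiff : ∀ f ∈ F, ∀ u ∈ U, u⁻¹ * (f * u * f⁻¹) ∈ UF := fun f hf u hu => by
    have h1 : ⁅u⁻¹, f⁆ ∈ UF :=
      commutator_mem_commutator (inv_mem (modU_le_V E hu)) hf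
    rw [commutatorElement_def, inv_inv] at h1
    convert h1 using 1; group
  have hUF : ∀ x ∈ UF, ∃ u ∈ U, u⁻¹ * (f₀ * u * f₀⁻¹) = x := by
    let ψ : ↥U → ↥UF := fun u => ⟨_, hdiff f₀ hf₀ u u.2⟩
    have hinj : Function.Injective ψ := by
      intro u w huw
      have e : (u : G)⁻¹ * (f₀ * u * f₀⁻¹) = (w : G)⁻¹ * (f₀ * w * f₀⁻¹) :=
        congrArg Subtype.val huw
      have h1 : (w : G) * (u : G)⁻¹ = (f₀ * w * f₀⁻¹) * (f₀ * u * f₀⁻¹)⁻¹ := by
        calc (w : G) * (u : G)⁻¹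
            = w * ((u : G)⁻¹ * (f₀ * u * f₀⁻¹)) * (f₀ * u * f₀⁻¹)⁻¹ := by group
          _ = _ := by rw [e]; group
      have h2 : (w : G) * (u : G)⁻¹ ∈ U ⊓ φ f₀ := ⟨Subgroup.mul_mem _ w.2 (Subgroup.inv_mem _ u.2), by
        rw [h1]; exact Subgroup.mul_mem _ (conj_mem_map w.2) (Subgroup.inv_mem _ (conj_mem_map u.2))⟩
      rw [hinf f₀ hf₀ hne₀, mem_bot, mul_inv_eq_one] at h2
      exact Subtype.ext h2.symm
    have hbij := (Nat.bijective_iff_injective_and_card ψ).mpr
      ⟨hinj, sE.card_U.trans sF.card_U.symm⟩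
    intro x hx
    obtain ⟨u, hu⟩ := hbij.2 ⟨x, hx⟩
    exact ⟨u, u.2, congrArg Subtype.val hu⟩
  have hUFU : U ⊓ UF = ⊥ := by
    rw [eq_bot_iff]
    rintro x ⟨hxU, hxF⟩
    obtain ⟨u, hu, rfl⟩ := hUF x hxF
    have h1 : f₀ * u * f₀⁻¹ ∈ U ⊓ φ f₀ := by
      refine ⟨?_, conj_mem_map hu⟩
      simpa using mul_mem hu hxU
    rw [hinf f₀ hf₀ hne₀, mem_bot, conj_eq_one_iff] at h1
    rw [h1]; simp
  -- the orbit of `U` has two members
  have horbit : ∀ f ∈ F, φ f = U ∨ φ f = φ f₀ := by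
    intro f hf
    by_cases hne : φ f = U
    · exact Or.inl hne
    refine Or.inr (eq_of_le_of_card_ge ?_ (by rw [hcard, hcard]))
    rintro x ⟨u, hu, rfl⟩
    obtain ⟨w, hw, hw'⟩ := hUF _ (hdiff f hf u hu)
    have hx : f * u * f⁻¹ = (u * w⁻¹) * (f₀ * w * f₀⁻¹) := by
      calc f * u * f⁻¹ = u * (u⁻¹ * (f * u * f⁻¹)) := by group
        _ = _ := by rw [← hw']; group
    have hA : u * w⁻¹ ∈ centralizer (E : Set G) := by
      refine mem_centralizer_iff.mpr fun e he => ?_
      have c1 : Commute e (f * u * f⁻¹) :=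
        (mem_centralizer_iff.mp (hmove f hf hne he) _ (conj_mem_map hu)).symm
      have c2 : Commute e (f₀ * w * f₀⁻¹) :=
        (mem_centralizer_iff.mp (hmove f₀ hf₀ hne₀ he) _ (conj_mem_map hw)).symm
      rw [show u * w⁻¹ = f * u * f⁻¹ * (f₀ * w * f₀⁻¹)⁻¹ by rw [hx]; group]
      exact c1.mul_right c2.inv_right
    have h1 : u * w⁻¹ ∈ U ⊓ centralizer (E : Set G) := ⟨Subgroup.mul_mem _ hu (Subgroup.inv_mem _ hw), hA⟩
    rw [sE.fixed, mem_bot] at h1
    show f * u * f⁻¹ ∈ φ f₀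
    rw [hx, h1, one_mul]
    exact conj_mem_map hw
  have hfix : ∀ f ∈ F, φ (f * f) = U := by
    intro f hf
    by_cases h1 : φ f = U
    · ext x
      rw [hφmul, h1, ← hφmem, h1]
    refine (horbit _ (mul_mem hf hf)).resolve_right fun h2 => h1 ?_
    have h3 : φ f = φ (f * f) := by rw [h2]; exact (horbit f hf).resolve_left h1
    ext x
    have := SetLike.ext_iff.mp h3 (f * x * f⁻¹)
    rw [hφmul, hφmem] at this
    have e : f⁻¹ * (f * x * f⁻¹) * f = x := by group
    rw [e] at this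
    exact this.symm
  have hfix' : ∀ f ∈ F, φ ((f * f) * f₀) = φ f₀ := by
    intro f hf
    refine (horbit _ (mul_mem (mul_mem hf hf) hf₀)).resolve_left fun h2 => hne₀ ?_
    ext x
    have h3 := SetLike.ext_iff.mp h2 ((f * f) * x * (f * f)⁻¹)
    rw [hφmul] at h3
    have e : (f * f)⁻¹ * ((f * f) * x * (f * f)⁻¹) * (f * f) = x := by group
    rw [e] at h3
    rw [h3]
    have h4 := SetLike.ext_iff.mp (hfix f hf) ((f * f) * x * (f * f)⁻¹)
    rw [hφmem, e] at h4
    exact h4.symm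
  -- so squares centralise `U_F`
  have hsq : ∀ f ∈ F, ∀ x ∈ UF, (f * f) * x * (f * f)⁻¹ = x := by
    intro f hf x hx
    have hC : ∀ g ∈ F, φ g = U → ∀ u ∈ U, g * u * g⁻¹ = u := fun g hg hgU u hu => by
      have h1 : u⁻¹ * (g * u * g⁻¹) ∈ U ⊓ UF :=
        ⟨Subgroup.mul_mem _ (Subgroup.inv_mem _ hu) (hgU.le (conj_mem_map hu)), hdiff g hg u hu⟩
      rw [hUFU, mem_bot, inv_mul_eq_one] at h1
      exact h1.symm
    obtain ⟨u, hu, rfl⟩ := hUF x hx
    have h0 := hC _ (mul_mem hf hf) (hfix f hf)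
    have h1 : φ (f₀⁻¹ * ((f * f) * f₀)) = U := by
      ext y
      rw [hφmul, inv_inv, hfix' f hf, hφmem]
      simp [mul_assoc]
    have h2 := hC _ (mul_mem (inv_mem hf₀) (mul_mem (mul_mem hf hf) hf₀)) h1 u hu
    calc (f * f) * (u⁻¹ * (f₀ * u * f₀⁻¹)) * (f * f)⁻¹
        = ((f * f) * u⁻¹ * (f * f)⁻¹) *
            (f₀ * ((f₀⁻¹ * ((f * f) * f₀)) * u * (f₀⁻¹ * ((f * f) * f₀))⁻¹) * f₀⁻¹) := by
          group
      _ = _ := by rw [h2, h0 _ (inv_mem hu)]
  obtain ⟨ι, hinj, -, hmem, -, honto⟩ := sF.coord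
  obtain ⟨g, hg, hg2⟩ := exists_coprime_sq_ne sF.le3
  obtain ⟨f, hf, hfg⟩ := honto g hg
  refine hg2 (Subtype.ext (matrix_eq_one_of_mulVec fun v => hinj ?_))
  rw [pow_two, Matrix.SpecialLinearGroup.coe_mul, ← Matrix.mulVec_mulVec, ← hfg, ← hfg]
  calc f * (f * ι v * f⁻¹) * f⁻¹ = (f * f) * ι v * (f * f)⁻¹ := by group
    _ = _ := hsq f hf _ ((hmem _).mpr ⟨v, rfl⟩)

/-- A small block with the module of another lies in the latter times the centraliser. -/
theorem le_sup_centralizer_of_modU_eq (hF : IsBlockOf p F) (sE : Small p E) (sF : Small p F)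
    (hU : modU p E = modU p F) : F ≤ E ⊔ centralizer (modU p E : Set G) := by
  obtain ⟨ι, hinj, hadd, hmem, -, honto⟩ := sE.coord
  obtain ⟨κ, kinj, kadd, kmem, kact, -⟩ := sF.coord
  have hex : ∀ v, ∃ w, κ w = ι v := fun v =>
    (kmem _).mp (hU.le ((hmem _).mpr ⟨v, rfl⟩))
  choose a ha using hex
  have hex' : ∀ w, ∃ v, ι v = κ w := fun w =>
    (hmem _).mp (hU.ge ((kmem _).mpr ⟨w, rfl⟩))
  choose b hb using hex'
  let α : (Fin 2 → ZMod p) →+ (Fin 2 → ZMod p) := AddMonoidHom.mk' a fun u v => kinj (by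
    rw [kadd, ha, ha, ha, hadd])
  let β : (Fin 2 → ZMod p) →+ (Fin 2 → ZMod p) := AddMonoidHom.mk' b fun u v => hinj (by
    rw [hadd, hb, hb, hb, kadd])
  let αl := α.toZModLinearMap p
  let βl := β.toZModLinearMap p
  set A := LinearMap.toMatrix' αl with hA
  set B := LinearMap.toMatrix' βl with hB
  have hBA : B * A = 1 := by
    rw [hA, hB, ← LinearMap.toMatrix'_comp]
    have : βl.comp αl = LinearMap.id := LinearMap.ext fun v => hinj (by
      show ι (b (a v)) = ι v
      rw [hb, ha])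
    rw [this, LinearMap.toMatrix'_id]
  conv_lhs => rw [← hF.res]
  refine LocalStructure.pResOf_le_of_forall fun f hf hc => ?_
  obtain ⟨g, hg⟩ := kact f hf
  have hdet : (B * (g : Matrix (Fin 2) (Fin 2) (ZMod p)) * A).det = 1 := by
    rw [Matrix.det_mul, Matrix.det_mul, g.2, mul_one, ← Matrix.det_mul, hBA, Matrix.det_one]
  let g' : Matrix.SpecialLinearGroup (Fin 2) (ZMod p) :=
    ⟨B * (g : Matrix (Fin 2) (Fin 2) (ZMod p)) * A, hdet⟩
  have hact : ∀ v, f * ι v * f⁻¹ = ι ((g' : Matrix (Fin 2) (Fin 2) (ZMod p)).mulVec v) := by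
    intro v
    show _ = ι ((B * (g : Matrix (Fin 2) (Fin 2) (ZMod p)) * A).mulVec v)
    rw [← Matrix.mulVec_mulVec, ← Matrix.mulVec_mulVec, hA, hB, LinearMap.toMatrix'_mulVec,
      LinearMap.toMatrix'_mulVec]
    show _ = ι (b _)
    rw [hb, ← hg]
    show _ = f * κ (a v) * f⁻¹
    rw [ha]
  have hpow : ∀ n : ℕ, ∀ v, f ^ n * ι v * (f ^ n)⁻¹ =
      ι (((g' ^ n : Matrix.SpecialLinearGroup (Fin 2) (ZMod p)) :
        Matrix (Fin 2) (Fin 2) (ZMod p)).mulVec v) := by
    intro n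
    induction n with
    | zero => intro v; simp
    | succ n ih =>
      intro v
      rw [pow_succ, pow_succ, Matrix.SpecialLinearGroup.coe_mul, ← Matrix.mulVec_mulVec, ← ih,
        ← hact]
      group
  have hg'c : (orderOf g').Coprime p := by
    refine Nat.Coprime.of_dvd_left (orderOf_dvd_of_pow_eq_one ?_) hc
    refine Subtype.ext (matrix_eq_one_of_mulVec fun v => hinj ?_)
    rw [← hpow, pow_orderOf_eq_one]; group
  obtain ⟨e, he, heg⟩ := honto g' hg'c
  have hcU : e⁻¹ * f ∈ centralizer (modU p E : Set G) := mem_centralizer_iff.mpr fun u hu => by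
    obtain ⟨v, rfl⟩ := (hmem u).mp hu
    have h1 : f * ι v * f⁻¹ = e * ι v * e⁻¹ := (hact v).trans (heg v).symm
    calc ι v * (e⁻¹ * f) = e⁻¹ * (e * ι v * e⁻¹) * f := by group
      _ = _ := by rw [← h1]; group
  have := mul_mem (mem_sup_left (T := centralizer (modU p E : Set G)) he) (mem_sup_right hcU)
  rwa [mul_inv_cancel_left] at this

theorem small_equal_or_commute (hE : IsBlockOf p E) (hEs : E.IsSubnormal) (hF : IsBlockOf p F)
    (hFs : F.IsSubnormal) (sE : Small p E) (sF : Small p F)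
    (hFE : F ≤ normalizer (E : Set G)) (hEF : E ≤ normalizer (F : Set G)) :
    E = F ∨ ⁅E, F⁆ = ⊥ := by
  set X := modU p E ⊓ modU p F
  have hEU : E ≤ normalizer (modU p F : Set G) := hEF.trans (normalizer_le_normalizer_modU F)
  have hFU : F ≤ normalizer (modU p E : Set G) := hFE.trans (normalizer_le_normalizer_modU E)
  have hEX : E ≤ normalizer (X : Set G) :=
    LocalEven50.le_normalizer_inf (le_normalizer_modU_self E) hEU
  rcases hE.U_cases inf_le_left hEX with hX | hX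
  · right
    refine hE.commute_of_centralizes hF hEs ?_
    have hXb : X = ⊥ := by rw [eq_bot_iff, ← sE.fixed]; exact le_inf inf_le_left hX
    rw [← commutator_eq_bot_iff_le_centralizer, eq_bot_iff, ← hXb, commutator_comm]
    exact le_inf (Coprime.commutator_le_of_le_normalizer hFU)
      (commutator_mono (modU_le_V E) le_rfl)
  · left
    have hU : modU p E = modU p F :=
      eq_of_le_of_card_ge (hX.ge.trans inf_le_right) (sF.card_U.trans sE.card_U.symm).le
    exact le_antisymm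
      (hF.le_of_le_sup_centralizer hE hFs hEF hU.le
        (hE.le_sup_centralizer_of_modU_eq sF sE hU.symm))
      (hE.le_of_le_sup_centralizer hF hEs hFE hU.ge
        (hF.le_sup_centralizer_of_modU_eq sE sF hU))

end IsBlockOf

/-- A subnormal subgroup of a join that does not contain all of it lies, with its conjugates, in a
smaller subgroup. -/
theorem card_sup_conj_lt {E F : Subgroup G} (hEs : E.IsSubnormal) (hnle : ¬ F ≤ E) {f : G}
    (hf : f ∈ F) :
    Nat.card ↥(E ⊔ E.map (MulAut.conj f).toMonoidHom) < Nat.card ↥(E ⊔ F) := by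
  have hne : E.subgroupOf (E ⊔ F) ≠ ⊤ := fun h =>
    hnle (le_sup_right.trans (subgroupOf_eq_top.mp h))
  obtain ⟨N, hN, hEN, hlt⟩ :=
    (hEs.subgroupOf (K := E ⊔ F)).exists_normal_and_le_and_lt_top_of_ne hne
  set N' := N.map (E ⊔ F).subtype
  have hE' : E ≤ N' := fun e he =>
    ⟨⟨e, mem_sup_left he⟩, hEN (show e ∈ E from he), rfl⟩
  have hE'' : E.map (MulAut.conj f).toMonoidHom ≤ N' := by
    rintro _ ⟨e, he, rfl⟩
    exact ⟨⟨f, mem_sup_right hf⟩ * ⟨e, mem_sup_left he⟩ * ⟨f, mem_sup_right hf⟩⁻¹,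
      hN.conj_mem _ (hEN (show e ∈ E from he)) _, rfl⟩
  refine lt_of_le_of_lt (card_le_of_le (sup_le hE' hE'')) ?_
  rw [card_map_of_injective (E ⊔ F).subtype_injective]
  exact lt_of_le_of_ne (card_le_card_group N) fun h => hlt.ne (eq_top_of_card_eq _ h)

/-- **Subnormal blocks are equal or commute.** -/
theorem subnormal_blocks_eq_or_commute {E F : Subgroup G} (hE : IsBlockOf p E)
    (hF : IsBlockOf p F) (hEs : E.IsSubnormal) (hFs : F.IsSubnormal) :
    E = F ∨ ⁅E, F⁆ = ⊥ := by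
  suffices key : ∀ (m : ℕ) (E F : Subgroup G), Nat.card ↥(E ⊔ F) = m → IsBlockOf p E →
      IsBlockOf p F → E.IsSubnormal → F.IsSubnormal → E = F ∨ ⁅E, F⁆ = ⊥ from
    key _ E F rfl hE hF hEs hFs
  intro m
  induction m using Nat.strong_induction_on with
  | _ m ih =>
  intro E F hm hE hF hEs hFs
  rcases hE.quasi_or_small hEs with hq | sE
  · exact hE.eq_or_commute_of_quasi hEs hF hFs hq
  rcases hF.quasi_or_small hFs with hq | sF
  · exact (hF.eq_or_commute_of_quasi hFs hE hEs hq).imp Eq.symm fun h => by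
      rw [commutator_comm]; exact h
  have hnorm : ∀ A B : Subgroup G, Nat.card ↥(A ⊔ B) = m → IsBlockOf p A → IsBlockOf p B →
      A.IsSubnormal → Small p A → Small p B → B ≤ normalizer (A : Set G) := by
    intro A B hm' hA hB hAs sA sB
    by_cases hle : B ≤ A
    · exact hle.trans le_normalizer
    refine hA.small_le_normalizer sA sB fun f hf => ?_
    have hc := ih _ (hm' ▸ card_sup_conj_lt hAs hle hf) A _ rfl hA (hA.conj f) hAs
      (hAs.map (MulAut.conj f).surjective)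
    exact hc.imp_left Eq.symm
  exact hE.small_equal_or_commute hEs hF hFs sE sF (hnorm E F hm hE hF hEs sE sF)
    (hnorm F E (by rwa [sup_comm]) hF hE hFs sF sE)

end CfsgLib.BlockNormal85
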