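import Cfsg.Agent.LocalEven50.Blocks
import Cfsg.Agent.LocalEven48.Basic
import Cfsg.Agent.S2983

/-!
# Stability arguments around a block

* `commutator_eq_commutator_commutator`: a `p`-group moved by a `p'`-generated group is moved twice.
* `pResOf_le_centralizer`: `O^p([E, K])` centralises every `p`-group that `E` moves only inside a
  subgroup centralised by `K`.
* `le_normalizer_of_isPGroup_commutator`: `K` normalises the block once `[E, K]` is a `p`-group.
-/

namespace CfsgLib.BlockNormal85

open Subgroup Cfsg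
open scoped commutatorElement

variable {G : Type*} [Group G] [Finite G] {p : ℕ} [Fact p.Prime]

theorem coprime_zpowers {X : Subgroup G} (hX : IsPGroup p X) {x : G}
    (hx : (orderOf x).Coprime p) : (Nat.card (zpowers x)).Coprime (Nat.card X) := by
  obtain ⟨k, hk⟩ := IsPGroup.iff_card.mp hX
  rw [Nat.card_zpowers, hk]
  exact hx.pow_right k

theorem commutator_eq_commutator_commutator {X E : Subgroup G} (hX : IsPGroup p X)
    (hn : E ≤ normalizer (X : Set G)) (hres : LocalStructure.pResOf p E = E) :
    ⁅⁅X, E⁆, E⁆ = ⁅X, E⁆ := by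
  have hEn : E ≤ normalizer ((⁅X, E⁆ : Subgroup G) : Set G) :=
    le_sup_right.trans (Coprime.sup_le_normalizer_commutator X E)
  refine le_antisymm (Coprime.commutator_le_of_le_normalizer hEn) ?_
  set N := ⁅⁅X, E⁆, E⁆
  have hNn : E ≤ normalizer (N : Set G) := le_sup_right.trans (Coprime.sup_le_normalizer_commutator _ E)
  let H : Subgroup G :=
    { carrier := {e | e ∈ E ∧ ∀ r ∈ X, ⁅r, e⁆ ∈ N}
      one_mem' := ⟨E.one_mem, fun r _ => by simp⟩
      mul_mem' := fun {a b} ha hb => ⟨E.mul_mem ha.1 hb.1, fun r hr => by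
        have e : ⁅r, a * b⁆ = ⁅r, a⁆ * (a * ⁅r, b⁆ * a⁻¹) := by
          simp only [commutatorElement_def]; group
        rw [e]
        exact N.mul_mem (ha.2 r hr) ((mem_normalizer_iff.mp (hNn ha.1) _).mp (hb.2 r hr))⟩
      inv_mem' := fun {a} ha => ⟨E.inv_mem ha.1, fun r hr => by
        have e : ⁅r, a⁻¹⁆ = a⁻¹ * ⁅r, a⁆⁻¹ * a := by simp only [commutatorElement_def]; group
        rw [e]
        exact (mem_normalizer_iff''.mp (hNn ha.1) _).mp (N.inv_mem (ha.2 r hr))⟩ }
  have hEH : E ≤ H := by
    conv_lhs => rw [← hres]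
    refine LocalStructure.pResOf_le_of_forall fun e he hc => ⟨he, fun r hr => ?_⟩
    have hz : zpowers e ≤ E := zpowers_le.mpr he
    have h1 := commutator_mem_commutator hr (mem_zpowers e)
    rw [← Coprime.commutator_commutator_eq (hz.trans hn) (coprime_zpowers hX hc)] at h1
    exact commutator_mono (commutator_mono le_rfl hz) hz h1
  exact commutator_le.mpr fun r hr e he => (hEH he).2 r hr

theorem coprime_centralizes_of_series {R P V : Subgroup G} (hR : IsPGroup p R) {x : G}
    (hx : (orderOf x).Coprime p) (hxR : x ∈ normalizer (R : Set G))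
    (h1 : ⁅R, zpowers x⁆ ≤ P) (h2 : ⁅P, zpowers x⁆ ≤ V) (h3 : ⁅V, zpowers x⁆ = ⊥) :
    x ∈ centralizer (R : Set G) := by
  have h := Coprime.commutator_commutator_eq (zpowers_le.mpr hxR) (coprime_zpowers hR hx)
  have hV : ⁅R, zpowers x⁆ ≤ V := by
    rw [← h]; exact (commutator_mono h1 le_rfl).trans h2
  have hbot : ⁅R, zpowers x⁆ = ⊥ := by
    rw [← h, eq_bot_iff, ← h3]; exact commutator_mono hV le_rfl
  exact le_centralizer_iff.mp (commutator_eq_bot_iff_le_centralizer.mp hbot) (mem_zpowers x)

/-- `O^p([E, K])` centralises a `p`-group `Y` normalised by `K` which `E` moves only inside a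
subgroup centralised by `K`. -/
theorem pResOf_le_centralizer {E K Y U : Subgroup G} (hY : IsPGroup p Y)
    (hEY : E ≤ normalizer (Y : Set G)) (hKY : K ≤ normalizer (Y : Set G))
    (hEK : E ≤ normalizer (K : Set G)) (hYE : ⁅Y, E⁆ ≤ U) (hKU : K ≤ centralizer (U : Set G))
    (hEU : E ≤ normalizer (U : Set G)) (hYU : Y ≤ normalizer (U : Set G)) :
    LocalStructure.pResOf p ⁅E, K⁆ ≤ centralizer (Y : Set G) := by
  have h : ⁅⁅E, K⁆, Y⁆ ≤ U := by
    refine LocalEven48.three_subgroups_le hEU (hKU.trans (centralizer_le_normalizer _)) hYU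
      ((commutator_mono ?_ le_rfl).trans hYE) ?_
    · rw [commutator_comm]; exact Coprime.commutator_le_of_le_normalizer hKY
    · refine (commutator_mono hYE le_rfl).trans ?_
      rw [commutator_comm, commutator_eq_bot_iff_le_centralizer.mpr hKU]
      exact bot_le
  have hXK : ⁅E, K⁆ ≤ K := by
    rw [commutator_comm]; exact Coprime.commutator_le_of_le_normalizer hEK
  refine LocalStructure.pResOf_le_of_forall fun x hx hc => ?_
  have hxY : ⁅Y, zpowers x⁆ ≤ U := by
    rw [commutator_comm]; exact (commutator_mono (zpowers_le.mpr hx) le_rfl).trans h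
  refine coprime_centralizes_of_series (P := U) (V := ⊥) hY hc (hKY (hXK hx)) hxY ?_
    (commutator_bot_left _)
  rw [commutator_comm, commutator_eq_bot_iff_le_centralizer.mpr
    ((zpowers_le.mpr (hXK hx)).trans hKU)]

/-- A subgroup normalised by the block and by `B(T)` normalises the block as soon as its commutator
with the block is a `p`-group. -/
theorem le_normalizer_of_isPGroup_commutator (hG : centralizer (pCore p G : Set G) ≤ pCore p G)
    (T : Sylow p G) {E K : Subgroup G} (hE : IsBaumannBlock p (T : Subgroup G) E)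
    (hEK : E ≤ normalizer (K : Set G))
    (hBK : baumannSubgroupOf p (T : Subgroup G) ≤ normalizer (K : Set G))
    (hp : IsPGroup p (⁅E, K⁆ : Subgroup G)) : K ≤ normalizer (E : Set G) := by
  set X := ⁅E, K⁆
  have hEX : E ≤ normalizer (X : Set G) :=
    le_sup_left.trans (Coprime.sup_le_normalizer_commutator E K)
  have hBX : baumannSubgroupOf p (T : Subgroup G) ≤ normalizer (X : Set G) :=
    (le_inf (LocalEven50.baumann_le_normalizer_block hE) hBK).trans
      (CharPLocal.inf_normalizer_le_normalizer_commutator E K)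
  have hXE : X ≤ normalizer (E : Set G) :=
    Cfsg.Agent.S2983.result hG T E hE X hp hBX hEX
  have hres : LocalStructure.pResOf p (X ⊔ E) ≤ E := by
    refine LocalStructure.pResOf_le_of_forall fun g hg hc => ?_
    obtain ⟨r, hr, e, he, rfl⟩ := (coe_mul_of_left_le_normalizer_right _ _ hXE).le hg
    simp only at *
    obtain ⟨k, hk⟩ := hp ⟨r, hr⟩
    have hpow : ∀ n : ℕ, ∃ e' ∈ E, (r * e) ^ n = r ^ n * e' := by
      intro n
      induction n with
      | zero => exact ⟨1, E.one_mem, by simp⟩
      | succ n ih =>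
        obtain ⟨e', he', h'⟩ := ih
        refine ⟨r⁻¹ * e' * r * e, E.mul_mem ?_ he, ?_⟩
        · simpa using (mem_normalizer_iff.mp (inv_mem (hXE hr)) e').mp he'
        · rw [pow_succ (r * e), h', pow_succ r]; group
    obtain ⟨e', he', h'⟩ := hpow (p ^ k)
    have hk' : r ^ p ^ k = 1 := congrArg Subtype.val hk
    rw [hk', one_mul] at h'
    exact LocalStructure.mem_of_coprime_of_pow_mem (k := k) hc (h' ▸ he')
  intro k hk
  refine mem_normalizer_iff_map_conj_eq.mpr (eq_of_le_of_card_ge ?_
    (card_map_of_injective (MulAut.conj k).injective).ge)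
  refine le_trans ?_ hres
  conv_lhs => rw [← LocalEven50.pResOf_block hE]
  rw [LocalStructure.map_pResOf]
  refine LocalStructure.pResOf_mono ?_
  rintro _ ⟨e, he, rfl⟩
  have h1 : (⁅e, k⁆)⁻¹ * e ∈ X ⊔ E :=
    (X ⊔ E).mul_mem (mem_sup_left (X.inv_mem (commutator_mem_commutator he hk))) (mem_sup_right he)
  simpa [commutatorElement_def, mul_assoc] using h1

end CfsgLib.BlockNormal85
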