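import Cfsg.Agent.BlockNormal85.Mat
import Cfsg.Agent.BlockNormal85.Tools

/-!
# The two natural layers of an exceptional block

For an exceptional block `E` whose `O₃(E)` is not reached trivially by `O₃(G)`: `Q = O₃(E)` lies in
`R = O₃(G)`, `W = Ω₁(Z(Q))` lies in `V = Ω₁(Z(R))`, and `E` has an involution inverting
`U = [V, E]` and `Q / W`, both natural modules.
-/

set_option linter.style.haveILetI false

namespace CfsgLib.BlockNormal85

open Subgroup Cfsg
open scoped commutatorElement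

/-- The hypotheses on an exceptional block. -/
structure Exc {G : Type*} [Group G] (T : Sylow 3 G) (E : Subgroup G) (F : Type*) [Field F]
    [Fintype F] (n : ℕ) : Prop where
  charP : centralizer (pCore 3 G : Set G) ≤ pCore 3 G
  block : IsBaumannBlock 3 (T : Subgroup G) E
  card : Fintype.card F = 3 ^ n
  iso : Nonempty (↥E ⧸ pCore 3 ↥E ≃* ↥(commutator (Matrix.SpecialLinearGroup (Fin 2) F)))
  secW : ActsAsSL2OnSection F (commutator (Matrix.SpecialLinearGroup (Fin 2) F)) E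
    (omegaOneCenter 3 (pCoreOf 3 E)) (omegaOneCenter 3 (pCoreOf 3 E) ⊓ centralizer (E : Set G))
  secQ : ActsAsSL2OnSection F (commutator (Matrix.SpecialLinearGroup (Fin 2) F)) E
    (pCoreOf 3 E) (omegaOneCenter 3 (pCoreOf 3 E))
  comm : ⁅pCoreOf 3 E, pCoreOf 3 E⁆ = omegaOneCenter 3 (pCoreOf 3 E) ⊓ centralizer (E : Set G)
  frat : (frattini ↥(pCoreOf 3 E)).map (pCoreOf 3 E).subtype =
    omegaOneCenter 3 (pCoreOf 3 E) ⊓ centralizer (E : Set G)
  center : E ⊓ centralizer (E : Set G) =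
    omegaOneCenter 3 (pCoreOf 3 E) ⊓ centralizer (E : Set G)
  nonquad : ∀ b : G, b ∈ baumannSubgroupOf 3 (T : Subgroup G) →
    b ∉ centralizer (omegaOneCenter 3 (pCoreOf 3 E) : Set G) →
    ¬ ⁅⁅pCoreOf 3 E, zpowers b⁆, zpowers b⁆ ≤ E ⊓ centralizer (E : Set G)
  big : ¬ ⁅pCore 3 G, E⁆ ≤ omegaOneCenter 3 (pCoreOf 3 E)

/-- The involution and the two natural modules of an exceptional block. -/
structure Nat2 {G : Type*} [Group G] (E : Subgroup G) (F : Type*) [Field F] (z : G)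
    (ι : (Fin 2 → F) → G) (π : ↥(pCoreOf 3 E) →* Multiplicative (Fin 2 → F)) : Prop where
  zE : z ∈ E
  zz : z * z = 1
  inj : Function.Injective ι
  add : ∀ u v, ι (u + v) = ι u * ι v
  mem : ∀ x, x ∈ (⁅omegaOneCenter 3 (pCore 3 G), E⁆ : Subgroup G) ↔ ∃ v, ι v = x
  zU : ∀ v, z * ι v * z⁻¹ = ι (-v)
  actU : ∀ e ∈ E, ∃ g ∈ commutator (Matrix.SpecialLinearGroup (Fin 2) F), ∀ v,
    e * ι v * e⁻¹ = ι ((g : Matrix (Fin 2) (Fin 2) F).mulVec v)
  ontoU : ∀ g ∈ commutator (Matrix.SpecialLinearGroup (Fin 2) F), ∃ e ∈ E, ∀ v,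
    e * ι v * e⁻¹ = ι ((g : Matrix (Fin 2) (Fin 2) F).mulVec v)
  zQ : ∀ x ∈ pCoreOf 3 E, z * x * z⁻¹ * x ∈ omegaOneCenter 3 (pCoreOf 3 E)
  surj : Function.Surjective π
  ker : ∀ x : ↥(pCoreOf 3 E), π x = 1 ↔ (x : G) ∈ omegaOneCenter 3 (pCoreOf 3 E)
  actQ : ∀ e ∈ E, ∃ g ∈ commutator (Matrix.SpecialLinearGroup (Fin 2) F),
    ∀ x y : ↥(pCoreOf 3 E), (y : G) = e * (x : G) * e⁻¹ →
      Multiplicative.toAdd (π y) =
        (g : Matrix (Fin 2) (Fin 2) F).mulVec (Multiplicative.toAdd (π x))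
  ontoQ : ∀ g ∈ commutator (Matrix.SpecialLinearGroup (Fin 2) F), ∃ e ∈ E,
    ∀ x y : ↥(pCoreOf 3 E), (y : G) = e * (x : G) * e⁻¹ →
      Multiplicative.toAdd (π y) =
        (g : Matrix (Fin 2) (Fin 2) F).mulVec (Multiplicative.toAdd (π x))

theorem matrix_eq_one_of_mulVec {F : Type*} [Field F] {M : Matrix (Fin 2) (Fin 2) F}
    (h : ∀ v : Fin 2 → F, M.mulVec v = v) : M = 1 := by
  ext i j
  have := congrFun (h (Pi.single j 1)) i
  simpa [Matrix.mulVec_single_one, Pi.single_apply, Matrix.one_apply] using this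

/-- The only involution of `SL₂` in odd characteristic. -/
theorem eq_negOne_of_sq {F : Type*} [Field F] (h2 : (2 : F) ≠ 0)
    {M : Matrix.SpecialLinearGroup (Fin 2) F} (h : M * M = 1) (h1 : M ≠ 1) :
    (M : Matrix (Fin 2) (Fin 2) F) = -1 := by
  have hd := M.2
  rw [Matrix.det_fin_two] at hd
  have e := congrArg (fun N : Matrix.SpecialLinearGroup (Fin 2) F => N.1) h
  simp only [Matrix.SpecialLinearGroup.coe_mul, Matrix.SpecialLinearGroup.coe_one] at e
  set a := (M : Matrix (Fin 2) (Fin 2) F) 0 0 with ha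
  set b := (M : Matrix (Fin 2) (Fin 2) F) 0 1 with hb
  set c := (M : Matrix (Fin 2) (Fin 2) F) 1 0 with hc
  set d := (M : Matrix (Fin 2) (Fin 2) F) 1 1 with hd'
  have e00 : a * a + b * c = 1 := by simpa [Matrix.mul_apply, Fin.sum_univ_two] using congrFun (congrFun e 0) 0
  have e01 : a * b + b * d = 0 := by simpa [Matrix.mul_apply, Fin.sum_univ_two] using congrFun (congrFun e 0) 1
  have e10 : c * a + d * c = 0 := by simpa [Matrix.mul_apply, Fin.sum_univ_two] using congrFun (congrFun e 1) 0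
  have t0 : a * (a + d) = 2 := by linear_combination e00 + hd
  have hb0 : b = 0 := by
    have : b * 2 = 0 := by linear_combination a * e01 - b * t0
    exact (mul_eq_zero.mp this).resolve_right h2
  have hc0 : c = 0 := by
    have : c * 2 = 0 := by linear_combination a * e10 - c * t0
    exact (mul_eq_zero.mp this).resolve_right h2
  rw [hb0] at e00 hd
  simp only [zero_mul, add_zero, sub_zero] at e00 hd
  rcases mul_self_eq_one_iff.mp e00 with h' | h'
  · rw [h', one_mul] at hd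
    refine absurd (Subtype.ext ?_) h1
    ext i j
    fin_cases i <;> fin_cases j
    · simpa [ha] using h'
    · simpa [hb] using hb0
    · simpa [hc] using hc0
    · simpa [hd'] using hd
  · rw [h', neg_one_mul, neg_eq_iff_eq_neg] at hd
    ext i j
    fin_cases i <;> fin_cases j
    · simpa [ha] using h'
    · simpa [hb] using hb0
    · simpa [hc] using hc0
    · simpa [hd'] using hd

variable {G : Type*} [Group G] [Finite G] {T : Sylow 3 G} {E : Subgroup G} {F : Type*} [Field F]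
  [Fintype F] {n : ℕ} [Fact (Nat.Prime 3)]

local notation "𝐑" => pCore 3 G
local notation "𝐕" => omegaOneCenter 3 (pCore 3 G)
local notation "𝐐" => pCoreOf 3 E
local notation "𝐖" => omegaOneCenter 3 (pCoreOf 3 E)
local notation "𝐙" => omegaOneCenter 3 (pCoreOf 3 E) ⊓ centralizer (E : Set G)
local notation "𝐔" => (⁅omegaOneCenter 3 (pCore 3 G), E⁆ : Subgroup G)
local notation "𝐁" => baumannSubgroupOf 3 (T : Subgroup G)
local notation "SL2'" => commutator (Matrix.SpecialLinearGroup (Fin 2) F)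

namespace Exc

variable (h : Exc T E F n)
include h

theorem n_ne_zero : n ≠ 0 := by
  rintro rfl
  have := Fintype.one_lt_card (α := F)
  rw [h.card, pow_zero] at this
  exact lt_irrefl 1 this

theorem h3 : (3 : F) = 0 := by
  have h1 : ((Fintype.card F : ℕ) : F) = 0 := Nat.cast_card_eq_zero F
  rw [h.card, Nat.cast_pow] at h1
  exact_mod_cast (pow_eq_zero_iff h.n_ne_zero).mp h1

theorem charThree : CharP F 3 :=
  (CharP.charP_iff_prime_eq_zero Nat.prime_three).mpr (by exact_mod_cast h.h3)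

theorem two_ne : (2 : F) ≠ 0 := fun h2 => one_ne_zero (α := F) (by linear_combination h.h3 - h2)

theorem res : LocalStructure.pResOf 3 E = E := LocalEven50.pResOf_block h.block

omit h in
theorem R_isPGroup : IsPGroup 3 𝐑 := LocalStructure.pCore_isPGroup

omit h in
theorem le_normalizer_R (X : Subgroup G) : X ≤ normalizer (𝐑 : Set G) := by
  haveI := LocalStructure.pCore_normal (p := 3) (G := G)
  rw [normalizer_eq_top]; exact le_top

omit h in
theorem le_normalizer_V (X : Subgroup G) : X ≤ normalizer (𝐕 : Set G) :=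
  (le_normalizer_R X).trans (LocalEven50.normalizer_le_normalizer_omegaOneCenter _)

theorem R_le_normalizer : 𝐑 ≤ normalizer (E : Set G) :=
  (LocalEven50.block_module h.charP T h.block).1

omit h in
theorem E_le_normalizer_Q : E ≤ normalizer (𝐐 : Set G) := LocalStructure.le_normalizer_pCoreOf E

omit h in
theorem E_le_normalizer_W : E ≤ normalizer (𝐖 : Set G) :=
  E_le_normalizer_Q.trans (LocalEven50.normalizer_le_normalizer_omegaOneCenter _)

omit h in
theorem E_le_normalizer_U : E ≤ normalizer (𝐔 : Set G) :=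
  le_sup_right.trans (Coprime.sup_le_normalizer_commutator _ E)

omit h in
theorem W_le_Q : 𝐖 ≤ 𝐐 := LocalEven50.omegaOneCenter_le _

omit h in
theorem W_le_centralizer_Q : 𝐖 ≤ centralizer (𝐐 : Set G) :=
  LocalEven50.omegaOneCenter_le_centralizer _

omit h in
theorem W_comm {a b : G} (ha : a ∈ 𝐖) (hb : b ∈ 𝐖) : a * b = b * a :=
  mem_centralizer_iff.mp (W_le_centralizer_Q hb) a (W_le_Q ha)

omit h in
theorem W_cube {a : G} (ha : a ∈ 𝐖) : a * a * a = 1 := by
  rw [← (LocalEven50.isElementaryAbelian_omegaOneCenter 𝐐).2 a ha, pow_succ, pow_two]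

omit h in
theorem V_cube {a : G} (ha : a ∈ 𝐕) : a * a * a = 1 := by
  rw [← (LocalEven50.isElementaryAbelian_omegaOneCenter 𝐑).2 a ha, pow_succ, pow_two]

omit h in
theorem U_le_V : 𝐔 ≤ 𝐕 :=
  Coprime.commutator_le_of_le_normalizer (le_normalizer_V E)

theorem U_idem : ⁅𝐔, E⁆ = 𝐔 :=
  commutator_eq_commutator_commutator (PLocal.isPGroup_of_isElementaryAbelian
    (LocalEven50.isElementaryAbelian_omegaOneCenter 𝐑)) (le_normalizer_V E) h.res

theorem U_le_W : 𝐔 ≤ 𝐖 := (LocalEven50.block_module h.charP T h.block).2.1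

theorem W_eq : 𝐖 = 𝐔 ⊔ 𝐙 := (LocalEven50.block_module h.charP T h.block).2.2.2

theorem WE_eq : ⁅𝐖, E⁆ = 𝐔 := by
  refine le_antisymm ?_ (h.U_idem.ge.trans (commutator_mono h.U_le_W le_rfl))
  refine commutator_le.mpr fun x hx e he => ?_
  rw [h.W_eq] at hx
  have hUZ : 𝐔 ≤ normalizer ((𝐙 : Subgroup G) : Set G) := by
    refine (h.U_le_W.trans fun a ha => ?_).trans (centralizer_le_normalizer _)
    exact mem_centralizer_iff.mpr fun b hb => W_comm hb.1 ha
  obtain ⟨u, hu, w, hw, rfl⟩ := (coe_mul_of_left_le_normalizer_right _ _ hUZ).le hx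
  have hwe : e * w = w * e := mem_centralizer_iff.mp hw.2 e he
  have e1 : ⁅u * w, e⁆ = ⁅u, e⁆ := by
    rw [commutatorElement_def, commutatorElement_def, mul_assoc u w e, ← hwe]; group
  simp only at *
  rw [e1, ← h.U_idem]
  exact commutator_mem_commutator hu he

theorem RE_le_Q : ⁅𝐑, E⁆ ≤ 𝐐 := by
  refine LocalStructure.le_pCoreOf ?_ (le_sup_right.trans (Coprime.sup_le_normalizer_commutator _ E))
    (R_isPGroup.to_le (Coprime.commutator_le_of_le_normalizer (le_normalizer_R E)))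
  rw [commutator_comm]
  exact Coprime.commutator_le_of_le_normalizer h.R_le_normalizer

theorem Q_le_R : 𝐐 ≤ 𝐑 := by
  set D := ⁅𝐑, E⁆
  have hEn : E ≤ normalizer (D : Set G) :=
    le_sup_right.trans (Coprime.sup_le_normalizer_commutator _ E)
  have hDR : D ≤ 𝐑 := Coprime.commutator_le_of_le_normalizer (le_normalizer_R E)
  rcases LocalEven50.sl2Section_cases h.secQ le_sup_left (sup_le W_le_Q h.RE_le_Q)
    (LocalEven48.le_normalizer_sup E_le_normalizer_W hEn) with hh | hh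
  · exact absurd (le_sup_right.trans hh.le) h.big
  have hcc : ⁅𝐐, 𝐐⁆ ≤ D := by
    rw [commutator_le]
    intro a ha b hb
    have hWD : 𝐖 ≤ normalizer (D : Set G) := (W_le_Q.trans (LocalStructure.pCoreOf_le E)).trans hEn
    rw [← hh] at ha hb
    obtain ⟨w, hw, d, hd, rfl⟩ := (coe_mul_of_left_le_normalizer_right _ _ hWD).le ha
    obtain ⟨w', hw', d', hd', rfl⟩ := (coe_mul_of_left_le_normalizer_right _ _ hWD).le hb
    have c1 : ∀ q ∈ 𝐐, ∀ v ∈ 𝐖, q * v = v * q := fun q hq v hv =>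
      mem_centralizer_iff.mp (W_le_centralizer_Q hv) q hq
    have e : ⁅w * d, w' * d'⁆ = ⁅d, d'⁆ := by
      simp only [commutatorElement_def, mul_inv_rev]
      have hdQ : d ∈ 𝐐 := h.RE_le_Q hd
      have hdQ' : d' ∈ 𝐐 := h.RE_le_Q hd'
      calc w * d * (w' * d') * (d⁻¹ * w⁻¹) * (d'⁻¹ * w'⁻¹)
          = w * (d * w') * d' * d⁻¹ * (w⁻¹ * d'⁻¹) * w'⁻¹ := by group
        _ = w * (w' * d) * d' * d⁻¹ * (d'⁻¹ * w⁻¹) * w'⁻¹ := by
          rw [c1 d hdQ w' hw', ← c1 d'⁻¹ (inv_mem hdQ') w⁻¹ (inv_mem hw)]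
        _ = (w * w') * (d * d' * d⁻¹ * d'⁻¹) * (w⁻¹ * w'⁻¹) := by group
        _ = (d * d' * d⁻¹ * d'⁻¹) * (w * w') * (w⁻¹ * w'⁻¹) := by
          rw [c1 _ (𝐐.mul_mem (𝐐.mul_mem (𝐐.mul_mem hdQ hdQ') (inv_mem hdQ)) (inv_mem hdQ'))
            _ (𝐖.mul_mem hw hw')]
        _ = d * d' * d⁻¹ * d'⁻¹ := by rw [W_comm hw hw']; group
    simp only at *
    rw [e, commutatorElement_def]
    exact D.mul_mem (D.mul_mem (D.mul_mem hd hd') (inv_mem hd)) (inv_mem hd')
  rw [← hh]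
  refine sup_le ?_ hDR
  rw [h.W_eq]
  exact sup_le (U_le_V.trans (LocalEven50.omegaOneCenter_le _)) (h.comm.ge.trans (hcc.trans hDR))

omit h in
/-- The kernel of an action with full image is `O₃(E)`. -/
theorem ker_eq (hiso : Nonempty (↥E ⧸ pCore 3 ↥E ≃* ↥SL2')) {A B : Subgroup G}
    {ρ : ↥E →* Matrix.SpecialLinearGroup (Fin 2) F} {ψ : ↥A →* Multiplicative (Fin 2 → F)}
    (hρ : ρ.range = SL2') (hψ : Function.Surjective ψ) (hker : ∀ u : ↥A, ψ u = 1 ↔ (u : G) ∈ B)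
    (hact : ∀ (e : ↥E) (u : ↥A), ∃ w : ↥A, (w : G) = (e : G) * (u : G) * (e : G)⁻¹ ∧
      Multiplicative.toAdd (ψ w) = ((ρ e : Matrix.SpecialLinearGroup (Fin 2) F) :
        Matrix (Fin 2) (Fin 2) F).mulVec (Multiplicative.toAdd (ψ u)))
    (hQ : ∀ q ∈ 𝐐, ∀ u ∈ A, q * u * q⁻¹ * u⁻¹ ∈ B) (e : ↥E) :
    ρ e = 1 ↔ (e : G) ∈ 𝐐 := by
  haveI : (pCore 3 ↥E).Normal := LocalStructure.pCore_normal
  have hle : pCore 3 ↥E ≤ ρ.ker := by
    intro q hq
    rw [MonoidHom.mem_ker]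
    refine Subtype.ext (matrix_eq_one_of_mulVec fun v => ?_)
    obtain ⟨u, hu⟩ := hψ (Multiplicative.ofAdd v)
    obtain ⟨w, hw, hw'⟩ := hact q u
    have : ψ w = ψ u := by
      rw [← mul_inv_eq_one, ← map_inv, ← map_mul, hker]
      rw [Subgroup.coe_mul, Subgroup.coe_inv, hw]
      exact hQ q ⟨q, hq, rfl⟩ u u.2
    rw [this, hu] at hw'
    simpa using hw'.symm
  have hcard : Nat.card ρ.ker = Nat.card (pCore 3 ↥E) := by
    obtain ⟨φ⟩ := hiso
    have h1 : Nat.card ρ.range = Nat.card SL2' := by rw [hρ]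
    have h2 := Subgroup.card_eq_card_quotient_mul_card_subgroup ρ.ker
    have h3 := Subgroup.card_eq_card_quotient_mul_card_subgroup (pCore 3 ↥E)
    rw [Nat.card_congr (QuotientGroup.quotientKerEquivRange ρ).toEquiv, h1] at h2
    rw [Nat.card_congr φ.toEquiv] at h3
    exact Nat.eq_of_mul_eq_mul_left Nat.card_pos (h2.symm.trans h3)
  rw [← MonoidHom.mem_ker, ← eq_of_le_of_card_ge hle hcard.le]
  exact ⟨fun hq => ⟨e, hq, rfl⟩, fun ⟨q, hq, hqe⟩ => by rwa [← E.subtype_injective hqe]⟩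

theorem exists_nat2 : ∃ z ι π, Nat2 E F z ι π := by
  classical
  obtain ⟨-, -, ρ, ψ, hρ, hψ, hker, hact⟩ := h.secW
  obtain ⟨-, -, ρQ, π, hρQ, hπ, hkerQ, hactQ⟩ := h.secQ
  have hkW : ∀ e : ↥E, ρ e = 1 ↔ (e : G) ∈ 𝐐 :=
    ker_eq h.iso hρ hψ hker hact fun q hq u hu => by
      rw [mem_centralizer_iff.mp (W_le_centralizer_Q hu) q hq, mul_inv_cancel_right,
        mul_inv_cancel]
      exact one_mem _
  have hkQ : ∀ e : ↥E, ρQ e = 1 ↔ (e : G) ∈ 𝐐 :=
    ker_eq h.iso hρQ hπ hkerQ hactQ fun q hq u hu =>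
      (inf_le_left : 𝐙 ≤ 𝐖) (h.comm.le (by
        rw [← commutatorElement_def]; exact commutator_mem_commutator hq hu))
  -- the involution
  obtain ⟨g₀, hg₀, hg₀M⟩ := negOne_mem (F := F) h.h3
  obtain ⟨e₀, he₀⟩ := hρ.ge hg₀
  have hsq : g₀ * g₀ = 1 := Subtype.ext (by simp [hg₀M])
  obtain ⟨k, hk⟩ := IsPGroup.iff_card.mp (LocalStructure.pCoreOf_isPGroup (p := 3) E)
  set z : ↥E := e₀ ^ 3 ^ k
  have hρz : ρ z = g₀ := by
    rw [map_pow, he₀]
    obtain ⟨j, hj⟩ := (Odd.pow (n := k) (by decide : Odd (3 : ℕ)))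
    rw [hj, pow_succ, pow_mul, pow_two, hsq, one_pow, one_mul]
  have hzz : (z : G) * z = 1 := by
    have h1 : ((e₀ * e₀ : ↥E) : G) ∈ 𝐐 := (hkW _).mp (by rw [map_mul, he₀, hsq])
    have h2 : (⟨_, h1⟩ : ↥𝐐) ^ 3 ^ k = 1 := by rw [← hk]; exact pow_card_eq_one'
    have h3 : ((e₀ * e₀ : ↥E) : G) ^ 3 ^ k = 1 := congrArg Subtype.val h2
    rw [Subgroup.coe_mul, (Commute.refl (e₀ : G)).mul_pow] at h3
    simpa [z] using h3
  have hz1 : g₀ ≠ 1 := fun h1 => by
    have := congrArg (fun N : Matrix.SpecialLinearGroup (Fin 2) F => N.1 0 0) h1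
    simp [hg₀M] at this
    exact h.two_ne (by linear_combination -this)
  have hρQz : (ρQ z : Matrix (Fin 2) (Fin 2) F) = -1 := by
    refine eq_negOne_of_sq h.two_ne ?_ fun h1 => ?_
    · rw [← map_mul, hkQ, Subgroup.coe_mul, hzz]; exact one_mem _
    · exact hz1 (hρz.symm.trans ((hkW z).mpr ((hkQ z).mp h1)))
  have hneg : ∀ u w : ↥𝐖, (w : G) = (z : G) * u * (z : G)⁻¹ →
      Multiplicative.toAdd (ψ w) = -Multiplicative.toAdd (ψ u) := by
    intro u w hw
    obtain ⟨w', hw', hw''⟩ := hact z u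
    rw [show w = w' from Subtype.ext (hw.trans hw'.symm), hw'', hρz, hg₀M, Matrix.neg_mulVec,
      Matrix.one_mulVec]
  have hzW : ∀ x ∈ 𝐖, (z : G) * x * (z : G)⁻¹ ∈ 𝐖 := fun x hx =>
    (mem_normalizer_iff.mp (E_le_normalizer_W z.2) x).mp hx
  have hzmod : ∀ x ∈ 𝐖, x * ((z : G) * x * (z : G)⁻¹) ∈ 𝐙 := by
    intro x hx
    refine (hker (⟨x, hx⟩ * ⟨_, hzW x hx⟩)).mp (Multiplicative.toAdd.injective ?_)
    rw [map_mul, toAdd_mul, hneg ⟨x, hx⟩ ⟨_, hzW x hx⟩ rfl, add_neg_cancel, toAdd_one]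
  -- the inverted part of `W`
  let Wm : Subgroup G :=
    { carrier := {x | x ∈ 𝐖 ∧ (z : G) * x * (z : G)⁻¹ = x⁻¹}
      one_mem' := ⟨one_mem _, by simp⟩
      mul_mem' := fun {a b} ha hb => ⟨mul_mem ha.1 hb.1, by
        have e : (z : G) * (a * b) * (z : G)⁻¹ =
            ((z : G) * a * (z : G)⁻¹) * ((z : G) * b * (z : G)⁻¹) := by group
        rw [e, ha.2, hb.2, mul_inv_rev, W_comm (inv_mem ha.1) (inv_mem hb.1)]⟩
      inv_mem' := fun {a} ha => ⟨inv_mem ha.1, by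
        have e : (z : G) * a⁻¹ * (z : G)⁻¹ = ((z : G) * a * (z : G)⁻¹)⁻¹ := by group
        rw [e, ha.2]⟩ }
  have hEWm : ∀ e ∈ E, ∀ x ∈ Wm, e * x * e⁻¹ ∈ Wm := by
    intro e he x hx
    have hx' : e * x * e⁻¹ ∈ 𝐖 := (mem_normalizer_iff.mp (E_le_normalizer_W he) x).mp hx.1
    refine ⟨hx', ?_⟩
    set q := (z : G)⁻¹ * e⁻¹ * z * e with hq
    have hqQ : q ∈ 𝐐 := by
      refine (hkW (z⁻¹ * (⟨e, he⟩ : ↥E)⁻¹ * z * ⟨e, he⟩)).mp ?_
      rw [map_mul, map_mul, map_mul, map_inv, map_inv, hρz]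
      have hc : ∀ M : Matrix.SpecialLinearGroup (Fin 2) F, g₀ * M = M * g₀ := fun M =>
        Subtype.ext (by simp [hg₀M])
      rw [mul_assoc _ g₀, hc, mul_assoc g₀⁻¹, inv_mul_cancel_left, inv_mul_cancel]
    have e1 : (z : G) * (e * x * e⁻¹) * (z : G)⁻¹ =
        e * ((z : G) * (q * x * q⁻¹) * (z : G)⁻¹) * e⁻¹ := by
      rw [hq]; group
    rw [e1, mem_centralizer_iff.mp (W_le_centralizer_Q hx.1) q hqQ, mul_inv_cancel_right, hx.2]
    group
  have hUWm : 𝐔 ≤ Wm := by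
    rw [← h.WE_eq, commutator_le]
    intro x hx e he
    set zx := (z : G) * x * (z : G)⁻¹
    have hzx : zx ∈ 𝐖 := hzW x hx
    set m := (x * zx⁻¹) * (x * zx⁻¹) with hm
    have hmW : m ∈ Wm := by
      refine ⟨mul_mem (mul_mem hx (inv_mem hzx)) (mul_mem hx (inv_mem hzx)), ?_⟩
      have e1 : (z : G) * (x * zx⁻¹) * (z : G)⁻¹ = zx * x⁻¹ := by
        have : (z : G) * zx * (z : G)⁻¹ = x := by
          rw [show (z : G) * zx * (z : G)⁻¹ = ((z : G) * z) * x * ((z : G) * z)⁻¹ by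
            simp only [zx]; group, hzz]
          group
        calc (z : G) * (x * zx⁻¹) * (z : G)⁻¹
            = ((z : G) * x * (z : G)⁻¹) * ((z : G) * zx * (z : G)⁻¹)⁻¹ := by group
          _ = zx * x⁻¹ := by rw [this]
      calc (z : G) * m * (z : G)⁻¹
          = ((z : G) * (x * zx⁻¹) * (z : G)⁻¹) * ((z : G) * (x * zx⁻¹) * (z : G)⁻¹) := by
            rw [hm]; group
        _ = m⁻¹ := by rw [e1, hm]; group
    have hfix : m⁻¹ * x ∈ 𝐙 := by
      have hc : x * zx = zx * x := W_comm hx hzx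
      have e2 : m⁻¹ * x = (x * zx) * (x * zx) := by
        have h1 := W_cube hx
        rw [hm]
        calc (x * zx⁻¹ * (x * zx⁻¹))⁻¹ * x = zx * x⁻¹ * (zx * x⁻¹) * x := by group
          _ = zx * (x⁻¹ * zx) := by group
          _ = zx * (zx * x⁻¹) := by rw [((show Commute x zx from hc).inv_left).eq]
          _ = zx * zx * x⁻¹ * (x * x * x) := by rw [h1]; group
          _ = zx * zx * (x * x) := by group
          _ = (x * zx) * (x * zx) := by
            have hC : Commute x zx := hc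
            rw [((hC.symm.mul_right hC.symm).mul_left (hC.symm.mul_right hC.symm)).eq]
            calc x * x * (zx * zx) = x * (x * zx) * zx := by group
              _ = x * (zx * x) * zx := by rw [hc]
              _ = _ := by group
      rw [e2]
      exact mul_mem (hzmod x hx) (hzmod x hx)
    have hwe : e * (m⁻¹ * x) = m⁻¹ * x * e := mem_centralizer_iff.mp hfix.2 e he
    have e3 : ⁅x, e⁆ = m * (e * m * e⁻¹)⁻¹ := by
      rw [commutatorElement_def]
      calc x * e * x⁻¹ * e⁻¹ = m * (m⁻¹ * x * e) * (m⁻¹ * x)⁻¹ * m⁻¹ * e⁻¹ := by group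
        _ = m * (e * (m⁻¹ * x)) * (m⁻¹ * x)⁻¹ * m⁻¹ * e⁻¹ := by rw [hwe]
        _ = _ := by group
    rw [e3]
    exact mul_mem hmW (inv_mem (hEWm e he m hmW))
  have hinjW : ∀ x ∈ Wm, x ∈ 𝐙 → x = 1 := by
    intro x hx hxZ
    have h1 : x⁻¹ = x := by
      rw [← hx.2, mem_centralizer_iff.mp hxZ.2 z z.2]; group
    have h2 : x * x = 1 := by nth_rw 1 [← h1]; exact inv_mul_cancel x
    have h3 := W_cube hx.1
    rwa [h2, one_mul] at h3
  -- the parametrisation of `U`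
  have hex : ∀ v : Fin 2 → F, ∃ u : ↥𝐖, (u : G) ∈ 𝐔 ∧ Multiplicative.toAdd (ψ u) = v := by
    intro v
    obtain ⟨u, hu⟩ := hψ (Multiplicative.ofAdd v)
    have hUZ : 𝐔 ≤ normalizer ((𝐙 : Subgroup G) : Set G) := by
      refine (h.U_le_W.trans fun a ha => ?_).trans (centralizer_le_normalizer _)
      exact mem_centralizer_iff.mpr fun b hb => W_comm hb.1 ha
    obtain ⟨a, ha, c, hc, hac⟩ := (coe_mul_of_left_le_normalizer_right _ _ hUZ).le (h.W_eq.le u.2)
    refine ⟨⟨a, h.U_le_W ha⟩, ha, ?_⟩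
    have e : u = ⟨a, h.U_le_W ha⟩ * ⟨c, hc.1⟩ := Subtype.ext hac.symm
    have hc1 : ψ ⟨c, hc.1⟩ = 1 := (hker _).mpr hc
    have hu' := congrArg Multiplicative.toAdd hu
    rwa [e, map_mul, hc1, mul_one] at hu'
  choose s hsU hs using hex
  have huniq : ∀ a b : ↥𝐖, (a : G) ∈ Wm → (b : G) ∈ Wm → ψ a = ψ b → a = b := by
    intro a b ha hb hab
    have h1 : ((a * b⁻¹ : ↥𝐖) : G) = 1 := hinjW _ (mul_mem ha (inv_mem hb))
      ((hker _).mp (by rw [map_mul, map_inv, hab, mul_inv_cancel]))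
    exact mul_inv_eq_one.mp (Subtype.ext h1)
  have hsW : ∀ v, (s v : G) ∈ Wm := fun v => hUWm (hsU v)
  refine ⟨z, fun v => (s v : G), π,
    { zE := z.2, zz := hzz, inj := ?_, add := ?_, mem := ?_, zU := ?_, actU := ?_, ontoU := ?_,
      zQ := ?_, surj := hπ, ker := hkerQ, actQ := ?_, ontoQ := ?_ }⟩
  · intro u v huv
    rw [← hs u, ← hs v, show s u = s v from Subtype.ext huv]
  · intro u v
    rw [← Subgroup.coe_mul]
    refine congrArg Subtype.val (huniq _ _ (hsW _) (mul_mem (hsW _) (hsW _))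
      (Multiplicative.toAdd.injective ?_))
    rw [map_mul, toAdd_mul, hs, hs, hs]
  · refine fun x => ⟨fun hx => ⟨Multiplicative.toAdd (ψ ⟨x, h.U_le_W hx⟩), ?_⟩, ?_⟩
    · exact congrArg Subtype.val (huniq _ ⟨x, h.U_le_W hx⟩ (hsW _) (hUWm hx)
        (Multiplicative.toAdd.injective (hs _)))
    · rintro ⟨v, rfl⟩; exact hsU v
  · intro v
    rw [(hsW v).2, ← Subgroup.coe_inv]
    refine congrArg Subtype.val (huniq _ _ (inv_mem (hsW v)) (hsW _)
      (Multiplicative.toAdd.injective ?_))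
    rw [map_inv, toAdd_inv, hs, hs]
  · intro e he
    refine ⟨ρ ⟨e, he⟩, hρ.le ⟨_, rfl⟩, fun v => ?_⟩
    obtain ⟨w, hw, hw'⟩ := hact ⟨e, he⟩ (s v)
    rw [← hw]
    refine congrArg Subtype.val (huniq _ _ (hw ▸ hEWm e he _ (hsW v)) (hsW _)
      (Multiplicative.toAdd.injective ?_))
    rw [hw', hs, hs]
  · intro g hg
    obtain ⟨e, rfl⟩ := hρ.ge hg
    refine ⟨e, e.2, fun v => ?_⟩
    obtain ⟨w, hw, hw'⟩ := hact e (s v)
    rw [← hw]
    refine congrArg Subtype.val (huniq _ _ (hw ▸ hEWm e e.2 _ (hsW v)) (hsW _)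
      (Multiplicative.toAdd.injective ?_))
    rw [hw', hs, hs]
  · intro x hx
    obtain ⟨w, hw, hw'⟩ := hactQ z ⟨x, hx⟩
    rw [hρQz, Matrix.neg_mulVec, Matrix.one_mulVec] at hw'
    have : π (w * ⟨x, hx⟩) = 1 := Multiplicative.toAdd.injective (by
      rw [map_mul, toAdd_mul, hw', neg_add_cancel, toAdd_one])
    have h1 := (hkerQ _).mp this
    rwa [Subgroup.coe_mul, hw] at h1
  · intro e he
    refine ⟨ρQ ⟨e, he⟩, hρQ.le ⟨_, rfl⟩, fun x y hy => ?_⟩
    obtain ⟨w, hw, hw'⟩ := hactQ ⟨e, he⟩ x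
    rwa [show y = w from Subtype.ext (hy.trans hw.symm)]
  · intro g hg
    obtain ⟨e, rfl⟩ := hρQ.ge hg
    refine ⟨e, e.2, fun x y hy => ?_⟩
    obtain ⟨w, hw, hw'⟩ := hactQ e x
    rwa [show y = w from Subtype.ext (hy.trans hw.symm)]

end Exc

end CfsgLib.BlockNormal85
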