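import Cfsg.Agent.BlockNormal85.Blocks
import Cfsg.Agent.Components.Basic
import Cfsg.Agent.Coprime.Abelian
import Cfsg.Agent.LocalStructure.Tools
import Cfsg.Agent.S1340
import Cfsg.Agent.S2427

/-!
# Large and small blocks

A subnormal block is either quasisimple modulo `O_p(G)`, or it is small: `p ∈ {2, 3}`, its module has
order `p²` and is the natural module of `SL₂(p)` restricted to the elements of order prime to `p`.
-/

set_option linter.style.haveILetI false
set_option linter.unusedSectionVars false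

namespace CfsgLib.BlockNormal85

open Subgroup Cfsg
open scoped commutatorElement

/-- Two endomorphisms commuting with an irreducible set of endomorphisms commute. -/
theorem comm_of_irreducible {M : Type*} [AddCommGroup M] [Finite M] [Nontrivial M]
    (A : Set (AddMonoid.End M))
    (hirr : ∀ X : AddSubgroup M, (∀ a ∈ A, ∀ x ∈ X, a x ∈ X) → X = ⊥ ∨ X = ⊤)
    {f g : AddMonoid.End M} (hf : ∀ a ∈ A, a * f = f * a) (hg : ∀ a ∈ A, a * g = g * a) :
    f * g = g * f := by
  haveI : Finite (AddMonoid.End M) :=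
    Finite.of_injective (fun a : AddMonoid.End M => (a : M → M)) DFunLike.coe_injective
  set D := Subring.centralizer A with hD
  have hmem : ∀ {x : AddMonoid.End M}, x ∈ D ↔ ∀ a ∈ A, a * x = x * a := fun {x} =>
    Subring.mem_centralizer_iff
  haveI : NoZeroDivisors D := ⟨fun {x y} hxy => by
    by_contra hne
    push Not at hne
    have h0 : (x : AddMonoid.End M) * y = 0 := congrArg Subtype.val hxy
    have hker : AddMonoidHom.ker (x : M →+ M) = ⊥ := by
      refine (hirr _ fun a ha v hv => ?_).resolve_right fun htop => hne.1 ?_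
      · show (x : AddMonoid.End M) (a v) = 0
        have e := congrArg (fun φ : AddMonoid.End M => φ v) (hmem.mp x.2 a ha)
        simp only [AddMonoid.End.coe_mul, Function.comp_apply] at e
        rw [← e, show (x : AddMonoid.End M) v = 0 from hv, map_zero]
      · refine Subtype.ext (AddMonoidHom.ext fun v => ?_)
        exact htop.ge (AddSubgroup.mem_top v)
    refine hne.2 (Subtype.ext (AddMonoidHom.ext fun v => ?_))
    have : (y : AddMonoid.End M) v ∈ AddMonoidHom.ker (x : M →+ M) :=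
      congrArg (fun φ : AddMonoid.End M => φ v) h0
    rw [hker] at this
    exact this⟩
  haveI : Nontrivial (AddMonoid.End M) := by
    obtain ⟨v, hv⟩ := exists_ne (0 : M)
    exact ⟨⟨1, 0, fun h => hv (congrArg (fun φ : AddMonoid.End M => φ v) h)⟩⟩
  haveI : IsDomain D := NoZeroDivisors.to_isDomain D
  exact congrArg Subtype.val
    ((Finite.isDomain_to_isField D).mul_comm ⟨f, hmem.mpr hf⟩ ⟨g, hmem.mpr hg⟩)

variable {G : Type*} [Group G] [Finite G] {p : ℕ} [hp : Fact p.Prime]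

/-- Two elements commuting on `U` with a group irreducible on `U / Z` commute on `U / Z`. -/
theorem commute_mod {U Z E : Subgroup G} (hUc : ∀ a ∈ U, ∀ b ∈ U, a * b = b * a) (hZU : Z ≤ U)
    (hne : Z ≠ U) (hEU : E ≤ normalizer (U : Set G)) (hEZ : E ≤ normalizer (Z : Set G))
    (hirr : ∀ X : Subgroup G, Z ≤ X → X ≤ U → E ≤ normalizer (X : Set G) → X = Z ∨ X = U)
    {f g : G} (hfU : f ∈ normalizer (U : Set G)) (hfZ : f ∈ normalizer (Z : Set G))
    (hgU : g ∈ normalizer (U : Set G)) (hgZ : g ∈ normalizer (Z : Set G))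
    (hf : ∀ e ∈ E, ∀ u ∈ U, f * (e * u * e⁻¹) * f⁻¹ = e * (f * u * f⁻¹) * e⁻¹)
    (hg : ∀ e ∈ E, ∀ u ∈ U, g * (e * u * e⁻¹) * g⁻¹ = e * (g * u * g⁻¹) * e⁻¹)
    {u : G} (hu : u ∈ U) :
    ((f * g) * u * (f * g)⁻¹)⁻¹ * ((g * f) * u * (g * f)⁻¹) ∈ Z := by
  classical
  set Γ : Subgroup G := normalizer (U : Set G) ⊓ normalizer (Z : Set G)
  set Zs : Subgroup ↥U := Z.subgroupOf U with hZs
  haveI : Zs.Normal := ⟨fun a ha y => by
    rw [hZs, mem_subgroupOf] at ha ⊢
    rw [Subgroup.coe_mul, Subgroup.coe_mul, Subgroup.coe_inv, hUc _ y.2 _ a.2,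
      mul_inv_cancel_right]
    exact ha⟩
  have hcomm : ∀ a b : ↥U ⧸ Zs, a * b = b * a := by
    intro a b
    induction a using QuotientGroup.induction_on with | _ a => ?_
    induction b using QuotientGroup.induction_on with | _ b => ?_
    rw [← QuotientGroup.mk_mul, ← QuotientGroup.mk_mul,
      show a * b = b * a from Subtype.ext (hUc _ a.2 _ b.2)]
  letI : CommGroup (↥U ⧸ Zs) := { (inferInstance : Group (↥U ⧸ Zs)) with mul_comm := hcomm }
  let cg : ↥Γ → (↥U →* ↥U) := fun a =>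
    { toFun := fun x => ⟨a * x * (a : G)⁻¹, (mem_normalizer_iff.mp a.2.1 _).mp x.2⟩
      map_one' := Subtype.ext (by simp)
      map_mul' := fun x y => Subtype.ext (by simp [mul_assoc]) }
  have hcg : ∀ a : ↥Γ, Zs ≤ Zs.comap (cg a) := fun a x hx =>
    (mem_normalizer_iff.mp a.2.2 _).mp hx
  let φ : ↥Γ → AddMonoid.End (Additive (↥U ⧸ Zs)) := fun a =>
    MonoidHom.toAdditive (QuotientGroup.map Zs Zs (cg a) (hcg a))
  let mk : ↥U → Additive (↥U ⧸ Zs) := fun x => Additive.ofMul (QuotientGroup.mk x)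
  have hφ : ∀ a x, φ a (mk x) = mk (cg a x) := fun a x => rfl
  have hsurj : ∀ m, ∃ x, mk x = m := fun m => by
    obtain ⟨x, hx⟩ := QuotientGroup.mk_surjective m.toMul
    exact ⟨x, by simp [mk, hx]⟩
  have hmk : ∀ x y : ↥U, mk x = mk y ↔ (x : G)⁻¹ * y ∈ Z := fun x y =>
    (Additive.ofMul.injective.eq_iff.trans QuotientGroup.eq).trans Iff.rfl
  have hΓE : ∀ e ∈ E, e ∈ Γ := fun e he => ⟨hEU he, hEZ he⟩
  haveI : Nontrivial (Additive (↥U ⧸ Zs)) := by
    obtain ⟨x, hxU, hxZ⟩ := Set.not_subset.mp fun hsub : (U : Set G) ⊆ Z =>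
      hne (le_antisymm hZU hsub)
    exact ⟨⟨mk ⟨x, hxU⟩, mk 1, fun h => hxZ (by simpa using (hmk _ _).mp h)⟩⟩
  have hA : ∀ b : ↥Γ, (∀ e ∈ E, ∀ u ∈ U,
      (b : G) * (e * u * e⁻¹) * (b : G)⁻¹ = e * ((b : G) * u * (b : G)⁻¹) * e⁻¹) →
      ∀ a ∈ {a | ∃ e, ∃ he : e ∈ E, a = φ ⟨e, hΓE e he⟩}, a * φ b = φ b * a := by
    rintro b hb _ ⟨e, he, rfl⟩
    refine AddMonoidHom.ext fun m => ?_
    obtain ⟨x, rfl⟩ := hsurj m
    show φ _ (φ b (mk x)) = φ b (φ _ (mk x))
    rw [hφ, hφ, hφ, hφ]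
    exact congrArg mk (Subtype.ext (hb e he x x.2).symm)
  have key := comm_of_irreducible _ (fun X hX => ?_) (hA ⟨f, hfU, hfZ⟩ hf) (hA ⟨g, hgU, hgZ⟩ hg)
  · have e := congrArg (fun ψ : AddMonoid.End _ => ψ (mk ⟨u, hu⟩)) key
    simp only [AddMonoid.End.coe_mul, Function.comp_apply, hφ] at e
    have := (hmk _ _).mp e
    simpa [cg, mul_assoc] using this
  · let S : Subgroup G :=
      { carrier := {y | ∃ hy : y ∈ U, mk ⟨y, hy⟩ ∈ X}
        one_mem' := ⟨U.one_mem, X.zero_mem⟩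
        mul_mem' := fun {a b} ha hb => ⟨U.mul_mem ha.1 hb.1, X.add_mem ha.2 hb.2⟩
        inv_mem' := fun {a} ha => ⟨U.inv_mem ha.1, X.neg_mem ha.2⟩ }
    have hZS : Z ≤ S := fun z hz => ⟨hZU hz, by
      rw [show mk ⟨z, hZU hz⟩ = mk 1 from (hmk _ _).mpr (by simpa using Z.inv_mem hz)]
      exact X.zero_mem⟩
    have hES : E ≤ normalizer (S : Set G) := fun e he =>
      LocalStructure.mem_normalizer_of_forall fun y ⟨hy, hyX⟩ =>
        ⟨(mem_normalizer_iff.mp (hEU he) y).mp hy, hX _ ⟨e, he, rfl⟩ _ hyX⟩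
    rcases hirr S hZS (fun y hy => hy.1) hES with hS | hS
    · refine Or.inl ((AddSubgroup.eq_bot_iff_forall _).mpr fun m hm => ?_)
      obtain ⟨x, rfl⟩ := hsurj m
      have : (x : G) ∈ Z := hS.le ⟨x.2, hm⟩
      rw [show mk x = mk 1 from (hmk _ _).mpr (by simpa using Z.inv_mem this)]
      rfl
    · refine Or.inr ((AddSubgroup.eq_top_iff' _).mpr fun m => ?_)
      obtain ⟨x, rfl⟩ := hsurj m
      exact (hS.ge x.2).2

local notation "𝐑" => pCore p G

instance pCore_normal_inst85 : (pCore p G).Normal := LocalStructure.pCore_normal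

/-- The image of a block modulo `O_p(G)`. -/
abbrev bar (p : ℕ) {G : Type*} [Group G] (E : Subgroup G) : Subgroup (G ⧸ pCore p G) :=
  E.map (QuotientGroup.mk' (pCore p G))

/-- A small block: `p ≤ 3` and the module is natural for the `p'`-elements of `SL₂(p)`. -/
structure Small (p : ℕ) (E : Subgroup G) : Prop where
  le3 : p = 2 ∨ p = 3
  fixed : modU p E ⊓ centralizer (E : Set G) = ⊥
  solv : Group.IsSolvable ↥(bar p E)
  coord : ∃ ι : (Fin 2 → ZMod p) → G, Function.Injective ι ∧ (∀ a b, ι (a + b) = ι a * ι b) ∧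
    (∀ x, x ∈ modU p E ↔ ∃ v, ι v = x) ∧
    (∀ e ∈ E, ∃ g : Matrix.SpecialLinearGroup (Fin 2) (ZMod p), ∀ v,
      e * ι v * e⁻¹ = ι ((g : Matrix (Fin 2) (Fin 2) (ZMod p)).mulVec v)) ∧
    ∀ g : Matrix.SpecialLinearGroup (Fin 2) (ZMod p), (orderOf g).Coprime p → ∃ e ∈ E, ∀ v,
      e * ι v * e⁻¹ = ι ((g : Matrix (Fin 2) (Fin 2) (ZMod p)).mulVec v)

theorem Small.card_U {E : Subgroup G} (h : Small p E) : Nat.card (modU p E) = p ^ 2 := by
  obtain ⟨ι, hinj, -, hmem, -⟩ := h.coord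
  have e : (Fin 2 → ZMod p) ≃ ↥(modU p E) :=
    Equiv.ofBijective (fun v => ⟨ι v, (hmem _).mpr ⟨v, rfl⟩⟩)
      ⟨fun a b hab => hinj (congrArg Subtype.val hab),
        fun x => by obtain ⟨v, hv⟩ := (hmem _).mp x.2; exact ⟨v, Subtype.ext hv⟩⟩
  rw [← Nat.card_congr e]
  simp

theorem prime_index_facts :
    (Fintype.card (Matrix.SpecialLinearGroup (Fin 2) (ZMod 2)) = 3 * 2 ∧
      Fintype.card {g : Matrix.SpecialLinearGroup (Fin 2) (ZMod 2) // g ^ 3 = 1} = 3) ∧
    (Fintype.card (Matrix.SpecialLinearGroup (Fin 2) (ZMod 3)) = 8 * 3 ∧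
      Fintype.card {g : Matrix.SpecialLinearGroup (Fin 2) (ZMod 3) // g ^ 8 = 1} = 8) := by
  refine ⟨⟨?_, ?_⟩, ?_, ?_⟩ <;> decide +kernel

theorem card_commutator_SL2_two :
    Nat.card (commutator (Matrix.SpecialLinearGroup (Fin 2) (ZMod 2))) = 3 := by
  let S : Subgroup (Matrix.SpecialLinearGroup (Fin 2) (ZMod 2)) :=
    { carrier := {g | g ^ 3 = 1}
      one_mem' := one_pow 3
      mul_mem' := fun {a b} => (by decide +kernel : ∀ a b : Matrix.SpecialLinearGroup (Fin 2)
        (ZMod 2), a ^ 3 = 1 → b ^ 3 = 1 → (a * b) ^ 3 = 1) a b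
      inv_mem' := fun {a} (ha : a ^ 3 = 1) => show a⁻¹ ^ 3 = 1 by rw [inv_pow, ha, inv_one] }
  have hle : commutator (Matrix.SpecialLinearGroup (Fin 2) (ZMod 2)) ≤ S := by
    rw [commutator_def, commutator_le]
    intro a _ b _
    show ⁅a, b⁆ ^ 3 = 1
    rw [commutatorElement_def]
    exact (by decide +kernel : ∀ a b : Matrix.SpecialLinearGroup (Fin 2) (ZMod 2),
      (a * b * a⁻¹ * b⁻¹) ^ 3 = 1) a b
  have hS : Nat.card S = 3 := by
    rw [← prime_index_facts.1.2, ← Nat.card_eq_fintype_card]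
    exact Nat.card_congr (Equiv.subtypeEquivRight fun _ => Iff.rfl)
  have hdvd := Subgroup.card_dvd_of_le hle
  rw [hS] at hdvd
  refine ((Nat.dvd_prime Nat.prime_three).mp hdvd).resolve_left fun h1 => ?_
  have hb := eq_bot_of_card_eq _ h1
  obtain ⟨a, b, hab⟩ := (by decide +kernel : ∃ a b : Matrix.SpecialLinearGroup (Fin 2) (ZMod 2),
    a * b * a⁻¹ * b⁻¹ ≠ 1)
  refine hab ?_
  rw [← commutatorElement_def, ← mem_bot, ← hb]
  exact commutator_mem_commutator (mem_top a) (mem_top b)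

/-- The action of `S₃` on the even-weight vectors, in the coordinates `(v 0, v 1)`. -/
def perm3Mat (s : Equiv.Perm (Fin 3)) : Matrix (Fin 2) (Fin 2) (ZMod 2) :=
  !![(![1, 0, 1] : Fin 3 → ZMod 2) (s⁻¹ 0), (![0, 1, 1] : Fin 3 → ZMod 2) (s⁻¹ 0);
    (![1, 0, 1] : Fin 3 → ZMod 2) (s⁻¹ 1), (![0, 1, 1] : Fin 3 → ZMod 2) (s⁻¹ 1)]

theorem perm3_facts : (∀ s, (perm3Mat s).det = 1) ∧
    (∀ s t, perm3Mat (s * t) = perm3Mat s * perm3Mat t) ∧
    (∀ s t, perm3Mat s = perm3Mat t → s = t) ∧ (∀ s (v : Fin 3 → ZMod 2), ∑ i, v i = 0 →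
      (perm3Mat s).mulVec ![v 0, v 1] = ![v (s⁻¹ 0), v (s⁻¹ 1)]) := by
  refine ⟨?_, ?_, ?_, ?_⟩ <;> decide +kernel

theorem two_sum_facts : ∀ a b : ZMod 2, a + b + (a + b) = 0 := by decide

namespace IsBlockOf

variable {E : Subgroup G} (h : IsBlockOf p E) (hs : E.IsSubnormal)
include h hs

theorem bar_equiv : Nonempty (↥E ⧸ pCore p ↥E ≃* ↥(bar p E)) := by
  haveI : (pCore p ↥E).Normal := LocalStructure.pCore_normal
  set f := (QuotientGroup.mk' 𝐑).comp E.subtype with hf
  have hker : pCore p ↥E = f.ker := by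
    refine map_injective E.subtype_injective ?_
    show pCoreOf p E = _
    rw [hf, ← MonoidHom.comap_ker, QuotientGroup.ker_mk', h.Q_eq hs, map_comap_eq, range_subtype]
  have hrange : f.range = bar p E := by rw [hf, MonoidHom.range_comp, range_subtype]
  exact ⟨((QuotientGroup.quotientMulEquivOfEq hker).trans
    (QuotientGroup.quotientKerEquivRange f)).trans (MulEquiv.subgroupCongr hrange)⟩

theorem bar_subnormal : (bar p E).IsSubnormal := hs.quotient

theorem perfect_mod (hq : Cfsg.IsQuasisimple ↥(bar p E)) : E ≤ ⁅E, E⁆ ⊔ 𝐑 := by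
  have hc : Cfsg.IsComponent (bar p E) := ⟨h.bar_subnormal hs, hq⟩
  intro e he
  have : QuotientGroup.mk' 𝐑 e ∈ (⁅E, E⁆).map (QuotientGroup.mk' 𝐑) := by
    rw [map_commutator, Components.IsComponent.commutator_eq_self hc]
    exact ⟨e, he, rfl⟩
  rw [← mem_comap, comap_map_eq, QuotientGroup.ker_mk'] at this
  exact this

omit hs in
/-- An element of `E` of order prime to `p` in the coset of a given element, modulo `O_p(E)`. -/
theorem exists_coprime_congr (hk : (Nat.card (↥E ⧸ pCore p ↥E)).Coprime p) (e : ↥E) :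
    ∃ b : ↥E, (orderOf (b : G)).Coprime p ∧
      (QuotientGroup.mk b : ↥E ⧸ pCore p ↥E) = QuotientGroup.mk e := by
  haveI : (pCore p ↥E).Normal := LocalStructure.pCore_normal
  obtain ⟨a, b, ha, hb, ⟨i, hi⟩, hb', hab⟩ := LocalStructure.exists_pPart_mul (p := p) e
  refine ⟨b, by rwa [orderOf_coe], ?_⟩
  have h1 : (QuotientGroup.mk a : ↥E ⧸ pCore p ↥E) = 1 := by
    rw [← orderOf_eq_one_iff]
    refine Nat.eq_one_of_dvd_coprimes (Nat.Coprime.pow_right i hk) (orderOf_dvd_natCard _) ?_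
    rw [← hi]
    exact orderOf_map_dvd (QuotientGroup.mk' (pCore p ↥E)) a
  rw [← hab, QuotientGroup.mk_mul, h1, one_mul]

omit hs in
/-- An element of order prime to `p` commuting with the block on the module, and not centralising it,
leaves the block no fixed points in the module. -/
theorem fixed_eq_bot_of_commuting {b : G} (hbE : b ∈ E) (hb : (orderOf b).Coprime p)
    (hcomm : ∀ g ∈ E, ∀ u ∈ modU p E, b * (g * u * g⁻¹) * b⁻¹ = g * (b * u * b⁻¹) * g⁻¹)
    (hbC : b ∉ centralizer (modU p E : Set G)) :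
    modU p E ⊓ centralizer (E : Set G) = ⊥ := by
  set U := modU p E
  have hbU : b ∈ normalizer (U : Set G) := le_normalizer_modU_self E hbE
  have hcop := coprime_zpowers (isPGroup_modU (p := p) E) hb
  haveI : IsMulCommutative ↥U := (modU_elem E).1
  have hAV : zpowers b ≤ normalizer (U : Set G) := zpowers_le.mpr hbU
  set X := U ⊓ centralizer (zpowers b : Set G)
  set Y := ⁅U, zpowers b⁆
  have hdisj : X ⊓ Y = ⊥ := Coprime.inf_centralizer_inf_commutator_eq_bot hAV hcop
  have hsup : X ⊔ Y = U := Coprime.inf_centralizer_sup_commutator_eq hAV hcop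
  have hYU : Y ≤ U := Coprime.commutator_le_of_le_normalizer hAV
  have hEY : E ≤ normalizer (Y : Set G) := by
    intro g hg
    refine mem_normalizer_iff_map_conj_eq.mpr (eq_of_le_of_card_ge ?_
      (card_map_of_injective (MulAut.conj g).injective).ge)
    rw [map_le_iff_le_comap, commutator_le]
    intro u hu a ha
    obtain ⟨i, rfl⟩ := mem_zpowers_iff.mp ha
    show g * ⁅u, b ^ i⁆ * g⁻¹ ∈ Y
    have hi : ∀ i : ℕ, ∀ u ∈ U, b ^ i * (g * u * g⁻¹) * (b ^ i)⁻¹ =
        g * (b ^ i * u * (b ^ i)⁻¹) * g⁻¹ := by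
      intro i
      induction i with
      | zero => intro u _; simp
      | succ i ih =>
        intro u hu
        have hbu : b * u * b⁻¹ ∈ U := (mem_normalizer_iff.mp hbU u).mp hu
        have := ih _ hbu
        rw [← hcomm g hg u hu] at this
        simpa [pow_succ, mul_assoc] using this
    obtain ⟨i', hi'⟩ : ∃ i' : ℕ, b ^ i = b ^ i' := by
      obtain ⟨n, hn⟩ := Submonoid.mem_powers_iff _ _ |>.mp
        (mem_powers_iff_mem_zpowers.mpr (zpow_mem (mem_zpowers b) i))
      exact ⟨n, hn.symm⟩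
    rw [hi']
    have e : g * ⁅u, b ^ i'⁆ * g⁻¹ = ⁅g * u * g⁻¹, b ^ i'⁆ := by
      have h2 := hi i' u⁻¹ (inv_mem hu)
      rw [commutatorElement_def, commutatorElement_def]
      calc g * (u * b ^ i' * u⁻¹ * (b ^ i')⁻¹) * g⁻¹
          = (g * u * g⁻¹) * (g * (b ^ i' * u⁻¹ * (b ^ i')⁻¹) * g⁻¹) := by group
        _ = _ := by rw [← h2]; group
    rw [e]
    exact commutator_mem_commutator ((mem_normalizer_iff.mp (le_normalizer_modU_self E hg) u).mp hu)
      (pow_mem (mem_zpowers _) i')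
  have hXC : U ⊓ centralizer (E : Set G) ≤ X :=
    inf_le_inf_left _ (centralizer_le (zpowers_le.mpr hbE))
  rcases h.U_cases hYU hEY with hY | hY
  · exfalso
    have hYb : Y = ⊥ := by
      rw [eq_bot_iff, ← hdisj]
      exact le_inf ((le_inf hYU hY).trans hXC) le_rfl
    exact hbC (le_centralizer_iff.mp (commutator_eq_bot_iff_le_centralizer.mp hYb) (mem_zpowers b))
  · rw [eq_bot_iff, ← hdisj, hY]
    exact le_inf hXC inf_le_left

omit hs in
/-- A block of order prime to `p` modulo `O_p` with non-trivial centre there fixes nothing in its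
module. -/
theorem fixed_eq_bot {r j : ℕ} [Fact r.Prime]
    (hk : Nat.card (↥E ⧸ pCore p ↥E) = r ^ j) (hj : j ≠ 0) (hrp : r.Coprime p) :
    modU p E ⊓ centralizer (E : Set G) = ⊥ := by
  haveI : (pCore p ↥E).Normal := LocalStructure.pCore_normal
  haveI : Nontrivial (↥E ⧸ pCore p ↥E) := by
    rw [← Finite.one_lt_card_iff_nontrivial, hk]
    exact Nat.one_lt_pow hj (Fact.out : r.Prime).one_lt
  haveI := (IsPGroup.of_card hk).center_nontrivial
  obtain ⟨c, hc⟩ := exists_ne (1 : Subgroup.center (↥E ⧸ pCore p ↥E))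
  obtain ⟨e, he⟩ := QuotientGroup.mk_surjective (c : ↥E ⧸ pCore p ↥E)
  obtain ⟨b, hb, hbe⟩ := h.exists_coprime_congr (hk ▸ hrp.pow_left j) e
  set U := modU p E
  have hbQ : (b : G) ∉ pCoreOf p E := by
    rintro ⟨q, hq, hqb⟩
    rw [E.subtype_injective hqb] at hq
    exact hc (Subtype.ext (by
      rw [← he, ← hbe]; exact (QuotientGroup.eq_one_iff _).mpr hq))
  have hcomm : ∀ g ∈ E, ∀ u ∈ U,
      (b : G) * (g * u * g⁻¹) * (b : G)⁻¹ = g * ((b : G) * u * (b : G)⁻¹) * g⁻¹ := by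
    intro g hg u hu
    have hq : ((b⁻¹ * ⟨g, hg⟩⁻¹ * b * ⟨g, hg⟩ : ↥E) : G) ∈ pCoreOf p E := by
      refine ⟨b⁻¹ * ⟨g, hg⟩⁻¹ * b * ⟨g, hg⟩, (QuotientGroup.eq_one_iff _).mp ?_, rfl⟩
      rw [QuotientGroup.mk_mul, QuotientGroup.mk_mul, QuotientGroup.mk_mul, QuotientGroup.mk_inv,
        QuotientGroup.mk_inv, hbe, he, mul_assoc _ (c : ↥E ⧸ pCore p ↥E),
        ← mem_center_iff.mp c.2, mul_assoc, inv_mul_cancel_left, inv_mul_cancel]
    have hqu : ∀ q ∈ pCoreOf p E, q * u * q⁻¹ = u := fun q hq => by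
      rw [mem_centralizer_iff.mp (LocalEven50.omegaOneCenter_le_centralizer _ (h.U_le_W hu)) q hq,
        mul_inv_cancel_right]
    have := hqu _ hq
    simp only [Subgroup.coe_mul, Subgroup.coe_inv] at this
    calc (b : G) * (g * u * g⁻¹) * (b : G)⁻¹
        = g * (b * (((b : G)⁻¹ * g⁻¹ * b * g) * u * ((b : G)⁻¹ * g⁻¹ * b * g)⁻¹) * (b : G)⁻¹) *
          g⁻¹ := by group
      _ = _ := by rw [this]
  refine h.fixed_eq_bot_of_commuting b.2 hb hcomm fun hbC => hbQ ?_
  exact h.inf_centralizer_U_le_Q ⟨b.2, hbC⟩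

omit hs in
/-- Coordinates for a small block. -/
theorem coord_of_rep {k : ℕ}
    (hcard : Nat.card (Matrix.SpecialLinearGroup (Fin 2) (ZMod p)) = k * p)
    (hroots : Nat.card {g : Matrix.SpecialLinearGroup (Fin 2) (ZMod p) // g ^ k = 1} = k)
    (hfix : modU p E ⊓ centralizer (E : Set G) = ⊥)
    (ρ : ↥E →* Matrix.SpecialLinearGroup (Fin 2) (ZMod p)) (hρ : Nat.card ρ.range = k)
    (ψ : ↥(omegaOneCenter p (pCoreOf p E)) →* Multiplicative (Fin 2 → ZMod p))
    (hψ : Function.Surjective ψ)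
    (hker : ∀ w, ψ w = 1 ↔
      (w : G) ∈ omegaOneCenter p (pCoreOf p E) ⊓ centralizer (E : Set G))
    (hact : ∀ (e : ↥E) (u : ↥(omegaOneCenter p (pCoreOf p E))),
      ∃ w : ↥(omegaOneCenter p (pCoreOf p E)), (w : G) = (e : G) * (u : G) * (e : G)⁻¹ ∧
        Multiplicative.toAdd (ψ w) = ((ρ e : Matrix.SpecialLinearGroup (Fin 2) (ZMod p)) :
          Matrix (Fin 2) (Fin 2) (ZMod p)).mulVec (Multiplicative.toAdd (ψ u))) :
    ∃ ι : (Fin 2 → ZMod p) → G, Function.Injective ι ∧ (∀ a b, ι (a + b) = ι a * ι b) ∧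
    (∀ x, x ∈ modU p E ↔ ∃ v, ι v = x) ∧
    (∀ e ∈ E, ∃ g : Matrix.SpecialLinearGroup (Fin 2) (ZMod p), ∀ v,
      e * ι v * e⁻¹ = ι ((g : Matrix (Fin 2) (Fin 2) (ZMod p)).mulVec v)) ∧
    ∀ g : Matrix.SpecialLinearGroup (Fin 2) (ZMod p), (orderOf g).Coprime p → ∃ e ∈ E, ∀ v,
      e * ι v * e⁻¹ = ι ((g : Matrix (Fin 2) (Fin 2) (ZMod p)).mulVec v) := by
  have hex : ∀ v : Fin 2 → ZMod p, ∃ u : ↥(omegaOneCenter p (pCoreOf p E)), (u : G) ∈ modU p E ∧
      Multiplicative.toAdd (ψ u) = v := by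
    intro v
    obtain ⟨w, hw⟩ := hψ (Multiplicative.ofAdd v)
    obtain ⟨u, hu, c, hc, huc⟩ := h.W_mul w.2
    refine ⟨⟨u, h.U_le_W hu⟩, hu, ?_⟩
    have e : w = ⟨u, h.U_le_W hu⟩ * ⟨c, hc.1⟩ := Subtype.ext huc.symm
    have hc1 : ψ ⟨c, hc.1⟩ = 1 := (hker _).mpr hc
    rw [e, map_mul, hc1, mul_one] at hw
    rw [hw]; rfl
  choose s hsU hs using hex
  have huniq : ∀ a b : ↥(omegaOneCenter p (pCoreOf p E)), (a : G) ∈ modU p E → (b : G) ∈ modU p E → ψ a = ψ b → a = b := by
    intro a b ha hb hab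
    have h1 : ((a * b⁻¹ : ↥(omegaOneCenter p (pCoreOf p E))) : G) ∈ modU p E ⊓ centralizer (E : Set G) :=
      ⟨Subgroup.mul_mem _ ha (Subgroup.inv_mem _ hb), ((hker _).mp (by rw [map_mul, map_inv, hab, mul_inv_cancel])).2⟩
    rw [hfix] at h1
    exact mul_inv_eq_one.mp (Subtype.ext h1)
  have hconj : ∀ (e : ↥E) v, (e : G) * (s v : G) * (e : G)⁻¹ =
      s (((ρ e : Matrix.SpecialLinearGroup (Fin 2) (ZMod p)) :
        Matrix (Fin 2) (Fin 2) (ZMod p)).mulVec v) := by
    intro e v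
    obtain ⟨w, hw, hw'⟩ := hact e (s v)
    rw [← hw]
    refine congrArg Subtype.val (huniq _ _ ?_ (hsU _) (Multiplicative.toAdd.injective ?_))
    · rw [hw]
      exact (mem_normalizer_iff.mp (le_normalizer_modU_self E e.2) _).mp (hsU v)
    · rw [hw', hs, hs]
  refine ⟨fun v => (s v : G), ?_, ?_, ?_, fun e he => ⟨ρ ⟨e, he⟩, hconj ⟨e, he⟩⟩, ?_⟩
  · intro u v huv
    rw [← hs u, ← hs v, show s u = s v from Subtype.ext huv]
  · intro u v
    rw [← Subgroup.coe_mul]
    refine congrArg Subtype.val (huniq _ _ (hsU _) (mul_mem (hsU u) (hsU v))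
      (Multiplicative.toAdd.injective ?_))
    rw [map_mul, toAdd_mul, hs, hs, hs]
  · refine fun x => ⟨fun hx => ⟨Multiplicative.toAdd (ψ ⟨x, h.U_le_W hx⟩), ?_⟩, ?_⟩
    · exact congrArg Subtype.val (huniq _ ⟨x, h.U_le_W hx⟩ (hsU _) hx
        (Multiplicative.toAdd.injective (hs _)))
    · rintro ⟨v, rfl⟩; exact hsU v
  · intro g hg
    have hgk : g ^ k = 1 := by
      refine orderOf_dvd_iff_pow_eq_one.mp (hg.dvd_of_dvd_mul_right ?_)
      rw [← hcard]; exact orderOf_dvd_natCard g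
    have hsub : (ρ.range : Set (Matrix.SpecialLinearGroup (Fin 2) (ZMod p))) ⊆ {g | g ^ k = 1} :=
      fun x hx => by
        have h1 : (⟨x, hx⟩ : ρ.range) ^ Nat.card ρ.range = 1 := pow_card_eq_one'
        rw [hρ] at h1
        exact congrArg Subtype.val h1
    have heq := Set.eq_of_subset_of_ncard_le hsub (by
      rw [← Nat.card_coe_set_eq, ← Nat.card_coe_set_eq]
      exact (hroots.le.trans hρ.ge))
    obtain ⟨e, he⟩ := heq.ge (show g ∈ {g | g ^ k = 1} from hgk)
    exact ⟨e, e.2, fun v => by rw [hconj, he]⟩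

/-- A block of `SL₂(q)` type with `q ≤ 3` is small. -/
theorem small_of_linear {F : Type} [Field F] [Fintype F] {n : ℕ} (hn : Fintype.card F = p ^ n)
    (iso : ↥E ⧸ pCore p ↥E ≃* ↥(commutator (Matrix.SpecialLinearGroup (Fin 2) F)))
    (hsec : ActsAsSL2OnSection F (commutator (Matrix.SpecialLinearGroup (Fin 2) F)) E
      (omegaOneCenter p (pCoreOf p E))
      (omegaOneCenter p (pCoreOf p E) ⊓ centralizer (E : Set G)))
    (hq : ¬ 4 ≤ Fintype.card F) : Small p E := by
  obtain ⟨-, -, ρ, ψ, hρ, hψ, hker, hact⟩ := hsec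
  classical
  haveI : (pCore p ↥E).Normal := LocalStructure.pCore_normal
  obtain ⟨φ⟩ := h.bar_equiv hs
  have hsolv : ∀ r : ℕ, r.Prime → ∀ j, Nat.card (↥E ⧸ pCore p ↥E) = r ^ j →
      Group.IsSolvable ↥(bar p E) := by
    intro r hr j hk
    haveI := Fact.mk hr
    haveI := (IsPGroup.of_card ((Nat.card_congr φ.toEquiv).symm.trans hk)).isNilpotent
    infer_instance
  have hWE : ∀ q ∈ pCoreOf p E, ∀ w ∈ omegaOneCenter p (pCoreOf p E), q * w = w * q :=
    fun q hq w hw =>
      mem_centralizer_iff.mp (LocalEven50.omegaOneCenter_le_centralizer _ hw) q hq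
  have hn0 : n ≠ 0 := by
    rintro rfl
    have := Fintype.one_lt_card (α := F)
    rw [hn, pow_zero] at this
    exact lt_irrefl 1 this
  have hn1 : n = 1 := by
    rcases n with - | - | n
    · exact absurd rfl hn0
    · rfl
    · refine absurd ?_ hq
      rw [hn]
      calc 4 = 2 ^ 2 := rfl
        _ ≤ p ^ 2 := Nat.pow_le_pow_left hp.out.two_le 2
        _ ≤ p ^ (n + 2) := Nat.pow_le_pow_right hp.out.pos (by omega)
  subst hn1
  rw [pow_one] at hn
  have hp3 : p = 2 ∨ p = 3 := by have := hp.out.two_le; omega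
  let σ : F ≃+* ZMod p := (ZMod.ringEquivOfPrime F hp.out hn).symm
  let M := Matrix.SpecialLinearGroup.map (n := Fin 2) (σ : F →+* ZMod p)
  have hM : Function.Surjective M := fun g =>
    ⟨Matrix.SpecialLinearGroup.map (σ.symm : ZMod p →+* F) g, Subtype.ext (by
      ext i j; simp [M])⟩
  have hMi : Function.Injective M := fun a b hab => Subtype.ext (by
    ext i j
    have := congrArg (fun g : Matrix.SpecialLinearGroup (Fin 2) (ZMod p) => g.1 i j) hab
    simpa [M] using this)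
  let ψ' : ↥(omegaOneCenter p (pCoreOf p E)) →* Multiplicative (Fin 2 → ZMod p) :=
    { toFun := fun w => Multiplicative.ofAdd (σ ∘ Multiplicative.toAdd (ψ w))
      map_one' := by ext i; simp
      map_mul' := fun a b => by ext i; simp }
  have hrange : (M.comp ρ).range = commutator (Matrix.SpecialLinearGroup (Fin 2) (ZMod p)) := by
    rw [MonoidHom.range_comp, hρ, commutator_def, map_commutator,
      Subgroup.map_top_of_surjective M hM, commutator_def]
  have hk1 : Nat.card (↥E ⧸ pCore p ↥E) =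
      Nat.card (commutator (Matrix.SpecialLinearGroup (Fin 2) (ZMod p))) := by
    rw [Nat.card_congr iso.toEquiv, ← hrange, MonoidHom.range_comp, hρ]
    exact (Subgroup.card_map_of_injective hMi).symm
  have hψ' : Function.Surjective ψ' := fun v => by
    obtain ⟨w, hw⟩ := hψ (Multiplicative.ofAdd (σ.symm ∘ Multiplicative.toAdd v))
    exact ⟨w, by ext i; simp [ψ', hw]⟩
  have hker' : ∀ w, ψ' w = 1 ↔ (w : G) ∈ omegaOneCenter p (pCoreOf p E) ⊓
      centralizer (E : Set G) := fun w => by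
    rw [← hker]
    refine ⟨fun hw => ?_, fun hw => by ext i; simp [ψ', hw]⟩
    refine Multiplicative.toAdd.injective (funext fun i => σ.injective ?_)
    simpa [ψ'] using congrFun (congrArg Multiplicative.toAdd hw) i
  have hact' : ∀ (e : ↥E) (u : ↥(omegaOneCenter p (pCoreOf p E))),
      ∃ w : ↥(omegaOneCenter p (pCoreOf p E)), (w : G) = (e : G) * (u : G) * (e : G)⁻¹ ∧
        Multiplicative.toAdd (ψ' w) = (((M.comp ρ) e : Matrix.SpecialLinearGroup (Fin 2)
          (ZMod p)) : Matrix (Fin 2) (Fin 2) (ZMod p)).mulVec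
            (Multiplicative.toAdd (ψ' u)) := by
    intro e u
    obtain ⟨w, hw, hw'⟩ := hact e u
    refine ⟨w, hw, funext fun i => ?_⟩
    show σ (Multiplicative.toAdd (ψ w) i) = _
    rw [hw']
    exact RingHom.map_mulVec (σ : F →+* ZMod p) _ _ i
  rcases hp3 with rfl | rfl
  · haveI := Fact.mk Nat.prime_three
    have hk : Nat.card (↥E ⧸ pCore 2 ↥E) = 3 ^ 1 := by
      rw [hk1, card_commutator_SL2_two]; norm_num
    have hfix := h.fixed_eq_bot hk one_ne_zero (by decide)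
    exact ⟨Or.inl rfl, hfix, hsolv 3 Nat.prime_three 1 hk, h.coord_of_rep (k := 3)
      (by rw [Nat.card_eq_fintype_card]; exact prime_index_facts.1.1)
      (by rw [Nat.card_eq_fintype_card]; exact prime_index_facts.1.2) hfix _
      (by rw [hrange, card_commutator_SL2_two]) ψ' hψ' hker' hact'⟩
  · haveI := Fact.mk Nat.prime_two
    have hk : Nat.card (↥E ⧸ pCore 3 ↥E) = 2 ^ 3 := by
      rw [hk1, Cfsg.Agent.S2427.result.2.2.1]; norm_num
    have hfix := h.fixed_eq_bot hk (by norm_num) (by decide)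
    exact ⟨Or.inr rfl, hfix, hsolv 2 Nat.prime_two 3 hk, h.coord_of_rep (k := 8)
      (by rw [Nat.card_eq_fintype_card]; exact prime_index_facts.2.1)
      (by rw [Nat.card_eq_fintype_card]; exact prime_index_facts.2.2) hfix _
      (by rw [hrange, Cfsg.Agent.S2427.result.2.2.1]) ψ' hψ' hker' hact'⟩

/-- A block of alternating type of degree at most three is small. -/
theorem small_of_alt {m : ℕ} (hp2 : p = 2)
    (iso : ↥E ⧸ pCore p ↥E ≃* ↥(alternatingGroup (Fin (2 * m + 1))))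
    (hsec : ActsAsOddPermModuleOnSection (2 * m + 1) (alternatingGroup (Fin (2 * m + 1))) E
      (omegaOneCenter p (pCoreOf p E))
      (omegaOneCenter p (pCoreOf p E) ⊓ centralizer (E : Set G)))
    (hm : m < 2) : Small p E := by
  obtain ⟨-, -, ρ, ψ, hρ, hsum, hψ, hker, hact⟩ := hsec
  classical
  haveI : (pCore p ↥E).Normal := LocalStructure.pCore_normal
  obtain ⟨φ⟩ := h.bar_equiv hs
  have hsolv : ∀ r : ℕ, r.Prime → ∀ j, Nat.card (↥E ⧸ pCore p ↥E) = r ^ j →
      Group.IsSolvable ↥(bar p E) := by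
    intro r hr j hk
    haveI := Fact.mk hr
    haveI := (IsPGroup.of_card ((Nat.card_congr φ.toEquiv).symm.trans hk)).isNilpotent
    infer_instance
  have hWE : ∀ q ∈ pCoreOf p E, ∀ w ∈ omegaOneCenter p (pCoreOf p E), q * w = w * q :=
    fun q hq w hw =>
      mem_centralizer_iff.mp (LocalEven50.omegaOneCenter_le_centralizer _ hw) q hq
  subst hp2
  interval_cases m
  · exfalso
    refine h.U_ne_bot ?_
    rw [← h.U_idem, commutator_eq_bot_iff_le_centralizer]
    intro u hu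
    have h1 : ψ ⟨u, h.U_le_W hu⟩ = 1 := by
      refine Multiplicative.toAdd.injective (funext fun i => ?_)
      haveI : Subsingleton (Fin (2 * 0 + 1)) := inferInstanceAs (Subsingleton (Fin 1))
      have := hsum ⟨u, h.U_le_W hu⟩
      rw [Fintype.sum_subsingleton _ i] at this
      simpa using this
    exact ((hker _).mp h1).2
  obtain ⟨hdet, hmul, hm3i, hm3v⟩ := perm3_facts
  let Mh : Equiv.Perm (Fin 3) →* Matrix.SpecialLinearGroup (Fin 2) (ZMod 2) :=
    MonoidHom.mk' (fun s => ⟨perm3Mat s, hdet s⟩) fun s t => Subtype.ext (hmul s t)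
  let ψ' : ↥(omegaOneCenter 2 (pCoreOf 2 E)) →* Multiplicative (Fin 2 → ZMod 2) :=
    { toFun := fun w => Multiplicative.ofAdd
        ![Multiplicative.toAdd (ψ w) 0, Multiplicative.toAdd (ψ w) 1]
      map_one' := by ext i; fin_cases i <;> simp
      map_mul' := fun a b => by ext i; fin_cases i <;> simp }
  haveI := Fact.mk Nat.prime_three
  have hcA : Nat.card ↥(alternatingGroup (Fin (2 * 1 + 1))) = 3 := by
    rw [Nat.card_eq_fintype_card]; decide +kernel
  have hk : Nat.card (↥E ⧸ pCore 2 ↥E) = 3 ^ 1 := by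
    rw [Nat.card_congr iso.toEquiv, hcA]; norm_num
  have hfix := h.fixed_eq_bot hk one_ne_zero (by decide)
  refine ⟨Or.inl rfl, hfix, hsolv 3 Nat.prime_three 1 hk, h.coord_of_rep (k := 3)
    (by rw [Nat.card_eq_fintype_card]; exact prime_index_facts.1.1)
    (by rw [Nat.card_eq_fintype_card]; exact prime_index_facts.1.2) hfix (Mh.comp ρ) ?_ ψ'
    ?_ ?_ ?_⟩
  · rw [MonoidHom.range_comp, hρ]
    exact (Subgroup.card_map_of_injective (f := Mh)
      fun s t hst => hm3i s t (congrArg Subtype.val hst)).trans hcA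
  · intro v
    obtain ⟨w, hw⟩ := hψ ![Multiplicative.toAdd v 0, Multiplicative.toAdd v 1,
      Multiplicative.toAdd v 0 + Multiplicative.toAdd v 1] (by
        exact (Fin.sum_univ_three _).trans
          (two_sum_facts _ _))
    exact ⟨w, by ext i; fin_cases i <;> simp [ψ', hw]⟩
  · intro w
    rw [← hker]
    refine ⟨fun hw => ?_, fun hw => by ext i; fin_cases i <;> simp [ψ', hw]⟩
    have h0 := hsum w
    have e0 : Multiplicative.toAdd (ψ w) 0 = 0 := by
      simpa [ψ'] using congrFun (congrArg Multiplicative.toAdd hw) 0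
    have e1 : Multiplicative.toAdd (ψ w) 1 = 0 := by
      simpa [ψ'] using congrFun (congrArg Multiplicative.toAdd hw) 1
    rw [Fin.sum_univ_three, e0, e1, zero_add, zero_add] at h0
    ext i; fin_cases i <;> simp [e0, e1, h0]
  · intro e u
    obtain ⟨w, hw, hw'⟩ := hact e u
    refine ⟨w, hw, ?_⟩
    show ![Multiplicative.toAdd (ψ w) 0, Multiplicative.toAdd (ψ w) 1] = _
    rw [hw' 0, hw' 1]
    exact (hm3v (ρ e) _ (hsum u)).symm

/-- A subnormal block is quasisimple modulo `O_p(G)` or small. -/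
theorem quasi_or_small : Cfsg.IsQuasisimple ↥(bar p E) ∨ Small p E := by
  classical
  haveI : (pCore p ↥E).Normal := LocalStructure.pCore_normal
  obtain ⟨φ⟩ := h.bar_equiv hs
  obtain ⟨T, hT⟩ := h.ex
  rcases hT.2.2.2.2 with ⟨F, _, _, n, hn, ⟨iso⟩, hsec, -⟩ | ⟨hp2, m, ⟨iso⟩, hsec, -⟩
  · by_cases hq : 4 ≤ Fintype.card F
    · refine Or.inl (Components.isQuasisimple_congr ((iso.symm).trans φ) ?_)
      have htop : commutator (Matrix.SpecialLinearGroup (Fin 2) F) = ⊤ := WordLaws.commutator_SL2 hq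
      exact Components.isQuasisimple_congr ((Subgroup.topEquiv.symm).trans
        (MulEquiv.subgroupCongr htop.symm))
        (Cfsg.Agent.S1340.isQuasisimple_SL 2 le_rfl fun _ => hq)
    · exact Or.inr (h.small_of_linear hs hn iso hsec hq)
  · rcases Nat.lt_or_ge m 2 with hm | hm
    · exact Or.inr (h.small_of_alt hs hp2 iso hsec hm)
    · left
      have h5 : 5 ≤ Nat.card (Fin (2 * m + 1)) := by simp; omega
      refine Components.isQuasisimple_congr ((iso.symm).trans φ) ?_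
      haveI := alternatingGroup.isSimpleGroup h5
      refine Components.isQuasisimple_of_normal_le_center ?_ fun N hN hne =>
        ((hN.eq_bot_or_eq_top).resolve_right hne).le.trans bot_le
      rw [← _root_.commutator_def]
      exact commutator_alternatingGroup_eq_top h5

end IsBlockOf

end CfsgLib.BlockNormal85
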